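import Cfsg.Agent.TwoGenSolv66.Final
import Cfsg.Agent.S0144

/-!
# Reductions to the minimal counterexample

* `exists_ctx` : a minimal counterexample has a prime `p ≥ 5` and an element `x` as required.
* `isSolvable_of_twoGen` and `isSolvable_of_solubilizer` : the two theorems, given that no minimal
  counterexample exists.
-/

set_option autoImplicit false
set_option linter.unusedSectionVars false
set_option linter.unusedVariables false
set_option linter.style.haveILetI false

open scoped commutatorElement Pointwise

namespace CfsgLib.TwoGenSolv66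

open Subgroup CfsgLib.SolvSig CfsgLib.Transitivity

universe u

/-- There is no minimal counterexample. -/
def NoMinTwoGen : Prop :=
  ∀ (G : Type u) [Group G] [Finite G], ¬ MinTwoGen G

variable {G : Type u} [Group G] [Finite G]

theorem exists_ctx (h : MinTwoGen G) : ∃ p : ℕ, p.Prime ∧ ∃ x : G, Ctx G p x := by
  haveI := h.nontrivial
  have hne : (Nat.card G).primeFactors.Nonempty :=
    Nat.nonempty_primeFactors.mpr Finite.one_lt_card
  set p := (Nat.card G).primeFactors.max' hne with hp
  obtain ⟨hpp, hpd, -⟩ := Nat.mem_primeFactors.mp (Finset.max'_mem _ hne)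
  have hmax : ∀ q : ℕ, q.Prime → q ∣ Nat.card G → q ≤ p := fun q hq hd =>
    Finset.le_max' _ _ (Nat.mem_primeFactors.mpr ⟨hq, hd, Nat.card_pos.ne'⟩)
  have h5 : 5 ≤ p := by
    by_contra h5
    refine h.not_solvable ?_
    haveI := Fact.mk Nat.prime_two
    haveI := Fact.mk Nat.prime_three
    refine Cfsg.Agent.S0144.result (p := 2) (q := 3) (a := (Nat.card G).factorization 2)
      (b := (Nat.card G).factorization 3) Nat.prime_two Nat.prime_three ?_
    have hsub : (Nat.card G).primeFactors ⊆ {2, 3} := fun q hq => by
      obtain ⟨hqp, hqd, -⟩ := Nat.mem_primeFactors.mp hq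
      have := hmax q hqp hqd
      have := hqp.two_le
      have : q ≠ 4 := fun e => by subst e; norm_num at hqp
      simp only [Finset.mem_insert, Finset.mem_singleton]
      omega
    conv_lhs => rw [← Nat.factorization_prod_pow_eq_self Nat.card_pos.ne']
    rw [Finsupp.prod, Nat.support_factorization]
    rw [Finset.prod_subset hsub fun q _ hq => by
      rw [Finsupp.notMem_support_iff.mp (by rwa [Nat.support_factorization]), pow_zero]]
    rw [Finset.prod_pair (by norm_num)]
  haveI := Fact.mk hpp
  obtain ⟨T⟩ : Nonempty (Sylow p G) := inferInstance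
  have hT : (⊤ : Subgroup (T : Subgroup G)) ≠ ⊥ := by
    have hT' : (T : Subgroup G) ≠ ⊥ := T.ne_bot_of_dvd_card hpd
    haveI := (Subgroup.nontrivial_iff_ne_bot _).mpr hT'
    exact top_ne_bot
  obtain ⟨z, -, hzc, hzo⟩ := OddOrder.BG4.exists_central_orderOf_prime T.2 hT
  refine ⟨p, hpp, z, h, h5, hmax, by rwa [Subgroup.orderOf_coe], T, z.2, fun t ht => ?_⟩
  exact mem_centralizer_singleton_iff.mpr
    (congrArg Subtype.val (mem_center_iff.mp hzc ⟨t, ht⟩))

/-- A group with solvable two-generated subgroups is solvable. -/
theorem isSolvable_of_twoGen (hno : NoMinTwoGen.{u}) : ∀ (G : Type u) [Group G] [Finite G],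
    (∀ a b : G, Group.IsSolvable (Subgroup.closure ({a, b} : Set G))) → Group.IsSolvable G := by
  suffices H : ∀ (n : ℕ) (G : Type u) [Group G] [Finite G], Nat.card G ≤ n →
      (∀ a b : G, Group.IsSolvable (Subgroup.closure ({a, b} : Set G))) → Group.IsSolvable G from
    fun G _ _ h => H _ G le_rfl h
  intro n
  induction n with
  | zero => intro G _ _ hn; have := Nat.card_pos (α := G); omega
  | succ n ih =>
  intro G _ _ hn hG
  by_contra hns
  have hsub : ∀ H : Subgroup G, H ≠ ⊤ → Group.IsSolvable ↥H := fun H hH => by
    have hlt : Nat.card H < Nat.card G := by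
      rw [← Subgroup.card_top (G := G)]
      exact Set.ncard_lt_ncard (SetLike.coe_ssubset_coe.mpr (lt_top_iff_ne_top.mpr hH))
        (Set.toFinite _)
    refine ih H (by omega) fun a b => ?_
    haveI : Group.IsSolvable ↥((Subgroup.closure ({a, b} : Set H)).map H.subtype) := by
      rw [MonoidHom.map_closure, Set.image_pair]; exact hG a b
    exact Group.isSolvable_of_isSolvable_injective
      (f := (Subgroup.equivMapOfInjective _ H.subtype H.subtype_injective).toMonoidHom)
      (MulEquiv.injective _)
  refine hno G ⟨fun N hN => ?_, hns, hsub, fun a b e => hns ?_⟩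
  · by_contra! hh
    haveI := hsub N hh.2
    haveI : Group.IsSolvable (G ⧸ N) := by
      have hlt : Nat.card (G ⧸ N) < Nat.card G := by
        have h1 := N.card_mul_index
        have h2 : 1 < Nat.card N := one_lt_card_iff_ne_bot N |>.mpr hh.1
        have h3 : 0 < N.index := Nat.pos_of_ne_zero index_ne_zero_of_finite
        rw [← index_eq_card]
        nlinarith
      refine ih (G ⧸ N) (by omega) fun a b => ?_
      obtain ⟨a, rfl⟩ := QuotientGroup.mk'_surjective N a
      obtain ⟨b, rfl⟩ := QuotientGroup.mk'_surjective N b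
      haveI := hG a b
      rw [← Set.image_pair, ← MonoidHom.map_closure]
      exact Group.isSolvable_of_surjective
        ((QuotientGroup.mk' N).subgroupMap_surjective (Subgroup.closure {a, b}))
    exact hns ((Group.isSolvable_iff_subgroup_quotient N).mpr ⟨inferInstance, inferInstance⟩)
  · haveI : Group.IsSolvable (⊤ : Subgroup G) := e ▸ hG a b
    exact Group.isSolvable_of_surjective
      (f := (Subgroup.topEquiv : (⊤ : Subgroup G) ≃* G).toMonoidHom) (MulEquiv.surjective _)

/-- The solubilizer of `x`. -/
def sol (x : G) : Set G := {y | Group.IsSolvable ↥(Subgroup.closure ({x, y} : Set G))}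

/-- A group whose solubilizers are subgroups is solvable. -/
theorem isSolvable_of_solubilizer (hno : NoMinTwoGen.{u}) : ∀ (G : Type u) [Group G] [Finite G],
    (∀ x : G, ∃ H : Subgroup G, (H : Set G) = sol x) → Group.IsSolvable G := by
  suffices H : ∀ (n : ℕ) (G : Type u) [Group G] [Finite G], Nat.card G ≤ n →
      (∀ x : G, ∃ H : Subgroup G, (H : Set G) = sol x) → Group.IsSolvable G from
    fun G _ _ h => H _ G le_rfl h
  intro n
  induction n with
  | zero => intro G _ _ hn; have := Nat.card_pos (α := G); omega
  | succ n ih =>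
  intro G _ _ hn hG
  by_contra hns
  have hsub : ∀ H : Subgroup G, H ≠ ⊤ → Group.IsSolvable ↥H := fun H hH => by
    have hlt : Nat.card H < Nat.card G := by
      rw [← Subgroup.card_top (G := G)]
      exact Set.ncard_lt_ncard (SetLike.coe_ssubset_coe.mpr (lt_top_iff_ne_top.mpr hH))
        (Set.toFinite _)
    refine ih H (by omega) fun a => ?_
    obtain ⟨S, hS⟩ := hG a
    refine ⟨S.subgroupOf H, ?_⟩
    ext b
    have heq : (Subgroup.closure ({a, b} : Set H)).map H.subtype =
        Subgroup.closure ({(a : G), (b : G)} : Set G) := by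
      rw [MonoidHom.map_closure, Set.image_pair]; rfl
    have hSb : ((b : G) ∈ S) ↔ (b : G) ∈ sol (a : G) := by rw [← hS]; rfl
    show (b : G) ∈ S ↔ _
    rw [hSb]
    have e := Subgroup.equivMapOfInjective (Subgroup.closure ({a, b} : Set H)) H.subtype
      H.subtype_injective
    show Group.IsSolvable ↥(Subgroup.closure ({(a : G), (b : G)} : Set G)) ↔
      Group.IsSolvable ↥(Subgroup.closure ({a, b} : Set H))
    rw [← heq]
    constructor
    · intro h
      haveI := h
      exact Group.isSolvable_of_isSolvable_injective (f := e.toMonoidHom) e.injective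
    · intro h
      haveI := h
      exact Group.isSolvable_of_surjective (f := e.toMonoidHom) e.surjective
  have hsimple : ∀ N : Subgroup G, N.Normal → N = ⊥ ∨ N = ⊤ := fun N hN => by
    by_contra! hh
    haveI := hsub N hh.2
    haveI : Group.IsSolvable (G ⧸ N) := by
      have hlt : Nat.card (G ⧸ N) < Nat.card G := by
        have h1 := N.card_mul_index
        have h2 : 1 < Nat.card N := one_lt_card_iff_ne_bot N |>.mpr hh.1
        have h3 : 0 < N.index := Nat.pos_of_ne_zero index_ne_zero_of_finite
        rw [← index_eq_card]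
        nlinarith
      refine ih (G ⧸ N) (by omega) fun a => ?_
      obtain ⟨a, rfl⟩ := QuotientGroup.mk'_surjective N a
      obtain ⟨S, hS⟩ := hG a
      refine ⟨S.map (QuotientGroup.mk' N), ?_⟩
      have key : ∀ b : G, b ∈ sol a ↔ QuotientGroup.mk' N b ∈ sol (QuotientGroup.mk' N a) := by
        intro b
        have hmap : (Subgroup.closure ({a, b} : Set G)).map (QuotientGroup.mk' N) =
            Subgroup.closure ({QuotientGroup.mk' N a, QuotientGroup.mk' N b} : Set (G ⧸ N)) := by
          rw [MonoidHom.map_closure, Set.image_pair]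
        show Group.IsSolvable ↥(Subgroup.closure ({a, b} : Set G)) ↔ Group.IsSolvable
          ↥(Subgroup.closure ({QuotientGroup.mk' N a, QuotientGroup.mk' N b} : Set (G ⧸ N)))
        rw [← hmap]
        constructor
        · intro h
          haveI := h
          exact Group.isSolvable_of_surjective
            ((QuotientGroup.mk' N).subgroupMap_surjective (Subgroup.closure {a, b}))
        · intro h
          haveI := h
          set C := Subgroup.closure ({a, b} : Set G)
          let g := (QuotientGroup.mk' N).subgroupMap C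
          haveI : Group.IsSolvable g.ker := by
            refine Group.isSolvable_of_isSolvable_injective
              (f := (⟨⟨fun z => ⟨((z : C) : G), (QuotientGroup.eq_one_iff _).mp
                (congrArg Subtype.val z.2)⟩, rfl⟩, fun _ _ => rfl⟩ : g.ker →* N)) ?_
            intro z w hzw
            exact Subtype.ext (Subtype.ext (congrArg Subtype.val hzw :))
          haveI : Group.IsSolvable (C ⧸ g.ker) :=
            Group.isSolvable_of_isSolvable_injective (f := QuotientGroup.kerLift g) (QuotientGroup.kerLift_injective g)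
          exact (Group.isSolvable_iff_subgroup_quotient g.ker).mpr ⟨inferInstance, inferInstance⟩
      ext y
      obtain ⟨b, rfl⟩ := QuotientGroup.mk'_surjective N y
      constructor
      · rintro ⟨c, hc, hcb⟩
        rw [← hcb, ← key, ← hS]; exact hc
      · intro hb
        exact ⟨b, by rw [← key, ← hS] at hb; exact hb, rfl⟩
    exact hns ((Group.isSolvable_iff_subgroup_quotient N).mpr ⟨inferInstance, inferInstance⟩)
  haveI : Nontrivial G := by
    by_contra hn'
    rw [not_nontrivial_iff_subsingleton] at hn'
    exact hns (Group.isSolvable_of_comm fun a b => Subsingleton.elim _ _)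
  by_cases hall : ∀ a b : G, Group.IsSolvable ↥(Subgroup.closure ({a, b} : Set G))
  · exact hns (isSolvable_of_twoGen hno G hall)
  push Not at hall
  obtain ⟨a₀, b₀, hab⟩ := hall
  have hsym : ∀ a b : G, b ∈ sol a → a ∈ sol b := fun a b hb => by
    show Group.IsSolvable ↥(Subgroup.closure ({b, a} : Set G))
    rw [Set.pair_comm]; exact hb
  -- every nonidentity element has a proper solubilizer
  have hprop : ∀ z : G, z ≠ 1 → ∃ H : Subgroup G, (H : Set G) = sol z ∧ H ≠ ⊤ := by
    intro z hz
    obtain ⟨H, hH⟩ := hG z
    refine ⟨H, hH, ?_⟩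
    rintro rfl
    refine hab ?_
    obtain ⟨S, hS⟩ := hG a₀
    have hS' : ∀ y, y ∈ S ↔ y ∈ sol a₀ := fun y => by rw [← hS]; rfl
    have hzS : (Group.conjugatesOfSet ({z} : Set G)) ⊆ (S : Set G) := by
      intro w hw
      simp only [Group.conjugatesOfSet, Set.mem_iUnion, Set.mem_singleton_iff] at hw
      obtain ⟨z', hz', hw⟩ := hw; rw [hz'] at hw
      obtain ⟨g, rfl⟩ := isConj_iff.mp hw
      refine (hS' _).mpr (hsym _ _ ?_)
      -- `Sol(g z g⁻¹) = G`
      have h1 : g⁻¹ * a₀ * g ∈ sol z := by rw [← hH]; exact mem_top _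
      simp only [sol, Set.mem_setOf_eq] at h1 ⊢
      haveI := h1
      have heq : (Subgroup.closure ({z, g⁻¹ * a₀ * g} : Set G)).map (MulAut.conj g).toMonoidHom =
          Subgroup.closure ({g * z * g⁻¹, a₀} : Set G) := by
        rw [MonoidHom.map_closure, Set.image_pair]
        simp [mul_assoc]
      rw [← heq]
      exact Group.isSolvable_of_surjective
        ((MulAut.conj g).toMonoidHom.subgroupMap_surjective _)
    have hle : Subgroup.normalClosure ({z} : Set G) ≤ S := (closure_le S).mpr hzS
    have htop := (hsimple _ (inferInstance : (Subgroup.normalClosure ({z} : Set G)).Normal)).resolve_left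
      fun e => hz (mem_bot.mp (e ▸ subset_normalClosure rfl))
    exact (hS' b₀).mp (hle (htop ▸ mem_top b₀))
  -- the maximal subgroups form a partition
  obtain ⟨z, hz⟩ := exists_ne (1 : G)
  obtain ⟨M, hM, hMtop⟩ := hprop z hz
  have huniq : ∀ (K : Subgroup G) (w : G), K ≠ ⊤ → w ∈ K → ∀ H : Subgroup G, (H : Set G) = sol w →
      K ≤ H := by
    intro K w hK hw H hH k hk
    have : k ∈ sol w := by
      haveI := hsub K hK
      exact CfsgLib.Coprime.isSolvable_of_le ((closure_le K).mpr (by
        rintro _ (rfl | rfl) <;> assumption))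
    rwa [← hH] at this
  have hzM : z ∈ M := by
    rw [← SetLike.mem_coe, hM]
    show Group.IsSolvable _
    rw [Set.insert_eq_of_mem (Set.mem_singleton z), ← zpowers_eq_closure]
    exact SolvSig.isSolvable_zpowers z
  have hMmax : ∀ w ∈ M, w ≠ 1 → ∀ K : Subgroup G, K ≠ ⊤ → w ∈ K → K ≤ M := by
    intro w hw hw1 K hK hwK
    obtain ⟨H, hH, hHtop⟩ := hprop w hw1
    have h1 : M ≤ H := huniq M w hMtop hw H hH
    exact (huniq K w hK hwK H hH).trans (huniq H z hHtop (h1 hzM) M hM)
  have hMn : normalizer (M : Set G) = M := by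
    refine le_antisymm (hMmax z hzM hz _ ?_ (le_normalizer hzM)) le_normalizer
    intro e
    rcases hsimple M (normalizer_eq_top_iff.mp e) with e' | e'
    · exact hz (mem_bot.mp (e' ▸ hzM))
    · exact hMtop e'
  have hfrob : Cfsg.IsFrobeniusComplement M := by
    refine ⟨fun e => hz (mem_bot.mp (e ▸ hzM)), hMtop, fun g hg => ?_⟩
    refine (Subgroup.eq_bot_iff_forall _).mpr fun w hw => ?_
    by_contra hw1
    have hle : (MulAut.conj g • M : Subgroup G) ≤ M := hMmax w hw.1 hw1 _ (fun e => hMtop ?_) hw.2
    · refine hg ?_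
      rw [← hMn]
      exact mem_normalizer_iff_map_conj_eq.mpr (eq_of_le_of_card_ge hle
        (Coprime.card_conj_smul g M).ge)
    · refine card_eq_iff_eq_top _ |>.mp ?_
      rw [← Coprime.card_conj_smul g M, e, card_top]
  obtain ⟨N, hN, hc, -⟩ := FrobComp.exists_kernel hfrob
  rcases hsimple N hN with rfl | rfl
  · exact hfrob.2.1 (isComplement'_bot_left.mp hc)
  · exact hfrob.1 (isComplement'_top_left.mp hc)

end CfsgLib.TwoGenSolv66
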