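import Cfsg.Agent.TwoGenSolv66.Two
import Cfsg.Agent.TwoGenSolv66.Reduce

/-!
# No minimal counterexample exists

Fewer than `p` big subgroups contain all maximal subgroups through `x` with an object.
-/

set_option autoImplicit false
set_option linter.unusedSectionVars false
set_option linter.unusedVariables false
set_option linter.style.haveILetI false

open scoped commutatorElement Pointwise

namespace CfsgLib.TwoGenSolv66

open Subgroup CfsgLib.SolvSig CfsgLib.Transitivity

universe u

/-- The members at two, unless a high member exists for `p = 5`. -/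
noncomputable def twoSet {G : Type*} [Group G] [Finite G] (p : ℕ) (x : G) : Finset (Subgroup G) :=
  (Set.toFinite {M : Subgroup G | (IsTriv 2 G ∨ p = 5) ∧ (p = 5 → ∀ L : Subgroup G, ¬ IsHi x L) ∧
    Member p x 2 (coverSet p x) M}).toFinset

variable {G : Type u} [Group G] [Finite G] {p : ℕ} [hp : Fact p.Prime] {x : G}

theorem mem_twoSet {M : Subgroup G} : M ∈ twoSet p x ↔ (IsTriv 2 G ∨ p = 5) ∧
    (p = 5 → ∀ L : Subgroup G, ¬ IsHi x L) ∧ Member p x 2 (coverSet p x) M :=
  Set.Finite.mem_toFinset _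

namespace Ctx

variable (h : Ctx G p x)
include h

theorem big_of_mem_twoSet {M : Subgroup G} (hM : M ∈ twoSet p x) : Big x M := by
  obtain ⟨hw, hno, hm⟩ := mem_twoSet.mp hM
  exact h.member_big (h.setup_two hw hno) (h.hubHyp_two hw hno) hm

theorem card_twoSet_le : (twoSet p x).card ≤ 2 := by
  classical
  have h1 : ((twoSet p x).filter PinnedTwo).card ≤ 1 := Finset.card_le_one.mpr fun a ha b hb => by
    obtain ⟨hw, hno, hm⟩ := mem_twoSet.mp (Finset.mem_filter.mp ha).1
    exact h.pinned_two_eq hw hno hm (Finset.mem_filter.mp ha).2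
      (mem_twoSet.mp (Finset.mem_filter.mp hb).1).2.2 (Finset.mem_filter.mp hb).2
  have h2 : ((twoSet p x).filter fun M => ¬ PinnedTwo M).card ≤ 1 :=
    Finset.card_le_one.mpr fun a ha b hb => by
      obtain ⟨hw, hno, hm⟩ := mem_twoSet.mp (Finset.mem_filter.mp ha).1
      exact h.unpinned_two_eq hw hno hm (Finset.mem_filter.mp ha).2
        (mem_twoSet.mp (Finset.mem_filter.mp hb).1).2.2 (Finset.mem_filter.mp hb).2
  rw [← Finset.card_filter_add_card_filter_not (s := twoSet p x) PinnedTwo]
  omega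

/-- A maximal subgroup generated by objects and fixed elements of a big one is that one. -/
theorem eq_of_objs_le {M L : Subgroup G} (hM : IsCoatom M) (hx : x ∈ M) (hL : Big x L)
    (hobj : ∀ (t : ℕ) (A : Subgroup G), IsObj p x t A → A ≤ M → A ≤ L) : M = L :=
  ((hM.le_iff.mp (h.le_of_core'_le hM.1 hx hL (h.core'_le_of_objs hM.1 hx hobj
    (inf_le_right.trans hL.centralizer_le)))).resolve_left hL.coatom.1).symm

/-- Every maximal subgroup through `x` with an object is in one of the three sets. -/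
theorem mem_cover {M : Subgroup G} (hM : IsCoatom M) (hx : x ∈ M) {r : ℕ} {A : Subgroup G}
    (hA : IsObj p x r A) (hAM : A ≤ M) :
    M ∈ bigSet p x ∨ M ∈ threeSet p x ∨ M ∈ twoSet p x := by
  haveI : Fact (Nat.Prime 2) := ⟨Nat.prime_two⟩
  by_contra! hh
  obtain ⟨hb, h3, h2⟩ := hh
  have hns : ¬ IsStrongMember p x M := fun e => hb (mem_bigSet.mpr (Or.inl e))
  -- if all objects are in one big subgroup of the cover, `M` is that subgroup
  have hall : ∀ L ∈ coverSet p x, (∀ (t : ℕ) (C : Subgroup G), IsObj p x t C → C ≤ M → C ≤ L) →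
      False := fun L hL hobj => by
    rw [← h.eq_of_objs_le hM hx (h.big_of_mem_coverSet hL) hobj] at hL
    exact (mem_coverSet.mp hL).elim hb h3
  by_cases hmix : (∃ B, IsObj p x 2 B ∧ B ≤ M) ∧ ∃ C, IsObj p x 3 C ∧ C ≤ M
  · obtain ⟨⟨B, hB, hBM⟩, C, hC, hCM⟩ := hmix
    obtain ⟨hp5, -, ht3⟩ := h.mixed_low hM hx hb hC hCM hB hBM
    have hin : ∀ C, IsObj p x 3 C → C ≤ M → ∃ L ∈ bigSet p x, C ≤ L := fun C hC hCM => by
      by_contra! hav
      exact h3 (mem_threeSet.mpr ⟨ht3, hM, hx, C, ⟨hC, hav⟩, hCM⟩)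
    obtain ⟨L, hL, -⟩ := hin C hC hCM
    have hLhi := h.hi_of_mem_bigSet hp5 ht3 hL
    refine hall L (mem_coverSet.mpr (Or.inl hL)) fun t D hD hDM => ?_
    rcases (h.obj_cases hM hx hns hD hDM).1 with rfl | rfl
    · exact h.obj_le_hi hp5 hLhi hD
    · obtain ⟨L', hL', hDL'⟩ := hin D hD hDM
      rwa [h.hi_unique hp5 hLhi (h.hi_of_mem_bigSet hp5 ht3 hL')]
  obtain ⟨hr, hwk⟩ := h.obj_cases hM hx hns hA hAM
  have hS : Single p x r M := by
    rcases hr with rfl | rfl
    · exact h.single_of_no_other hM hx hb (Or.inl ⟨rfl, rfl⟩) hA hAM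
        fun C hC hCM => hmix ⟨⟨A, hA, hAM⟩, C, hC, hCM⟩
    · exact h.single_of_no_other hM hx hb (Or.inr ⟨rfl, rfl⟩) hA hAM
        fun B hB hBM => hmix ⟨⟨B, hB, hBM⟩, A, hA, hAM⟩
  obtain ⟨hX, hXM⟩ := h.xPart_obj hS
  have hav : ∀ L ∈ coverSet p x, ¬ xPart r x M ≤ L := fun L hL hXL =>
    hall L hL fun t C hC hCM => (h.obj_le_xPart hS hC hCM).trans hXL
  rcases hr with rfl | rfl
  · have hw : IsTriv 2 G ∨ p = 5 := hwk.case.imp id And.right
    refine h2 (mem_twoSet.mpr ⟨hw, fun hp5 L hL => ?_, hM, hx, _, ⟨hX, hav⟩, hXM⟩)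
    exact hav L (mem_coverSet.mpr (Or.inl (mem_bigSet.mpr (Or.inr hL)))) (h.obj_le_hi hp5 hL hX)
  · have ht3 : IsTriv 3 G := hwk.case.resolve_right fun e => by norm_num at e
    exact h3 (mem_threeSet.mpr
      ⟨ht3, hM, hx, _, ⟨hX, fun L hL => hav L (mem_coverSet.mpr (Or.inl hL))⟩, hXM⟩)

theorem false : False := by
  classical
  refine h.false_of_big_cover (coverSet p x ∪ twoSet p x) (fun L hL =>
    (Finset.mem_union.mp hL).elim h.big_of_mem_coverSet h.big_of_mem_twoSet) ?_
    fun M hM hx r A hA hAM => ?_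
  · have h1 := h.card_coverSet_le_succ
    have h2 := h.card_twoSet_le
    have h4 := Finset.card_union_le (coverSet p x) (twoSet p x)
    have hp5' := h.five
    by_cases hp5 : p = 5
    · by_cases hex : ∃ L : Subgroup G, IsHi x L
      · have h3 := h.card_bigSet_le_two hp5
        have he : twoSet p x = ∅ := Finset.eq_empty_of_forall_notMem fun M hM => by
          obtain ⟨L, hL⟩ := hex
          exact (mem_twoSet.mp hM).2.1 hp5 L hL
        rw [he, Finset.union_empty] at h4 ⊢
        omega
      · push Not at hex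
        have h3 : (bigSet p x).card ≤ 1 := Finset.card_le_one.mpr fun a ha b hb =>
          h.strong_five_unique hp5 ((mem_bigSet.mp ha).resolve_right (hex a))
            ((mem_bigSet.mp hb).resolve_right (hex b))
        omega
    · have h3 := h.two_mul_card_bigSet_lt hp5
      have : p ≠ 6 := fun e => by have := hp.out; subst e; norm_num at this
      omega
  · rcases h.mem_cover hM hx hA hAM with e | e | e
    · exact Finset.mem_union_left _ (mem_coverSet.mpr (Or.inl e))
    · exact Finset.mem_union_left _ (mem_coverSet.mpr (Or.inr e))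
    · exact Finset.mem_union_right _ e

end Ctx

theorem noMinTwoGen : NoMinTwoGen.{u} := fun G _ _ hG => by
  obtain ⟨p, hp, x, hx⟩ := exists_ctx hG
  haveI := Fact.mk hp
  exact hx.false

end CfsgLib.TwoGenSolv66
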