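import Cfsg.Agent.TwoGenSolv66.Weak

/-!
# Subgroups containing the carrier, and avoiding a few of them

* `Big x L` : a maximal subgroup containing every element that carries `x` into its centraliser.
* `Ctx.core'_le_of_objs` : `O_{p'}(H)` is generated by objects and fixed elements.
* `Ctx.exists_avoid` : a moved invariant group has moved elements outside a few big subgroups.
-/

set_option autoImplicit false
set_option linter.unusedSectionVars false
set_option linter.unusedVariables false
set_option linter.style.haveILetI false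

open scoped commutatorElement Pointwise

namespace CfsgLib.TwoGenSolv66

open Subgroup CfsgLib.SolvSig CfsgLib.Transitivity

universe u

/-- A maximal subgroup containing the carrier of `x`. -/
structure Big {G : Type*} [Group G] (x : G) (L : Subgroup G) : Prop where
  coatom : IsCoatom L
  carrier_le : carrier x ⊆ L

variable {G : Type u} [Group G] [Finite G] {p : ℕ} [hp : Fact p.Prime] {x : G}

theorem Big.centralizer_le {L : Subgroup G} (hL : Big x L) : centralizer ({x} : Set G) ≤ L := by
  intro c hc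
  refine hL.carrier_le ?_
  show Commute (c * x * c⁻¹) x
  rw [mem_centralizer_singleton_iff.mp hc, mul_inv_cancel_right]

theorem Big.mem {L : Subgroup G} (hL : Big x L) : x ∈ L :=
  hL.centralizer_le (mem_centralizer_singleton_iff.mpr rfl)

theorem self_mem_centralizer (x : G) : x ∈ centralizer ({x} : Set G) :=
  mem_centralizer_singleton_iff.mpr rfl

namespace Ctx

variable (h : Ctx G p x)
include h

/-- A subgroup through `x` lies in `O_{p'}` times the carrier. -/
theorem exists_mul_mem_carrier {H : Subgroup G} (hH : H ≠ ⊤) (hx : x ∈ H) {g : G}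
    (hg : g * x * g⁻¹ ∈ H) : ∃ o ∈ core' p H, o * g ∈ carrier x := by
  obtain ⟨o, ho, hc⟩ := h.exists_conj_commute hH hx (y := g * x * g⁻¹)
    (isConj_iff.mpr ⟨g, rfl⟩) hg
  refine ⟨o, ho, ?_⟩
  show Commute (o * g * x * (o * g)⁻¹) x
  rwa [show o * g * x * (o * g)⁻¹ = o * (g * x * g⁻¹) * o⁻¹ by group]

/-- An element carrying `x` into a big subgroup lies in it. -/
theorem mem_of_conj_mem_big {L : Subgroup G} (hL : Big x L) {g : G} (hg : g * x * g⁻¹ ∈ L) :
    g ∈ L := by
  obtain ⟨o, ho, hog⟩ := h.exists_mul_mem_carrier hL.coatom.1 hL.mem hg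
  have := mul_mem (inv_mem (core'_le p L ho)) (hL.carrier_le hog)
  rwa [inv_mul_cancel_left] at this

/-- A subgroup through `x` whose `O_{p'}` lies in a big one lies in it. -/
theorem le_of_core'_le {H L : Subgroup G} (hH : H ≠ ⊤) (hx : x ∈ H) (hL : Big x L)
    (hK : core' p H ≤ L) : H ≤ L := by
  intro g hg
  obtain ⟨o, ho, hog⟩ := h.exists_mul_mem_carrier hH hx (g := g)
    (mul_mem (mul_mem hg hx) (inv_mem hg))
  have := mul_mem (inv_mem (hK ho)) (hL.carrier_le hog)
  rwa [inv_mul_cancel_left] at this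

/-- An invariant group is moved only through objects. -/
theorem commutator_le_of_objs {r : ℕ} (hr : r.Prime) (hne : r ≠ p) {R J : Subgroup G}
    (hR : IsPGroup r R) (hn : x ∈ normalizer (R : Set G))
    (hobj : ∀ A : Subgroup G, IsObj p x r A → A ≤ R → A ≤ J) : ⁅R, zpowers x⁆ ≤ J := by
  by_cases hc : x ∈ centralizer (R : Set G)
  · have : ⁅R, zpowers x⁆ = ⊥ := by
      rw [commutator_comm, commutator_eq_bot_iff_le_centralizer, zpowers_le]; exact hc
    rw [this]; exact bot_le
  · obtain ⟨ho, hle⟩ := h.obj_of_moved hr hne hR hn hc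
    exact hobj _ ho hle

/-- An invariant `r`-group lies in any group containing its objects and its fixed elements. -/
theorem le_of_objs {r : ℕ} (hr : r.Prime) (hne : r ≠ p) {R J : Subgroup G}
    (hR : IsPGroup r R) (hn : x ∈ normalizer (R : Set G))
    (hobj : ∀ A : Subgroup G, IsObj p x r A → A ≤ R → A ≤ J)
    (hfix : R ⊓ centralizer ({x} : Set G) ≤ J) : R ≤ J := by
  refine (Coprime.commutator_sup_centralizer (zpowers_le.mpr hn)
    (h.coprime (h.not_dvd_of_isPGroup hr hne hR)) (Or.inl (isSolvable_zpowers' x))).ge.trans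
    (sup_le (h.commutator_le_of_objs hr hne hR hn hobj) ?_)
  rwa [← centralizer_singleton_eq]

/-- `O_{p'}(H)` lies in any group containing the objects and the fixed elements of `H`. -/
theorem core'_le_of_objs {H J : Subgroup G} (hH : H ≠ ⊤) (hx : x ∈ H)
    (hobj : ∀ (t : ℕ) (A : Subgroup G), IsObj p x t A → A ≤ H → A ≤ J)
    (hfix : H ⊓ centralizer ({x} : Set G) ≤ J) : core' p H ≤ J := by
  set K := core' p H
  have hKp : ¬ p ∣ Nat.card K := PLocal.not_dvd_iff_coprime.mp (card_core'_coprime p H)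
  have hxK : zpowers x ≤ normalizer (K : Set G) :=
    zpowers_le.mpr (normalizer_le_normalizer_core' p H (le_normalizer hx))
  rw [← subgroupOf_eq_top, ← index_eq_one]
  by_contra hne
  obtain ⟨t, ht, htd⟩ := Nat.exists_prime_and_dvd hne
  haveI := Fact.mk ht
  have htp : t ≠ p := fun e => hKp (e ▸ htd.trans (index_dvd_card _))
  obtain ⟨P, hP⟩ := Coprime.exists_invariant_sylow hxK (h.coprime hKp)
    (Or.inl (isSolvable_zpowers' x)) t
  have hPH : (P : Subgroup ↥K).map K.subtype ≤ H := (map_subtype_le _).trans (core'_le p H)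
  have hPJ : (P : Subgroup ↥K).map K.subtype ≤ J := h.le_of_objs ht htp (P.2.map _)
    (hP (mem_zpowers x)) (fun A hA hle => hobj t A hA (hle.trans hPH))
    ((inf_le_inf_right _ hPH).trans hfix)
  exact P.not_dvd_index (htd.trans (index_dvd_of_le fun g hg => hPJ ⟨g, hg, rfl⟩))

/-- A proper invariant subgroup containing the fixed elements has index above `p`. -/
theorem mul_card_le_of_fixed_le {r : ℕ} (hr : r.Prime) (hne : r ≠ p) {U N : Subgroup G}
    (hU : IsPGroup r U) (hxU : x ∈ normalizer (U : Set G)) (hNU : N ≤ U)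
    (hxN : x ∈ normalizer (N : Set G)) (hfix : U ⊓ centralizer ({x} : Set G) ≤ N) {d : G}
    (hdU : d ∈ U) (hdN : d ∉ N) : (p + 1) * Nat.card N ≤ Nat.card U := by
  let f : Fin (p + 1) × ↥N → ↥U := fun il =>
    if (il.1 : ℕ) < p then ⟨x ^ (il.1 : ℕ) * d * (x ^ (il.1 : ℕ))⁻¹ * il.2,
      mul_mem ((mem_normalizer_iff.mp (pow_mem hxU _) d).mp hdU) (hNU il.2.2)⟩
    else ⟨il.2, (hNU il.2.2)⟩
  have hf : Function.Injective f := by
    have hdi : ∀ i : ℕ, ∀ a : ↥N, x ^ i * d * (x ^ i)⁻¹ * (a : G) ∉ N := by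
      intro i a hm
      have h1 := (mem_normalizer_iff.mp (inv_mem (pow_mem hxN i)) _).mp (mul_mem hm (inv_mem a.2))
      exact hdN (by simpa [mul_assoc] using h1)
    rintro ⟨i, a⟩ ⟨j, b⟩ e
    have e' := congrArg Subtype.val e
    dsimp only [f] at e'
    split_ifs at e' with hi hj hj
    · have hij : ∀ {i j : ℕ} {a b : ↥N}, i ≤ j → j < p →
          x ^ i * d * (x ^ i)⁻¹ * (a : G) = x ^ j * d * (x ^ j)⁻¹ * (b : G) → i = j := by
        intro i j a b hle hjp e'
        by_contra hne'
        set k := j - i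
        have hk0 : 0 < k := by omega
        have hkp : k < p := by omega
        have hjk : x ^ j = x ^ i * x ^ k := by rw [← pow_add]; congr 1; omega
        have hmemN : d⁻¹ * (x ^ k * d * (x ^ k)⁻¹) ∈ N := by
          have e1 : d⁻¹ * (x ^ k * d * (x ^ k)⁻¹) =
              (x ^ i)⁻¹ * ((a : G) * (b : G)⁻¹) * x ^ i := by
            have e2 : x ^ j * d * (x ^ j)⁻¹ = x ^ i * d * (x ^ i)⁻¹ * (a : G) * (b : G)⁻¹ := by
              rw [e']; group
            calc d⁻¹ * (x ^ k * d * (x ^ k)⁻¹)
                = d⁻¹ * ((x ^ i)⁻¹ * (x ^ j * d * (x ^ j)⁻¹) * x ^ i) := by rw [hjk]; group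
              _ = _ := by rw [e2]; group
          rw [e1]
          have h3 := (mem_normalizer_iff.mp (inv_mem (pow_mem hxN i)) _).mp
            (mul_mem a.2 (inv_mem b.2))
          rwa [inv_inv] at h3
        have hall : ∀ m : ℕ, d⁻¹ * ((x ^ k) ^ m * d * ((x ^ k) ^ m)⁻¹) ∈ N := by
          intro m
          induction m with
          | zero => simp
          | succ m ih =>
            have e1 : d⁻¹ * ((x ^ k) ^ (m + 1) * d * ((x ^ k) ^ (m + 1))⁻¹) =
                d⁻¹ * (x ^ k * d * (x ^ k)⁻¹) *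
                  (x ^ k * (d⁻¹ * ((x ^ k) ^ m * d * ((x ^ k) ^ m)⁻¹)) * (x ^ k)⁻¹) := by
              rw [pow_succ']; group
            rw [e1]
            exact mul_mem hmemN ((mem_normalizer_iff.mp (pow_mem hxN k) _).mp ih)
        have hgen : x ∈ zpowers (x ^ k) := by
          have hco : Nat.Coprime k (orderOf x) := by
            rw [h.ord]
            exact ((hp.out.coprime_iff_not_dvd).mpr (Nat.not_dvd_of_pos_of_lt hk0 hkp)).symm
          obtain ⟨m, hm⟩ := exists_pow_eq_self_of_coprime hco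
          exact ⟨m, by simpa using hm⟩
        obtain ⟨c, hc, hdc⟩ := Coprime.exists_fixed_mem_coset (A := zpowers x) (N := N) (k := d)
          (zpowers_le.mpr hxN) (h.coprime (h.not_dvd_of_isPGroup hr hne (hU.to_le hNU)))
          (Or.inl (isSolvable_zpowers' x)) (fun a ha => by
            have ha' : a ∈ zpowers (x ^ k) := zpowers_le.mpr hgen ha
            obtain ⟨m, rfl⟩ := mem_powers_iff_mem_zpowers.mpr ha'
            exact hall m)
        have hcU : c ∈ U := by
          have := mul_mem hdU (hNU hdc)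
          rwa [mul_inv_cancel_left] at this
        have hcL : c ∈ N := hfix (mem_inf.2 ⟨hcU, by rw [centralizer_singleton_eq]; exact hc⟩)
        have := mul_mem hcL (inv_mem hdc)
        exact hdN (by simpa [mul_assoc] using this)
      have h1 : (i : ℕ) = j := by
        rcases le_total (i : ℕ) j with hle | hle
        · exact hij hle hj e'
        · exact (hij hle hi e'.symm).symm
      obtain rfl := Fin.ext h1
      rw [mul_left_cancel_iff] at e'
      exact Prod.ext rfl (Subtype.ext e')
    · exact absurd (e'.symm ▸ b.2) (hdi _ a)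
    · exact absurd (e' ▸ a.2) (hdi _ b)
    · have h1 : (i : ℕ) = j := by have := i.2; have := j.2; omega
      obtain rfl := Fin.ext h1
      exact Prod.ext rfl (Subtype.ext e')
  have := Nat.card_le_card_of_injective f hf
  simpa using this

/-- A moved invariant group is not covered by `F` and a proper invariant subgroup containing its
fixed elements. -/
theorem exists_avoid_of_not_le {r : ℕ} (hr : r.Prime) (hne : r ≠ p) {U H : Subgroup G}
    (hU : IsPGroup r U) (hxU : x ∈ normalizer (U : Set G)) (hxH : x ∈ normalizer (H : Set G))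
    (hfix : U ⊓ centralizer ({x} : Set G) ≤ H) (hH : ¬ U ≤ H)
    (F : Finset (Subgroup G)) (hbig : ∀ L ∈ F, Big x L) (hcard : F.card ≤ p)
    (hnle : ∀ L ∈ F, ¬ U ≤ L) : ∃ d ∈ U, d ∉ H ∧ ∀ L ∈ F, d ∉ L := by
  classical
  by_contra! hcov
  have hk : 1 ≤ F.card := by
    obtain ⟨d, hdU, hdH⟩ := SetLike.not_le_iff_exists.mp hH
    obtain ⟨L, hL, -⟩ := hcov d hdU hdH
    exact Finset.card_pos.mpr ⟨L, hL⟩
  have hstep : ∀ (N : Subgroup G), x ∈ normalizer (N : Set G) →
      U ⊓ centralizer ({x} : Set G) ≤ N → ¬ U ≤ N →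
      (p + 1) * Nat.card ↥(U ⊓ N) ≤ Nat.card U := by
    intro N hxN hfN hUN
    obtain ⟨d, hdU, hdN⟩ := SetLike.not_le_iff_exists.mp hUN
    exact h.mul_card_le_of_fixed_le hr hne hU hxU inf_le_left
      (inf_normalizer_le_normalizer_inf ⟨hxU, hxN⟩) (le_inf inf_le_left hfN) hdU
      fun e => hdN e.2
  have hsub : (U : Set G) ⊆ ((U ⊓ H : Subgroup G) : Set G) ∪
      ⋃ L ∈ F, (((U ⊓ L : Subgroup G) : Set G) \ {1}) := fun d hd => by
    by_cases hdH : d ∈ H
    · exact Or.inl ⟨hd, hdH⟩
    · obtain ⟨L, hL, hdL⟩ := hcov d hd hdH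
      exact Or.inr (Set.mem_iUnion₂.mpr ⟨L, hL, ⟨hd, hdL⟩, fun e => hdH (e ▸ one_mem H)⟩)
  have h1 : Nat.card U + F.card ≤ Nat.card ↥(U ⊓ H) + ∑ L ∈ F, Nat.card ↥(U ⊓ L) := by
    have h2 : ∑ L ∈ F, (((U ⊓ L : Subgroup G) : Set G) \ {1}).ncard + F.card =
        ∑ L ∈ F, Nat.card ↥(U ⊓ L) := by
      rw [Finset.card_eq_sum_ones, ← Finset.sum_add_distrib]
      refine Finset.sum_congr rfl fun L _ => ?_
      rw [Set.ncard_diff_singleton_add_one (show (1 : G) ∈ _ from one_mem (U ⊓ L))
        (Set.toFinite _), ← Nat.card_coe_set_eq]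
      rfl
    rw [← h2, ← SetLike.coe_sort_coe, Nat.card_coe_set_eq, ← add_assoc,
      ← SetLike.coe_sort_coe (U ⊓ H), Nat.card_coe_set_eq]
    exact Nat.add_le_add_right ((Set.ncard_le_ncard hsub (Set.toFinite _)).trans
      ((Set.ncard_union_le _ _).trans (Nat.add_le_add_left (Finset.set_ncard_biUnion_le _ _) _))) _
  have h3 := hstep H hxH hfix hH
  have h4 : (p + 1) * ∑ L ∈ F, Nat.card ↥(U ⊓ L) ≤ p * Nat.card U := by
    rw [Finset.mul_sum]
    refine (Finset.sum_le_card_nsmul F _ _ fun L hL => hstep L (le_normalizer (hbig L hL).mem)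
      (inf_le_right.trans (hbig L hL).centralizer_le) (hnle L hL)).trans ?_
    rw [smul_eq_mul]
    exact Nat.mul_le_mul_right _ hcard
  nlinarith

/-- A moved invariant group has a moved element outside `F`, if `F` has at most `p` big members and
none contains it. -/
theorem exists_avoid {r : ℕ} (hr : r.Prime) (hne : r ≠ p) {U : Subgroup G} (hU : IsPGroup r U)
    (hxU : x ∈ normalizer (U : Set G)) (hmv : x ∉ centralizer (U : Set G))
    (F : Finset (Subgroup G)) (hbig : ∀ L ∈ F, Big x L) (hcard : F.card ≤ p)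
    (hnle : ∀ L ∈ F, ¬ U ≤ L) : ∃ d ∈ U, ¬ Commute d x ∧ ∀ L ∈ F, d ∉ L := by
  obtain ⟨d, hd, hdx, hdL⟩ := h.exists_avoid_of_not_le hr hne hU hxU
    (H := centralizer ({x} : Set G)) (le_normalizer (self_mem_centralizer x)) inf_le_right
    (fun e => hmv (mem_centralizer_iff.mpr fun d hd => mem_centralizer_singleton_iff.mp (e hd)))
    F hbig hcard hnle
  exact ⟨d, hd, fun hc => hdx (mem_centralizer_singleton_iff.mpr hc.eq), hdL⟩

end Ctx

end CfsgLib.TwoGenSolv66
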