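import Mathlib
import Cfsg.Agent.FGS.FixedHalfStable
import Cfsg.Agent.PLocal.Constraint
import Cfsg.Agent.OddOrder.ZJ.Main
import Cfsg.Agent.Techniques.StableFusion
import Cfsg.Agent.ZJInversion.Main
import Cfsg.Agent.Transitivity.Basic
import Cfsg.Agent.SolvSig.Core
import Cfsg.Agent.Coprime.PTimesQ

/-!
# Groups all of whose two-generated subgroups are solvable: the minimal counterexample

* `MinTwoGen G` : a minimal counterexample; `Ctx G p x` : the prime `p` and the element `x`.
* conjugates of `x` in a `p`-subgroup commute; a proper subgroup through `x` controls them.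
-/

set_option autoImplicit false
set_option linter.unusedSectionVars false
set_option linter.unusedVariables false
set_option linter.style.haveILetI false

open scoped commutatorElement

namespace CfsgLib.TwoGenSolv66

open Subgroup CfsgLib.SolvSig CfsgLib.Transitivity

universe u

/-- A minimal counterexample. -/
structure MinTwoGen (G : Type*) [Group G] : Prop where
  simple : ∀ N : Subgroup G, N.Normal → N = ⊥ ∨ N = ⊤
  not_solvable : ¬ Group.IsSolvable G
  sub : ∀ H : Subgroup G, H ≠ ⊤ → Group.IsSolvable ↥H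
  gen : ∀ a b : G, Subgroup.closure ({a, b} : Set G) ≠ ⊤

/-- The prime and the element: `p` is the largest prime and `x` is central in a Sylow `p`-subgroup. -/
structure Ctx (G : Type*) [Group G] (p : ℕ) (x : G) : Prop where
  hyp : MinTwoGen G
  five : 5 ≤ p
  max : ∀ q : ℕ, q.Prime → q ∣ Nat.card G → q ≤ p
  ord : orderOf x = p
  central : ∃ T : Sylow p G, x ∈ (T : Subgroup G) ∧
    (T : Subgroup G) ≤ centralizer ({x} : Set G)

variable {G : Type u} [Group G] [Finite G] {p : ℕ} [hp : Fact p.Prime] {x : G}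

/-! ### Tools -/

theorem isSolvable_of_comm_le {A B : Subgroup G} (hB : Group.IsSolvable ↥B) (h : A ≤ B) :
    Group.IsSolvable ↥A := by
  haveI := hB
  exact CfsgLib.Coprime.isSolvable_of_le h

theorem isSolvable_zpowers' (a : G) : Group.IsSolvable ↥(zpowers a) :=
  CfsgLib.SolvSig.isSolvable_zpowers a

/-- A coprime group acting trivially on all cores of a solvable group centralises it. -/
theorem le_centralizer_of_cores {A K : Subgroup G} (hK : Group.IsSolvable ↥K)
    (hAK : A ≤ normalizer (K : Set G)) (hcop : (Nat.card A).Coprime (Nat.card K))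
    (h : ∀ t : ℕ, t.Prime → A ≤ centralizer (core t K : Set G)) :
    A ≤ centralizer (K : Set G) := by
  set Z := ⁅K, A⁆ with hZ
  have hZK : Z ≤ K := Coprime.commutator_le_of_le_normalizer hAK
  have hKn : ∀ t, K ≤ normalizer (core t K : Set G) := fun t => le_normalizer_core t K
  have hcZ : ∀ t : ℕ, t.Prime → Z ≤ centralizer (core t K : Set G) := by
    intro t ht
    rw [← commutator_eq_bot_iff_le_centralizer]
    refine commutator_commutator_eq_bot_of_rotate ?_ ?_
    · rw [← le_bot_iff]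
      refine (commutator_mono ((commutator_comm A (core t K)).le.trans
        (commutator_eq_bot_iff_le_centralizer.mpr
          (le_centralizer_iff.mp (h t ht))).le) le_rfl).trans ?_
      rw [commutator_bot_left]
    · rw [← le_bot_iff]
      refine (commutator_mono (Coprime.commutator_le_of_le_normalizer (hKn t)) le_rfl).trans ?_
      rw [le_bot_iff, commutator_comm, commutator_eq_bot_iff_le_centralizer]
      exact h t ht
  have hZF : Z.subgroupOf K ≤ Cfsg.fittingSubgroup ↥K := by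
    refine le_trans ?_ Solvable.centralizer_fittingSubgroup_le
    rw [le_centralizer_iff, Solvable.fittingSubgroup_eq_iSup]
    refine iSup_le fun q y hy => ?_
    rw [mem_centralizer_iff]
    intro z hz
    exact Subtype.ext (mem_centralizer_iff.mp (hcZ q q.2 hz) y ⟨y, hy, rfl⟩).symm
  have hAZ : A ≤ centralizer (Z : Set G) := by
    have h1 : Z ≤ (Cfsg.fittingSubgroup ↥K).map K.subtype := fun z hz =>
      ⟨⟨z, hZK hz⟩, hZF hz, rfl⟩
    rw [Solvable.fittingSubgroup_eq_iSup, Subgroup.map_iSup] at h1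
    have h2 : (⨆ q : {q : ℕ // q.Prime}, (Cfsg.pCore (q : ℕ) ↥K).map K.subtype) ≤
        centralizer (A : Set G) := iSup_le fun q => le_centralizer_iff.mp (h q q.2)
    exact le_centralizer_iff.mp (h1.trans h2)
  refine Coprime.le_centralizer_of_commutator_commutator_eq_bot hAK hcop ?_
  rw [commutator_eq_bot_iff_le_centralizer]
  exact le_centralizer_iff.mp hAZ

/-- In a solvable group, `p ≥ 5`, quadratic elements are stable. -/
theorem quadraticStable_of_isSolvable {H : Type u} [Group H] [Finite H] [Group.IsSolvable H]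
    (hp3 : 3 < p) : CfsgLib.OddOrder.ZJ.QuadraticStable p H :=
  CfsgLib.OddOrder.ZJ.quadraticStable_of_isPStableOn fun P _ hP =>
    CfsgLib.PLocal.isPStableOn_of_no_section (by omega)
      (CfsgLib.FGS.not_hasSL2Section_of_isSolvable hp3) P hP

/-- An abelian normal subgroup of a Sylow `p`-subgroup of a solvable group lies in `O_{p',p}`. -/
theorem le_pPrimePCore_of_abelian {H : Type u} [Group H] [Finite H] [Group.IsSolvable H]
    (hp3 : 3 < p) (R : Sylow p H) {A : Subgroup H} (hA : IsMulCommutative A)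
    (hAR : A ≤ (R : Subgroup H)) (hn : (R : Subgroup H) ≤ normalizer (A : Set H)) :
    A ≤ Cfsg.pPrimePCore p H := by
  set K := Cfsg.pPrimeCore p H
  let f := QuotientGroup.mk' K
  have hf : Function.Surjective f := QuotientGroup.mk'_surjective _
  haveI : Group.IsSolvable (H ⧸ K) := Group.isSolvable_of_surjective (QuotientGroup.mk'_surjective K)
  let R' : Sylow p (H ⧸ K) := R.mapSurjective hf
  have hR' : (R' : Subgroup (H ⧸ K)) = (R : Subgroup H).map f := rfl
  have hc : centralizer (Cfsg.pCore p (H ⧸ K) : Set (H ⧸ K)) ≤ Cfsg.pCore p (H ⧸ K) :=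
    PLocal.centralizer_pCore_le (PLocal.isPSolvable_of_isSolvable)
      (PLocal.pPrimeCore_quotient_pPrimeCore_eq_bot p H)
  have hA' : IsMulCommutative (A.map f) := by
    haveI := hA; exact Subgroup.map_isMulCommutative A f
  have hn' : (R' : Subgroup (H ⧸ K)) ≤ normalizer ((A.map f : Subgroup (H ⧸ K)) : Set (H ⧸ K)) := by
    rw [hR']
    exact (map_mono hn).trans (le_normalizer_map f)
  have hq := quadraticStable_of_isSolvable (H := H ⧸ K) hp3
  intro a ha
  show f a ∈ Cfsg.pCore p (H ⧸ K)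
  refine CfsgLib.OddOrder.Quad.mem_pCore_of_map_mem
    ((PLocal.isPGroup_pCore p (H ⧸ K)).to_le hc)
    (hq (Cfsg.pCore p (H ⧸ K)) (PLocal.isPGroup_pCore p _) (f a) fun w hw => ?_)
  exact CfsgLib.OddOrder.Quad.commute_commutator_of_abelian hA'
    ((PLocal.pCore_le_sylow R').trans hn') (mem_map_of_mem f ha) hw

/-! ### The minimal counterexample -/

namespace MinTwoGen

variable (h : MinTwoGen G)
include h

theorem nontrivial : Nontrivial G := by
  by_contra hn
  rw [not_nontrivial_iff_subsingleton] at hn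
  exact h.not_solvable (Group.isSolvable_of_comm fun a b => Subsingleton.elim _ _)

theorem normalizer_ne_top {H : Subgroup G} (h1 : H ≠ ⊥) (h2 : H ≠ ⊤) :
    normalizer (H : Set G) ≠ ⊤ := fun e =>
  (h.simple H (normalizer_eq_top_iff.mp e)).elim h1 h2

theorem ne_top_of_solvable {H : Subgroup G} (hH : Group.IsSolvable ↥H) : H ≠ ⊤ := by
  rintro rfl
  exact h.not_solvable (Group.isSolvable_of_surjective
    (f := (Subgroup.topEquiv : (⊤ : Subgroup G) ≃* G).toMonoidHom) (MulEquiv.surjective _))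

theorem ne_top_of_isPGroup {q : ℕ} [Fact q.Prime] {H : Subgroup G} (hH : IsPGroup q H) :
    H ≠ ⊤ := h.ne_top_of_solvable (haveI := hH.isNilpotent; inferInstance)

theorem centralizer_ne_top {a : G} (ha : a ≠ 1) : centralizer ({a} : Set G) ≠ ⊤ := by
  intro e
  have hn : (zpowers a).Normal := ⟨fun b hb g => by
    obtain ⟨k, rfl⟩ := mem_zpowers_iff.mp hb
    have hga : g * a = a * g :=
      (mem_centralizer_iff.mp ((e.ge (mem_top g) : g ∈ centralizer ({a} : Set G))) a rfl).symm
    have : g * a ^ k * g⁻¹ = a ^ k := by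
      rw [mul_inv_eq_iff_eq_mul]; exact (Commute.zpow_right hga k).eq
    rw [this]; exact hb⟩
  rcases h.simple _ hn with h1 | h1
  · exact ha (zpowers_eq_bot.mp h1)
  · exact h.ne_top_of_solvable (isSolvable_zpowers a) h1

theorem isSolvable_normalizer {H : Subgroup G} (h1 : H ≠ ⊥) (h2 : H ≠ ⊤) :
    Group.IsSolvable ↥(normalizer (H : Set G)) := h.sub _ (h.normalizer_ne_top h1 h2)

theorem exists_maximal {H : Subgroup G} (hH : H ≠ ⊤) : ∃ M : Subgroup G, IsCoatom M ∧ H ≤ M :=
  (eq_top_or_exists_le_coatom H).resolve_left hH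

theorem stable (hp3 : 3 < p) : Cfsg.IsNormalizerPStable p G := by
  intro P hP g hg hq
  set N := normalizer (P : Set G)
  rcases eq_or_ne P ⊥ with rfl | hne
  · have : (⟨g, hg⟩ : ↥N) ∈ (centralizer ((⊥ : Subgroup G) : Set G)).subgroupOf N := by
      rw [mem_subgroupOf, mem_centralizer_iff]
      intro y hy
      rw [mem_bot.mp hy, one_mul, mul_one]
    exact ((QuotientGroup.eq_one_iff _).mpr this) ▸ one_mem _
  haveI := h.isSolvable_normalizer hne (h.ne_top_of_isPGroup hP)
  set P' := P.subgroupOf N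
  haveI : P'.Normal := normal_subgroupOf_iff_le_normalizer le_normalizer |>.mpr le_rfl
  have hP'eq : P'.map N.subtype = P := map_subgroupOf_eq_of_le le_normalizer
  have hst := CfsgLib.PLocal.isPStableOn_of_no_section (G := ↥N) (p := p) (by omega)
    (CfsgLib.FGS.not_hasSL2Section_of_isSolvable hp3) P' hP.comap_subtype ⟨g, hg⟩ ?_
  · have hC : (centralizer (P : Set G)).subgroupOf N = centralizer (P' : Set ↥N) := by
      ext y
      rw [mem_subgroupOf, mem_centralizer_iff, mem_centralizer_iff]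
      exact ⟨fun hy z hz => Subtype.ext (hy z hz), fun hy z hz =>
        congrArg Subtype.val (hy ⟨z, le_normalizer hz⟩ hz)⟩
    exact Techniques.mk_mem_pCore_of_comap (MonoidHom.id _) ((comap_id _).trans hC.symm) hst
  · apply (Subgroup.map_eq_bot_iff_of_injective _ N.subtype_injective).mp
    rw [map_commutator, map_commutator, hP'eq, MonoidHom.map_zpowers]
    exact hq

end MinTwoGen

/-! ### The element `x` -/

namespace Ctx

variable (h : Ctx G p x)
include h

theorem three : 3 < p := by have := h.five; omega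

theorem pow_eq : x ^ p = 1 := h.ord ▸ pow_orderOf_eq_one x

theorem ne_one : x ≠ 1 := fun e => by
  have := h.ord
  rw [e, orderOf_one] at this
  exact hp.out.ne_one this.symm

theorem isPGroup : IsPGroup p (zpowers x) :=
  IsPGroup.of_card (n := 1) (by rw [Nat.card_zpowers, h.ord, pow_one])

theorem coprime {D : Subgroup G} (hD : ¬ p ∣ Nat.card D) :
    (Nat.card (zpowers x)).Coprime (Nat.card D) := by
  rw [Nat.card_zpowers, h.ord]
  exact (hp.out.coprime_iff_not_dvd).mpr hD

theorem conj (g : G) : Ctx G p (g * x * g⁻¹) := by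
  obtain ⟨T, hxT, hT⟩ := h.central
  refine ⟨h.hyp, h.five, h.max, ?_, g • T, ?_, ?_⟩
  · rw [show g * x * g⁻¹ = MulAut.conj g x from rfl, MulEquiv.orderOf_eq, h.ord]
  · rw [Sylow.coe_subgroup_smul]
    exact Coprime.conj_mem_conj_smul hxT
  · rw [Sylow.coe_subgroup_smul]
    rintro _ ⟨t, ht, rfl⟩
    refine mem_centralizer_singleton_iff.mpr ?_
    exact ((show Commute t x from mem_centralizer_singleton_iff.mp (hT ht)).map
      (MulAut.conj g).toMonoidHom).eq

/-- Conjugates of `x` in a `p`-subgroup commute. -/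
theorem commute_of_mem_pGroup {P : Subgroup G} (hP : IsPGroup p P) {y z : G} (hy : IsConj x y)
    (hz : IsConj x z) (hyP : y ∈ P) (hzP : z ∈ P) : Commute y z := by
  obtain ⟨T, hxT, hT⟩ := h.central
  obtain ⟨S, hS⟩ := hP.exists_le_sylow
  obtain ⟨g, hg⟩ := MulAction.exists_smul_eq G T S
  have hx' := h.conj g
  set x' := g * x * g⁻¹ with hx'd
  have hx'S : x' ∈ (S : Subgroup G) := by
    rw [← hg, Sylow.coe_subgroup_smul]; exact Coprime.conj_mem_conj_smul hxT
  have hSx' : (S : Subgroup G) ≤ centralizer ({x'} : Set G) := by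
    rw [← hg, Sylow.coe_subgroup_smul]
    rintro _ ⟨t, ht, rfl⟩
    exact mem_centralizer_singleton_iff.mpr ((show Commute t x from
      mem_centralizer_singleton_iff.mp (hT ht)).map (MulAut.conj g).toMonoidHom).eq
  set Z := Cfsg.centerThompsonAOf (S : Subgroup G)
  have hxZ : x' ∈ Z := by
    have hJ : Cfsg.thompsonSubgroupAOf (S : Subgroup G) ≤ centralizer ({x'} : Set G) :=
      (CfsgLib.PLocal.thompsonSubgroupAOf_le _).trans hSx'
    have hc : x' ∈ centralizer (Cfsg.thompsonSubgroupAOf (S : Subgroup G) : Set G) :=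
      le_centralizer_iff.mp (centralizer_singleton_eq x' ▸ hJ) (mem_zpowers x')
    refine ⟨?_, hc⟩
    obtain ⟨A, hA⟩ := CfsgLib.PLocal.maxAbIn_nonempty (S : Subgroup G)
    refine CfsgLib.PLocal.le_thompsonSubgroupAOf hA (ZJInversion.le_of_mem_maxAbIn hA ?_
      (zpowers_le.mpr hx'S) ?_ (mem_zpowers x'))
    · infer_instance
    · exact le_centralizer_iff.mp ((CfsgLib.PLocal.le_thompsonSubgroupAOf hA).trans
        (centralizer_singleton_eq x' ▸ hJ))
  have key : ∀ w, IsConj x w → w ∈ P → w ∈ Z := by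
    intro w hw hwP
    have hw' : IsConj x' w := (isConj_iff.mpr ⟨g, rfl⟩ : IsConj x x').symm.trans hw
    obtain ⟨c, hc⟩ := isConj_iff.mp hw'
    obtain ⟨n, hn, hn'⟩ := (Techniques.normalizer_centerThompsonAOf_controls h.three
      (h.hyp.stable h.three) S {x'} (Set.singleton_subset_iff.mpr hx'S)).2 c (by
        rw [Set.image_singleton, Set.singleton_subset_iff, hc]; exact hS hwP)
    rw [← hc, hn' x' rfl]
    exact (mem_normalizer_iff.mp hn x').mp hxZ
  exact (mem_centralizer_iff.mp ((le_centralizer_iff_isMulCommutative.mpr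
    (ZJInversion.centerThompsonAOf_comm (S : Subgroup G))) (key z hz hzP)) y (key y hy hyP))

/-- `x` lies in `O_{p',p}` of every proper subgroup containing it. -/
theorem mem_pPrimePCore {H : Subgroup G} (hH : H ≠ ⊤) (hx : x ∈ H) :
    (⟨x, hx⟩ : ↥H) ∈ Cfsg.pPrimePCore p ↥H := by
  haveI := h.hyp.sub H hH
  obtain ⟨R, hR⟩ := (h.isPGroup.comap_subtype (K := H)).exists_le_sylow
  have hxR : (⟨x, hx⟩ : ↥H) ∈ (R : Subgroup ↥H) := hR (mem_zpowers x)
  let S : Set ↥H := {y | IsConj x (y : G) ∧ y ∈ (R : Subgroup ↥H)}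
  refine le_pPrimePCore_of_abelian h.three R (A := Subgroup.closure S) ?_
    ((closure_le _).mpr fun y hy => hy.2) ?_ (subset_closure ⟨IsConj.refl x, hxR⟩)
  · refine isMulCommutative_closure fun y hy z hz => Subtype.ext ?_
    exact (h.commute_of_mem_pGroup (R.2.map H.subtype) hy.1 hz.1 ⟨y, hy.2, rfl⟩ ⟨z, hz.2, rfl⟩).eq
  · intro r hr
    refine LocalStructure.mem_normalizer_of_forall fun y hy => ?_
    have hle : Subgroup.closure S ≤ (Subgroup.closure S).comap (MulAut.conj r).toMonoidHom := by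
      rw [closure_le]
      intro z hz
      refine subset_closure ⟨hz.1.trans (isConj_iff.mpr ⟨r, rfl⟩), ?_⟩
      exact mul_mem (mul_mem hr hz.2) (inv_mem hr)
    exact hle hy

/-- `[D,x]` lies in `O_{p'}(H)`. -/
theorem commutator_le_core' {H D : Subgroup G} (hH : H ≠ ⊤) (hx : x ∈ H) (hD : D ≤ H)
    (hxD : x ∈ normalizer (D : Set G)) (hcop : ¬ p ∣ Nat.card D) :
    ⁅D, zpowers x⁆ ≤ core' p H := by
  set U := Cfsg.pPrimePCore p ↥H
  haveI : U.Normal := Normal.comap inferInstance _
  set D' := D.subgroupOf H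
  set X' := (zpowers x).subgroupOf H
  have hX' : X' ≤ U := by
    intro y hy
    obtain ⟨k, hk⟩ := mem_zpowers_iff.mp hy
    have : y = (⟨x, hx⟩ : ↥H) ^ k := Subtype.ext (by simp [hk])
    rw [this]; exact zpow_mem (h.mem_pPrimePCore hH hx) k
  have h1 : ⁅D', X'⁆ ≤ U ⊓ D' := by
    refine le_inf ((commutator_mono le_top hX').trans (commutator_le_right _ _)) ?_
    refine commutator_le.mpr fun d hd y hy => ?_
    have hyn : (y : G) ∈ normalizer (D : Set G) := (zpowers_le.mpr hxD) hy
    show ((⁅d, y⁆ : ↥H) : G) ∈ D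
    rw [commutatorElement_def]
    push_cast
    rw [mul_assoc (d : G), mul_assoc (d : G)]
    exact mul_mem hd ((mem_normalizer_iff.mp hyn _).mp (inv_mem hd))
  have h2 : U ⊓ D' ≤ Cfsg.pPrimeCore p ↥H := by
    intro y hy
    refine (QuotientGroup.eq_one_iff y).mp ?_
    obtain ⟨k, hk⟩ := PLocal.isPGroup_pCore p (↥H ⧸ Cfsg.pPrimeCore p ↥H) ⟨_, hy.1⟩
    have hc : (orderOf y).Coprime p := by
      rw [← Subgroup.orderOf_coe]
      exact ((hp.out.coprime_iff_not_dvd).mpr fun hd => hcop (hd.trans (by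
        rw [← Subgroup.orderOf_mk (G := G) (y : G) hy.2]; exact orderOf_dvd_natCard _))).symm
    refine orderOf_eq_one_iff.mp (Nat.eq_one_of_dvd_coprimes (hc.pow_right k)
      (orderOf_map_dvd (QuotientGroup.mk' (Cfsg.pPrimeCore p ↥H)) y) ?_)
    exact orderOf_dvd_of_pow_eq_one (congrArg Subtype.val hk)
  have h3 := map_mono (f := H.subtype) (h1.trans h2)
  rwa [map_commutator, map_subgroupOf_eq_of_le hD, map_subgroupOf_eq_of_le (zpowers_le.mpr hx)] at h3

/-- A conjugate of `x` in `H` is conjugate by `O_{p'}(H)` to one commuting with `x`. -/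
theorem exists_conj_commute {H : Subgroup G} (hH : H ≠ ⊤) (hx : x ∈ H) {y : G} (hy : IsConj x y)
    (hyH : y ∈ H) : ∃ o ∈ core' p H, Commute (o * y * o⁻¹) x := by
  set U := Cfsg.pPrimePCore p ↥H
  haveI : U.Normal := Normal.comap inferInstance _
  have hxU : (⟨x, hx⟩ : ↥H) ∈ U := h.mem_pPrimePCore hH hx
  obtain ⟨g, hg⟩ := isConj_iff.mp hy
  have hy' := h.conj g
  rw [hg] at hy'
  have hyU : (⟨y, hyH⟩ : ↥H) ∈ U := hy'.mem_pPrimePCore hH hyH
  have hzp : ∀ (w : G) (hw : w ∈ H) (hwU : (⟨w, hw⟩ : ↥H) ∈ U), orderOf w = p →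
      IsPGroup p (zpowers (⟨⟨w, hw⟩, hwU⟩ : ↥U)) := fun w hw hwU ho =>
    IsPGroup.of_card (n := 1) (by
      rw [Nat.card_zpowers, Subgroup.orderOf_mk, Subgroup.orderOf_mk, ho, pow_one])
  obtain ⟨P, hP⟩ := (hzp x hx hxU h.ord).exists_le_sylow
  obtain ⟨Q, hQ⟩ := (hzp y hyH hyU hy'.ord).exists_le_sylow
  obtain ⟨u, hu⟩ := MulAction.exists_smul_eq ↥U Q P
  have humem : ((u : ↥H)) ∈ Cfsg.pPrimeCore p ↥H ⊔ (P : Subgroup ↥U).map U.subtype := by
    rw [sup_comm, PLocal.sylow_pPrimePCore_sup P]; exact u.2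
  rw [← SetLike.mem_coe, normal_mul] at humem
  obtain ⟨c, hc, w, ⟨w', hw', rfl⟩, hcw⟩ := humem
  refine ⟨((w' : ↥H) : G)⁻¹ * ((u : ↥H) : G), ?_, ?_⟩
  · refine ⟨(w' : ↥H)⁻¹ * (u : ↥H), ?_, by simp⟩
    simp only at hcw
    rw [← hcw]
    have : (w' : ↥H)⁻¹ * c * (w' : ↥H) ∈ Cfsg.pPrimeCore p ↥H := by
      have hn : (Cfsg.pPrimeCore p ↥H).Normal := inferInstance
      simpa using hn.conj_mem c hc (w' : ↥H)⁻¹
    simpa [mul_assoc] using this
  · set yy : ↥U := ⟨⟨y, hyH⟩, hyU⟩
    have hconjP : w'⁻¹ * u * yy * (w'⁻¹ * u)⁻¹ ∈ (P : Subgroup ↥U) := by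
      have h1 : u * yy * u⁻¹ ∈ (P : Subgroup ↥U) := by
        rw [← hu, Sylow.coe_subgroup_smul]
        exact Coprime.conj_mem_conj_smul (hQ (mem_zpowers _))
      have := mul_mem (mul_mem (inv_mem hw') h1) hw'
      simpa [mul_assoc] using this
    refine h.commute_of_mem_pGroup ((P.2.map U.subtype).map H.subtype)
      (hy.trans (isConj_iff.mpr ⟨_, rfl⟩)) (IsConj.refl x) ⟨_, ⟨_, hconjP, rfl⟩, ?_⟩
      ⟨_, ⟨_, hP (mem_zpowers _), rfl⟩, rfl⟩
    simp [yy, mul_assoc]

/-- If `x` centralises every `O_t(H)`, `t ≠ p`, then the conjugates of `x` in `H` commute with `x`. -/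
theorem commute_of_unmoved {H : Subgroup G} (hH : H ≠ ⊤) (hx : x ∈ H)
    (hu : ∀ t : ℕ, t.Prime → t ≠ p → core t H ≤ centralizer ({x} : Set G)) {y : G}
    (hy : IsConj x y) (hyH : y ∈ H) : Commute y x := by
  obtain ⟨o, ho, hc⟩ := h.exists_conj_commute hH hx hy hyH
  set K := core' p H
  have hKp : ¬ p ∣ Nat.card K := PLocal.not_dvd_iff_coprime.mp (card_core'_coprime p H)
  have hHK : H ≤ normalizer (K : Set G) := le_normalizer.trans (normalizer_le_normalizer_core' p H)
  have hxK : zpowers x ≤ centralizer (K : Set G) := by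
    refine le_centralizer_of_cores (isSolvable_of_comm_le (h.hyp.sub H hH) (core'_le p H))
      (zpowers_le.mpr (hHK hx)) (h.coprime hKp) fun t ht => ?_
    rw [le_centralizer_iff, ← centralizer_singleton_eq]
    rcases eq_or_ne t p with rfl | hne
    · have hbot : core t K = ⊥ := eq_bot_of_card_eq _ <| Nat.eq_one_of_dvd_coprimes
        (a := Nat.card K) (b := Nat.card (core t K)) ?_ (card_dvd_of_le (core_le t K)) dvd_rfl
      · rw [hbot]; exact bot_le
      · obtain ⟨k, hk⟩ := IsPGroup.iff_card.mp (core_isPGroup t K)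
        rw [hk]; exact (card_core'_coprime t H).pow_right k
    · refine le_trans (le_core ((core_le t K).trans (core'_le p H))
        (hHK.trans (normalizer_le_normalizer_core t K)) (core_isPGroup t K)) (hu t ht hne)
  have hox : Commute o x := mem_centralizer_iff.mp (hxK (mem_zpowers x)) o ho
  exact (Commute.conj_iff o).mp (by rwa [hox.eq, mul_inv_cancel_right])

/-! ### The generation trick -/

theorem exists_coatom_conj {c : G} (hc : c ∈ normalizer ((zpowers x : Subgroup G) : Set G)) (g : G) :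
    ∃ M : Subgroup G, IsCoatom M ∧ x ∈ M ∧ c * g ∈ M ∧ g⁻¹ * x * g ∈ M := by
  obtain ⟨M, hM, hle⟩ := h.hyp.exists_maximal (h.hyp.gen x (c * g))
  have hxM : x ∈ M := hle (subset_closure (Set.mem_insert _ _))
  have hzM : c * g ∈ M := hle (subset_closure (Set.mem_insert_of_mem _ rfl))
  refine ⟨M, hM, hxM, hzM, ?_⟩
  obtain ⟨i, hi⟩ := mem_zpowers_iff.mp ((mem_normalizer_iff.mp hc x).mp (mem_zpowers x))
  have h1 : (c * g)⁻¹ * x ^ i * (c * g) = g⁻¹ * x * g := by
    rw [hi]; group
  rw [← h1]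
  exact mul_mem (mul_mem (inv_mem hzM) (zpow_mem hxM i)) hzM

/-- Two subgroups of order `p` in `D⟨x⟩`, `D` an invariant `p'`-group, are conjugate in any
subgroup containing both. -/
theorem exists_conj_zpowers {D J : Subgroup G} (hxD : x ∈ normalizer (D : Set G))
    (hcop : ¬ p ∣ Nat.card D) (hJ : J ≤ D ⊔ zpowers x) (hxJ : x ∈ J) {x' : G}
    (hx' : orderOf x' = p) (hx'J : x' ∈ J) :
    ∃ j ∈ J, x' ∈ (zpowers x).map (MulAut.conj j).toMonoidHom := by
  have hdis : D ⊓ zpowers x = ⊥ := Coprime.inf_eq_bot_of_coprime (h.coprime hcop).symm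
  have hcard : Nat.card ↥(D ⊔ zpowers x) = Nat.card D * p := by
    rw [Coprime.card_sup_eq (zpowers_le.mpr hxD) hdis, Nat.card_zpowers, h.ord]
  have hsyl : ∀ w : G, orderOf w = p → w ∈ J →
      ∀ P : Sylow p ↥J, (zpowers w).subgroupOf J ≤ P → (P : Subgroup ↥J) = (zpowers w).subgroupOf J := by
    intro w hw hwJ P hP
    symm
    refine eq_of_le_of_card_ge hP ?_
    rw [Nat.card_congr (subgroupOfEquivOfLe (zpowers_le.mpr hwJ)).toEquiv, Nat.card_zpowers, hw]
    obtain ⟨k, hk⟩ := IsPGroup.iff_card.mp P.2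
    have hd : p ^ k ∣ Nat.card D * p := by
      rw [← hk, ← hcard]
      exact (card_subgroup_dvd_card (P : Subgroup ↥J)).trans (card_dvd_of_le hJ)
    rw [hk]
    rcases k with _ | _ | k
    · simpa using hp.out.one_lt.le
    · simp
    · exfalso
      refine hcop ?_
      have h2 : p ^ 2 ∣ Nat.card D * p := (pow_dvd_pow p (Nat.le_add_left 2 k)).trans hd
      rw [pow_two] at h2
      exact Nat.dvd_of_mul_dvd_mul_right hp.out.pos h2
  have hpg : ∀ w : G, orderOf w = p → IsPGroup p (zpowers w) := fun w hw =>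
    IsPGroup.of_card (n := 1) (by rw [Nat.card_zpowers, hw, pow_one])
  obtain ⟨P, hP⟩ := ((hpg x h.ord).comap_subtype (K := J)).exists_le_sylow
  obtain ⟨Q, hQ⟩ := ((hpg x' hx').comap_subtype (K := J)).exists_le_sylow
  obtain ⟨j, hj⟩ := MulAction.exists_smul_eq ↥J P Q
  refine ⟨j, j.2, ?_⟩
  have h1 : (⟨x', hx'J⟩ : ↥J) ∈ ((j • P : Sylow p ↥J) : Subgroup ↥J) := hj ▸ hQ (mem_zpowers x')
  rw [Sylow.coe_subgroup_smul, hsyl x h.ord hxJ P hP] at h1
  obtain ⟨w, hw, hwe⟩ := h1
  exact ⟨w, hw, congrArg Subtype.val hwe⟩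

/-- For `d` in an invariant `p'`-group `D` and `c` normalising `⟨x⟩`, a maximal subgroup contains
`x`, `c` and `⟨x, d⁻¹xd⟩`. -/
theorem exists_coatom_commutator {D : Subgroup G} (hxD : x ∈ normalizer (D : Set G))
    (hcop : ¬ p ∣ Nat.card D) {d : G} (hd : d ∈ D) {c : G}
    (hc : c ∈ normalizer ((zpowers x : Subgroup G) : Set G)) :
    ∃ M : Subgroup G, IsCoatom M ∧ x ∈ M ∧ c ∈ M ∧ Subgroup.closure ({x, d⁻¹ * x * d} : Set G) ≤ M := by
  set J := Subgroup.closure ({x, d⁻¹ * x * d} : Set G) with hJd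
  have hxJ : x ∈ J := subset_closure (Set.mem_insert _ _)
  have hx'J : d⁻¹ * x * d ∈ J := subset_closure (Set.mem_insert_of_mem _ rfl)
  have hJle : J ≤ D ⊔ zpowers x := by
    rw [hJd, closure_le]
    rintro y (rfl | rfl)
    · exact mem_sup_right (mem_zpowers _)
    · exact mul_mem (mul_mem (mem_sup_left (inv_mem hd)) (mem_sup_right (mem_zpowers x)))
        (mem_sup_left hd)
  have ho : orderOf (d⁻¹ * x * d) = p := by
    rw [show d⁻¹ * x * d = MulAut.conj d⁻¹ x by simp, MulEquiv.orderOf_eq, h.ord]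
  obtain ⟨j, hj, hjx⟩ := h.exists_conj_zpowers hxD hcop hJle hxJ ho hx'J
  obtain ⟨M, hM, hxM, hcM, hgM⟩ := h.exists_coatom_conj hc j⁻¹
  obtain ⟨w, hw, hwe⟩ := hjx
  obtain ⟨i, hi⟩ := mem_zpowers_iff.mp hw
  have hJM : J ≤ M := by
    rw [hJd, closure_le]
    rintro y (rfl | rfl)
    · exact hxM
    · rw [← hwe, ← hi]
      show MulAut.conj j (x ^ i) ∈ M
      rw [map_zpow]
      exact zpow_mem (by simpa using hgM) i
  refine ⟨M, hM, hxM, ?_, hJM⟩
  have := mul_mem hcM (hJM hj)
  simpa using this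

end Ctx

end CfsgLib.TwoGenSolv66
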