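import Cfsg.Agent.TwoGenSolv66.Rank
import Cfsg.Agent.BlockNormal85.Subnormal
import Cfsg.Agent.S2982

/-!
# Blocks of a solvable group and automorphisms of large prime order

* `exists_block` : in a solvable group `P` of characteristic `s` in which no characteristic
  subgroup of the Sylow subgroup `T` is normal, some block lies outside a given overgroup of `T`
  and is centralised by every element of prime order `p ≥ 5` acting trivially on `P / O_s(P)`.
-/

set_option autoImplicit false
set_option linter.unusedSectionVars false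
set_option linter.unusedVariables false
set_option linter.style.haveILetI false

open scoped commutatorElement Pointwise

namespace CfsgLib.TwoGenSolv66

open Subgroup CfsgLib.SolvSig CfsgLib.BlockNormal85

universe u

variable {G : Type u} [Group G] [Finite G] {p s : ℕ} [hp : Fact p.Prime] [hs : Fact s.Prime]

theorem omegaOneCenter_ne_bot' {S : Subgroup G} (hS : IsPGroup s S) (hne : S ≠ ⊥) :
    Cfsg.omegaOneCenter s S ≠ ⊥ := by
  haveI : Nontrivial ↥S := (nontrivial_iff_ne_bot S).2 hne
  obtain ⟨z, -, hzc, hzo⟩ := OddOrder.BG4.exists_central_orderOf_prime hS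
    (top_ne_bot : (⊤ : Subgroup ↥S) ≠ ⊥)
  have hzs : (z : G) ^ s = 1 := by
    rw [← SubmonoidClass.coe_pow, ← hzo, pow_orderOf_eq_one, OneMemClass.coe_one]
  intro e
  have h1 : (z : G) ∈ Cfsg.omegaOneCenter s S := PLocal.mem_omegaOne
    (mem_inf.2 ⟨z.2, mem_centralizer_iff.2 fun t ht =>
      congrArg Subtype.val (Subgroup.mem_center_iff.1 hzc ⟨t, ht⟩)⟩) hzs
  rw [e, mem_bot] at h1
  rw [show z = 1 from Subtype.ext h1, orderOf_one] at hzo
  exact hs.out.ne_one hzo.symm

theorem card_eq_of_section {F : Type*} [Field F] [Fintype F] {Q W : Subgroup G} (hWQ : W ≤ Q)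
    (ψ : ↥Q →* Multiplicative (Fin 2 → F)) (hsurj : Function.Surjective ψ)
    (hker : ∀ u : ↥Q, ψ u = 1 ↔ (u : G) ∈ W) :
    Nat.card Q = Fintype.card F ^ 2 * Nat.card W := by
  have h1 := ψ.ker.card_mul_index
  rw [index_ker, MonoidHom.range_eq_top.mpr hsurj, card_top] at h1
  have h2 : ψ.ker = W.subgroupOf Q := by
    ext u; exact hker u
  rw [← h1, h2, Nat.card_congr (subgroupOfEquivOfLe hWQ).toEquiv, mul_comm]
  congr 1
  simp [Nat.card_eq_fintype_card]

/-- An element of order `p` fixing a block and stabilising `P / O_s(P)` centralises it. -/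
theorem block_le_centralizer (hp5 : 5 ≤ p) (hs5 : s < 5) {P : Subgroup G} [Group.IsSolvable ↥P]
    {E : Subgroup ↥P} (hB : IsBlockOf s E) (hsub : E.IsSubnormal) {x : G} (hx : x ^ p = 1)
    (hxP : x ∈ normalizer (P : Set G)) (hcomm : ⁅P, zpowers x⁆ ≤ core s P) :
    E.map P.subtype ≤ centralizer ({x} : Set G) := by
  have hsp : s < p := by omega
  have hss : Small s E := (hB.quasi_or_small hsub).resolve_left fun hq => by
    haveI : Group.IsSolvable ↥(bar s E) := inferInstance
    haveI : Nontrivial ↥(bar s E) := by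
      haveI := hq.2.toNontrivial
      exact Function.Surjective.nontrivial (QuotientGroup.mk'_surjective (center ↥(bar s E)))
    exact (Group.IsSolvable.commutator_lt_top_of_nontrivial ↥(bar s E)).ne hq.1.commutator_eq_top
  let R := Cfsg.pCore s ↥P
  haveI : R.Normal := LocalStructure.pCore_normal
  -- the automorphism
  let α : ↥P ≃* ↥P := normalizerMonoidHom P ⟨x, hxP⟩
  have hαR : ∀ g : ↥P, α g * g⁻¹ ∈ R := fun g => by
    have h1 : ⁅(g : G), x⁆⁻¹ ∈ core s P :=
      inv_mem (hcomm (commutator_mem_commutator g.2 (mem_zpowers x)))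
    obtain ⟨r, hr, hre⟩ := h1
    have : r = α g * g⁻¹ := Subtype.ext (by
      rw [← P.coe_subtype, hre]
      show ⁅(g : G), x⁆⁻¹ = x * (g : G) * x⁻¹ * ((g : G))⁻¹
      rw [commutatorElement_def]; group)
    rwa [← this]
  have hαE : ∀ g ∈ E, α g ∈ E := by
    have hle : LocalStructure.pResOf s E ≤ E.comap α.toMonoidHom := by
      refine LocalStructure.pResOf_le_of_forall fun g hg hc => ?_
      show α g ∈ E
      rw [← hB.pResOf_sup_R]
      refine LocalStructure.mem_pResOf ?_ (by rwa [MulEquiv.orderOf_eq])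
      have := mul_mem (mem_sup_right (hαR g) : α g * g⁻¹ ∈ E ⊔ R) (mem_sup_left hg)
      rwa [inv_mul_cancel_right] at this
    rw [hB.res] at hle
    exact hle
  -- the ambient picture
  set E' := E.map P.subtype with hE'
  have hxE : x ∈ normalizer (E' : Set G) := LocalStructure.mem_normalizer_of_forall (by
    rintro _ ⟨g, hg, rfl⟩
    exact ⟨α g, hαE g hg, rfl⟩)
  set Q := Cfsg.pCoreOf s E with hQd
  set Q' := Q.map P.subtype with hQ'
  have hQE : Q ≤ E := LocalStructure.pCoreOf_le E
  have hQ'p : IsPGroup s Q' := (LocalStructure.pCoreOf_isPGroup E).map _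
  have hxQ : x ∈ normalizer (Q' : Set G) := by
    have : Q' = core s E' := by
      refine le_antisymm (le_core (map_mono hQE) ?_ hQ'p) ?_
      · rintro _ ⟨e, he, rfl⟩
        exact le_normalizer_map _ ⟨e, LocalStructure.le_normalizer_pCoreOf E he, rfl⟩
      · rw [← map_comap_eq_self (f := P.subtype) (H := core s E') (by
          rw [Subgroup.range_subtype]; exact (core_le s E').trans (map_subtype_le _))]
        refine map_mono (LocalStructure.le_pCoreOf ?_ ?_
          ((core_isPGroup s E').comap_of_injective _ P.subtype_injective))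
        · intro g hg
          obtain ⟨e, he, hge⟩ := core_le s E' hg
          rwa [← P.subtype_injective hge]
        · intro e he
          exact le_normalizer_comap _ (le_normalizer_core s E' (mem_map_of_mem _ he))
    rw [this]
    exact normalizer_le_normalizer_core s E' hxE
  set U := modU s E with hU
  have hUE : U ≤ E := hB.U_le
  set U' := U.map P.subtype
  have hxV : x ∈ normalizer (((Cfsg.omegaOneCenter s R).map P.subtype : Subgroup G) : Set G) := by
    refine LocalStructure.mem_normalizer_of_forall ?_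
    rintro _ ⟨v, hv, rfl⟩
    refine ⟨α v, ?_, rfl⟩
    have hRα : R.map α.toMonoidHom = R := by
      haveI : R.Characteristic := inferInstance
      exact characteristic_iff_map_eq.mp inferInstance α
    have := mem_map_of_mem α.toMonoidHom hv
    rw [LocalEven50.map_omegaOneCenter (f := α.toMonoidHom) α.injective, hRα] at this
    exact this
  have hxU : x ∈ normalizer (U' : Set G) := by
    show x ∈ normalizer (((modU s E).map P.subtype : Subgroup G) : Set G)
    rw [map_commutator]
    exact CharPLocal.inf_normalizer_le_normalizer_commutator _ _ ⟨hxV, hxE⟩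
  have hU'p : IsPGroup s U' := (isPGroup_modU E).map _
  have hUc : Nat.card U = s ^ 2 := hss.card_U
  have hxUc : x ∈ centralizer (U' : Set G) := by
    by_contra hmv
    have := cube_le_card hp5 hsp hx hU'p hxU hmv
    rw [card_map_of_injective P.subtype_injective, hUc] at this
    exact absurd this (not_le.mpr (Nat.pow_lt_pow_right hs.out.one_lt (by norm_num)))
  have hxQc : x ∈ centralizer (Q' : Set G) := by
    rcases hB.Q_eq_U_or_exc hsub with he | ⟨rfl, T, F, _, _, n, hX⟩
    · rw [hQ', hQd, he]; exact hxUc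
    set W := Cfsg.omegaOneCenter 3 Q with hWd
    set Z := W ⊓ centralizer (E : Set ↥P) with hZd
    obtain ⟨-, -, -, ψ₂, -, hs₂, hk₂, -⟩ := hX.secQ
    obtain ⟨-, -, -, ψ₁, -, hs₁, hk₁, -⟩ := hX.secW
    have hWQ : W ≤ Q := LocalEven50.omegaOneCenter_le _
    have c2 := card_eq_of_section hWQ ψ₂ hs₂ hk₂
    have c1 := card_eq_of_section (inf_le_left : Z ≤ W) ψ₁ hs₁ hk₁
    have hW9 : Nat.card W = 9 * Nat.card Z := by
      have hsup : W = U ⊔ Z := hB.W_eq
      have hdis : U ⊓ Z = ⊥ := le_bot_iff.mp (le_trans (inf_le_inf_left _ inf_le_right) hss.fixed.le)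
      rw [hsup, Coprime.card_sup_eq (N := U) (H := Z)
        ((inf_le_right : Z ≤ centralizer (E : Set ↥P)).trans ((centralizer_le hUE).trans
          (centralizer_le_normalizer _))) hdis, hUc]
      norm_num
    have hF : Fintype.card F ^ 2 = 9 :=
      Nat.eq_of_mul_eq_mul_right Nat.card_pos (c1.symm.trans hW9)
    rw [hF] at c2
    set W' := W.map P.subtype
    have hxW : x ∈ normalizer (W' : Set G) := by
      have hWmap : W' = Cfsg.omegaOneCenter 3 Q' :=
        LocalEven50.map_omegaOneCenter P.subtype_injective Q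
      rw [hWmap]
      exact LocalEven50.normalizer_le_normalizer_omegaOneCenter _ hxQ
    have hQW' : Q' ≤ normalizer (W' : Set G) := (map_mono (le_normalizer.trans
      (LocalEven50.normalizer_le_normalizer_omegaOneCenter Q))).trans (le_normalizer_map _)
    -- `x` fixes the cosets of `W`
    have hmod : ∀ q ∈ Q', ⁅x, q⁆ ∈ W' := by
      by_contra hmv
      obtain ⟨n, j, hc, hlt, hd⟩ := exists_section_dvd hx (by omega) hQ'p (map_mono hWQ) hQW' hxW
        hxQ hmv
      rw [card_map_of_injective P.subtype_injective, card_map_of_injective P.subtype_injective,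
        c2] at hc
      have hn : 3 ^ n = 3 ^ 2 := (Nat.eq_of_mul_eq_mul_right Nat.card_pos hc).symm
      have hn2 := Nat.pow_right_injective (by norm_num : 2 ≤ 3) hn
      have := three_le_exponent hp5 hsp (by omega) hd
      omega
    have hWcen : ∀ w ∈ W', ∀ q ∈ Q', Commute w q := by
      rintro _ ⟨w, hw, rfl⟩ _ ⟨q, hq, rfl⟩
      exact (congrArg Subtype.val
        (mem_centralizer_iff.mp (LocalEven50.omegaOneCenter_le_centralizer _ hw) q hq)).symm
    have hZfix : ⁅Q', Q'⁆ ≤ centralizer ({x} : Set G) := commutator_le.mpr fun a ha b hb => by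
      refine mem_centralizer_singleton_iff.mpr (mul_inv_eq_iff_eq_mul.mp ?_).symm
      have e1 : x * ⁅a, b⁆ * x⁻¹ = ⁅⁅x, a⁆ * a, ⁅x, b⁆ * b⁆ := by
        simp only [commutatorElement_def]; group
      rw [e1]
      exact commutatorElement_mul_central (hWcen _ (hmod a ha) a ha) (hWcen _ (hmod a ha) b hb)
        (hWcen _ (hmod a ha) _ (map_mono hWQ (hmod b hb))) (hWcen _ (hmod b hb) a ha)
        (hWcen _ (hmod b hb) b hb)
    have hxWc : W' ≤ centralizer ({x} : Set G) := by
      show W.map P.subtype ≤ _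
      rw [show W = U ⊔ Z from hB.W_eq, Subgroup.map_sup]
      refine sup_le (fun u hu => mem_centralizer_singleton_iff.mpr
        (mem_centralizer_iff.mp hxUc u hu)) ?_
      rw [hZd, ← hX.comm, map_commutator]
      exact hZfix
    exact mem_centralizer_of_stab hx (by omega) hQ'p hxQ fun q hq =>
      (mem_centralizer_singleton_iff.mp (hxWc (hmod q hq))).symm
  -- `x` centralises the generators
  rw [hE', Subgroup.map_le_iff_le_comap, ← hB.res]
  refine LocalStructure.pResOf_le_of_forall fun g hg hc => ?_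
  show (g : G) ∈ centralizer ({x} : Set G)
  set q : G := ⁅x, (g : G)⁆ with hqd
  have hqQ : q ∈ Q' := by
    refine ⟨α g * g⁻¹, ?_, ?_⟩
    · rw [hQd, hB.Q_eq hsub]
      exact mem_inf.2 ⟨mul_mem (hαE g hg) (E.inv_mem hg), hαR g⟩
    · show x * (g : G) * x⁻¹ * (g : G)⁻¹ = q
      rw [hqd, commutatorElement_def]
  have hxq : Commute x q := (mem_centralizer_iff.mp hxQc q hqQ).symm
  have hpow : ∀ i : ℕ, x ^ i * (g : G) * (x ^ i)⁻¹ = q ^ i * g := by
    intro i
    induction i with
    | zero => simp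
    | succ i ih =>
      calc x ^ (i + 1) * (g : G) * (x ^ (i + 1))⁻¹ = x * (x ^ i * g * (x ^ i)⁻¹) * x⁻¹ := by
            rw [pow_succ']; group
        _ = (x * q ^ i * x⁻¹) * (x * g * x⁻¹) := by rw [ih]; group
        _ = q ^ (i + 1) * g := by
          rw [(hxq.pow_right i).eq, mul_inv_cancel_right, pow_succ, mul_assoc, hqd,
            commutatorElement_def]
          group
  have hqp : q ^ p = 1 := by
    have := hpow p
    rw [hx, one_mul, inv_one, mul_one] at this
    exact mul_eq_right.mp this.symm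
  obtain ⟨k, hk⟩ := hQ'p ⟨q, hqQ⟩
  have hq1 : q = 1 := orderOf_eq_one_iff.mp (Nat.eq_one_of_dvd_coprimes
    (((Nat.coprime_primes hs.out hp.out).mpr hsp.ne).pow_left k)
    (orderOf_dvd_of_pow_eq_one (congrArg Subtype.val hk)) (orderOf_dvd_of_pow_eq_one hqp))
  exact mem_centralizer_singleton_iff.mpr
    (commutatorElement_eq_one_iff_commute.mp hq1).symm.eq

/-- Some block outside `M` is centralised by `x`. -/
theorem exists_block (hp5 : 5 ≤ p) (hs5 : s < 5) {P T M : Subgroup G} (hP : Group.IsSolvable ↥P)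
    (hTP : T ≤ P) (hT : IsPGroup s T) (hsyl : ¬ s ∣ T.relIndex P)
    (hchar : P ⊓ centralizer (core s P : Set G) ≤ core s P) (hPM : ¬ P ≤ M) (hTM : T ≤ M)
    (hmin : ∀ H : Subgroup G, T ≤ H → H ≤ P → H ≠ P → H ≤ M)
    (hC : ∀ C : Subgroup ↥T, C.Characteristic → C ≠ ⊥ →
      P ⊓ normalizer ((C.map T.subtype : Subgroup G) : Set G) ≤ M)
    {x : G} (hx : x ^ p = 1) (hxP : x ∈ normalizer (P : Set G))
    (hcomm : ⁅P, zpowers x⁆ ≤ core s P) :
    ∃ E : Subgroup G, E ≤ P ∧ ¬ E ≤ M ∧ E ≤ centralizer ({x} : Set G) ∧ ⁅core s P, E⁆ ≤ E := by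
  haveI := hP
  let T₀ : Sylow s ↥P := hT.comap_subtype.toSylow (by rwa [relIndex] at hsyl)
  have hT₀ : (T₀ : Subgroup ↥P) = T.subgroupOf P := IsPGroup.toSylow_coe ..
  have hT₀m : (T₀ : Subgroup ↥P).map P.subtype = T := by rw [hT₀, map_subgroupOf_eq_of_le hTP]
  set M₀ := M.subgroupOf P with hM₀d
  have hM₀ : M₀ ≠ ⊤ := fun e => hPM (subgroupOf_eq_top.mp e)
  have hover : ∀ H : Subgroup ↥P, (T₀ : Subgroup ↥P) ≤ H → H ≠ ⊤ → H ≤ M₀ := by
    intro H hH hne g hg
    refine hmin (H.map P.subtype) (hT₀m.ge.trans (map_mono hH)) (map_subtype_le _) (fun e => hne ?_)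
      ⟨g, hg, rfl⟩
    exact map_injective P.subtype_injective (e.trans P.range_subtype.symm |>.trans
      (MonoidHom.range_eq_map P.subtype))
  -- characteristic subgroups of `T`
  have hN : ∀ C : Subgroup ↥T, C.Characteristic → ∀ C₀ : Subgroup ↥P, C₀ ≠ ⊥ →
      C.map T.subtype = C₀.map P.subtype → normalizer (C₀ : Set ↥P) ≤ M₀ := by
    intro C hchC C₀ hne he g hg
    refine hC C hchC (fun e => hne ((Subgroup.map_eq_bot_iff_of_injective _ P.subtype_injective).mp
      (by rw [← he, e, Subgroup.map_bot]))) ⟨g.2, ?_⟩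
    rw [he]
    exact le_normalizer_map _ ⟨g, hg, rfl⟩
  have hTne : (T₀ : Subgroup ↥P) ≠ ⊥ := by
    intro e
    have hQbot : Cfsg.pCore s ↥P = ⊥ := le_bot_iff.mp (e ▸
      (PLocal.pCore_le_sylow T₀ : Cfsg.pCore s ↥P ≤ _))
    refine hPM fun g hg => ?_
    have h1 : g ∈ P ⊓ centralizer (core s P : Set G) := ⟨hg, mem_centralizer_iff.mpr fun z hz => by
      rw [SetLike.mem_coe, core, hQbot, Subgroup.map_bot, mem_bot] at hz
      rw [hz, one_mul, mul_one]⟩
    have h2 := hchar h1
    rw [core, hQbot, Subgroup.map_bot, mem_bot] at h2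
    rw [h2]; exact one_mem M
  -- minimal parabolic
  have hTnorm : normalizer ((T₀ : Subgroup ↥P) : Set ↥P) ≤ M₀ :=
    hN ⊤ inferInstance _ hTne (by rw [← MonoidHom.range_eq_map, range_subtype, hT₀m])
  have hmin₀ : ¬ (T₀ : Subgroup ↥P).Normal ∧
      ∃! N : Subgroup ↥P, IsCoatom N ∧ (T₀ : Subgroup ↥P) ≤ N := by
    refine ⟨fun hn => hM₀ (top_le_iff.mp ?_), ?_⟩
    · rw [← normalizer_eq_top_iff.mpr hn]; exact hTnorm
    · have hTM₀ : (T₀ : Subgroup ↥P) ≤ M₀ := fun g hg => by
        show (g : G) ∈ M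
        exact hTM (by rw [hT₀] at hg; exact hg)
      obtain ⟨N, hN', hle⟩ := (eq_top_or_exists_le_coatom M₀).resolve_left hM₀
      refine ⟨N, ⟨hN', hTM₀.trans hle⟩, fun N' hN'' => ?_⟩
      exact ((hN''.1.le_iff.mp ((hover N' hN''.2 hN''.1.1).trans hle)).resolve_left hN'.1).symm
  have hmin' : Cfsg.IsPMinimal s ↥P := by
    intro S
    obtain ⟨g, hg⟩ := MulAction.exists_smul_eq ↥P T₀ S
    set φ := MulEquiv.mapSubgroup (MulAut.conj g) with hφ
    have hS : (S : Subgroup ↥P) = φ (T₀ : Subgroup ↥P) := by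
      rw [← hg, Sylow.coe_subgroup_smul]; rfl
    refine ⟨fun hn => hmin₀.1 ?_, ?_⟩
    · have e : (T₀ : Subgroup ↥P) = (S : Subgroup ↥P) := by
        apply Subgroup.eq_of_le_of_card_ge
        · intro t ht
          have : g * t * g⁻¹ ∈ (S : Subgroup ↥P) := by rw [hS]; exact ⟨t, ht, rfl⟩
          have := hn.conj_mem _ this g⁻¹
          simpa [mul_assoc] using this
        · exact (S.card_eq_multiplicity.trans T₀.card_eq_multiplicity.symm).le
      rwa [e]
    · obtain ⟨N, ⟨hN₁, hN₂⟩, huniq⟩ := hmin₀.2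
      refine ⟨φ N, ⟨(OrderIso.isCoatom_iff φ N).mpr hN₁, hS.trans_le (φ.monotone hN₂)⟩, fun N' hN' => ?_⟩
      have := huniq (φ.symm N') ⟨(OrderIso.isCoatom_iff φ.symm N').mpr hN'.1,
        by have := φ.symm.monotone (hS.ge.trans hN'.2); rwa [OrderIso.symm_apply_apply] at this⟩
      rw [← this, OrderIso.apply_symm_apply]
  have hchar' : centralizer (Cfsg.pCore s ↥P : Set ↥P) ≤ Cfsg.pCore s ↥P := by
    intro g hg
    obtain ⟨r, hr, hrg⟩ := hchar ⟨g.2, mem_centralizer_iff.mpr (by
      rintro _ ⟨r, hr, rfl⟩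
      exact congrArg Subtype.val (mem_centralizer_iff.mp hg r hr))⟩
    rwa [← P.subtype_injective hrg]
  -- characteristic subgroups are not normal
  set B := Cfsg.baumannSubgroupOf s (T₀ : Subgroup ↥P) with hBd
  have hBT : B ≤ T₀ := inf_le_left
  set Bt := Cfsg.baumannSubgroupOf s (⊤ : Subgroup ↥T)
  have htop : (⊤ : Subgroup ↥T).map T.subtype = T := by rw [← MonoidHom.range_eq_map, range_subtype]
  have hBmap : Bt.map T.subtype = B.map P.subtype := by
    rw [hBd, LocalEven50.map_baumannSubgroupOf P.subtype_injective,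
      LocalEven50.map_baumannSubgroupOf T.subtype_injective, htop, hT₀m]
  haveI hBtc : Bt.Characteristic := characteristic_iff_map_eq.mpr fun φ => by
    rw [LocalEven50.map_baumannSubgroupOf φ.injective, map_top_of_surjective _ φ.surjective]
  have hNC : ∀ C : Subgroup ↥P, C ≤ B → C ≠ ⊥ → (C.subgroupOf B).Characteristic →
      normalizer (C : Set ↥P) ≤ M₀ := fun C hCB hne hCc => by
    let C' := (C.map P.subtype).comap T.subtype
    have hC'le : C' ≤ Bt := by
      refine (comap_mono (map_mono hCB)).trans ?_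
      rw [← hBmap, comap_map_eq_self_of_injective T.subtype_injective]
    have hC'map : C'.map T.subtype = C.map P.subtype := map_comap_eq_self (by
      rw [range_subtype]; exact (map_mono (hCB.trans hBT)).trans hT₀m.le)
    refine hN C' (characteristic_iff_map_le.mpr fun φ => ?_) C hne hC'map
    rintro _ ⟨c, hc, rfl⟩
    -- the automorphism induced on `B`
    have hmem : ∀ b : ↥P, b ∈ B → (b : G) ∈ T := fun b hb => hT₀m.le (mem_map_of_mem _ (hBT hb))
    have key : ∀ (ψ : ↥T ≃* ↥T) (b : ↥B), ∃ b' : ↥B,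
        ((b' : ↥P) : G) = (ψ ⟨((b : ↥P) : G), hmem _ b.2⟩ : G) := by
      intro ψ b
      have h1 : ψ ⟨((b : ↥P) : G), hmem _ b.2⟩ ∈ Bt := by
        refine (characteristic_iff_map_eq.mp hBtc ψ).le (mem_map_of_mem _ ?_)
        rw [← comap_map_eq_self_of_injective T.subtype_injective Bt, hBmap]
        exact ⟨b, b.2, rfl⟩
      obtain ⟨b', hb', hbe⟩ := hBmap.le (mem_map_of_mem T.subtype h1)
      exact ⟨⟨b', hb'⟩, hbe⟩
    choose f hf using key
    let χ : ↥B ≃* ↥B :=
      { toFun := f φ
        invFun := f φ.symm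
        left_inv := fun b => Subtype.ext (Subtype.ext (by rw [hf]; simp [hf]))
        right_inv := fun b => Subtype.ext (Subtype.ext (by rw [hf]; simp [hf]))
        map_mul' := fun a b => Subtype.ext (Subtype.ext (by
          push_cast
          rw [hf, hf, hf, ← Subgroup.coe_mul, ← map_mul]
          rfl)) }
    obtain ⟨c', hc', hce⟩ := hc
    have h2 := (characteristic_iff_map_eq.mp hCc χ).le
      (mem_map_of_mem χ.toMonoidHom (show (⟨c', hCB hc'⟩ : ↥B) ∈ C.subgroupOf B from hc'))
    refine ⟨_, h2, ?_⟩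
    show ((f φ ⟨c', hCB hc'⟩ : ↥P) : G) = (φ c : G)
    rw [hf]
    exact congrArg (fun z : ↥T => (φ z : G)) (Subtype.ext hce)
  set Z := Cfsg.omegaOneCenter s (T₀ : Subgroup ↥P) with hZd
  set Zt := Cfsg.omegaOneCenter s (⊤ : Subgroup ↥T)
  have hNZ : normalizer (Z : Set ↥P) ≤ M₀ := hN Zt (characteristic_iff_map_eq.mpr fun φ => by
      rw [LocalEven50.map_omegaOneCenter φ.injective, map_top_of_surjective _ φ.surjective])
    Z (omegaOneCenter_ne_bot' T₀.2 hTne) (by
      rw [hZd, LocalEven50.map_omegaOneCenter P.subtype_injective,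
        LocalEven50.map_omegaOneCenter T.subtype_injective, htop, hT₀m])
  obtain ⟨𝓑, ⟨hblk, hconj, hcomm', htop', -⟩, -, -⟩ := Cfsg.Agent.S2982.result hmin' hchar' T₀
    (fun C hCB hne hCc hn => hM₀ (top_le_iff.mp
      ((normalizer_eq_top_iff.mpr hn).ge.trans (hNC C hCB hne hCc))))
    (fun hn => hM₀ (top_le_iff.mp ((normalizer_eq_top_iff.mpr hn).ge.trans hNZ)))
  have hstar : Cfsg.cStarOf s (T₀ : Subgroup ↥P) ≤ M₀ :=
    sup_le ((centralizer_le_normalizer _).trans hNZ) (iSup_le fun C => hNC C.1 C.2.1 C.2.2.1 C.2.2.2)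
  obtain ⟨E, hE, hEM⟩ : ∃ E ∈ 𝓑, ¬ E ≤ M₀ := by
    by_contra! hh
    exact hM₀ (top_le_iff.mp (htop'.ge.trans (sup_le hstar (sSup_le hh))))
  have hB' : IsBlockOf s E := ⟨hchar', T₀, hblk E hE⟩
  -- blocks are subnormal
  have hsub : E.IsSubnormal := by
    haveI : (sSup 𝓑).Normal := ⟨fun n hn g => by
      have hle : (sSup 𝓑).map (MulAut.conj g).toMonoidHom ≤ sSup 𝓑 := by
        rw [Subgroup.map_le_iff_le_comap]
        exact sSup_le fun F hF => Subgroup.map_le_iff_le_comap.mp (le_sSup (hconj F hF g))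
      exact hle ⟨n, hn, rfl⟩⟩
    refine IsSubnormal.step _ (sSup 𝓑) (le_sSup hE) (Subgroup.Normal.isSubnormal inferInstance)
      ((normal_subgroupOf_iff_le_normalizer (le_sSup hE)).mpr (sSup_le fun F hF => ?_))
    rcases eq_or_ne F E with rfl | hne
    · exact le_normalizer
    · exact (commutator_eq_bot_iff_le_centralizer.mp (hcomm' F hF E hE hne)).trans
        (centralizer_le_normalizer _)
  refine ⟨E.map P.subtype, map_subtype_le _, fun hle => hEM fun e he => hle ⟨e, he, rfl⟩,
    block_le_centralizer hp5 hs5 hB' hsub hx hxP hcomm, ?_⟩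
  rw [core, ← map_commutator, hB'.RE_eq hsub]
  exact map_mono (LocalStructure.pCoreOf_le E)

end CfsgLib.TwoGenSolv66
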