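import Cfsg.Agent.TwoGenSolv66.FaithfulThirteen
import Cfsg.Agent.OddOrder.BG9.Noncyclic
import Mathlib.GroupTheory.Perm.Cycle.Type

/-!
# Moved two-groups acting faithfully on at most `3 ^ 4` points

* the prime 5: the group is extraspecial of order 32 and has rank two;
* `not_hasRank3_of_faithful_eightyOne`.
-/

set_option autoImplicit false
set_option linter.unusedSectionVars false
set_option linter.unusedVariables false
set_option linter.style.haveILetI false

open scoped commutatorElement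

namespace CfsgLib.TwoGenSolv66.Faithful

open Subgroup CfsgLib.SolvSig CfsgLib.Transitivity

/-- Two endomorphisms commuting with a quarter turn of a plane commute. -/
theorem endo_comm {M : Type*} [CommGroup M] (γ φ ψ : M →* M) (h1 : ∀ x, φ (γ x) = γ (φ x))
    (h2 : ∀ x, ψ (γ x) = γ (ψ x)) (hγ : ∀ x, γ (γ x) = x⁻¹) (u : M)
    (hgen : ∀ x, ∃ i j : ℤ, u ^ i * γ u ^ j = x) (x : M) : φ (ψ x) = ψ (φ x) := by
  obtain ⟨i, j, hφ⟩ := hgen (φ u)
  obtain ⟨k, l, hψ⟩ := hgen (ψ u)
  have key : φ (ψ u) = ψ (φ u) := by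
    rw [← hψ, ← hφ]
    simp only [map_mul, map_zpow, h1, h2, ← hφ, ← hψ, hγ, mul_zpow, inv_zpow, ← zpow_mul]
    rw [mul_comm i k, mul_comm j l, mul_comm j k, mul_comm i l]
    ac_rfl
  obtain ⟨a, b, rfl⟩ := hgen x
  simp only [map_mul, map_zpow, h1, h2, key]

/-- Involutions in a group of order 32 with derived group of order two and a self-centralising
elementary subgroup of order eight. -/
theorem count_involutions {M : Type*} [Group M] [Fintype M] [DecidableEq M] (E : Subgroup M)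
    [DecidablePred (· ∈ E)] {z : M}
    (hE : ∀ e ∈ E, ∀ e' ∈ E, Commute e e') (hE2 : ∀ e ∈ E, e * e = 1)
    (hE8 : Nat.card E = 8) (hM : Nat.card M = 32) (hz1 : z ≠ 1) (hz2 : z * z = 1)
    (hzc : ∀ x, Commute z x) (hsq : ∀ x : M, x * x = 1 ∨ x * x = z)
    (hcm : ∀ x y : M, ⁅x, y⁆ = 1 ∨ ⁅x, y⁆ = z)
    (hself : ∀ x, x ∉ E → ∃ e ∈ E, ¬ Commute x e) :
    (Finset.univ.filter fun x : M => x * x = 1).card = 20 := by
  set F := Finset.univ.filter fun x : M => x ∈ E with hF
  set O := Finset.univ.filter fun x : M => x ∉ E with hO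
  set I := O.filter fun x : M => x * x = 1 with hI
  have hF8 : F.card = 8 := by
    rw [← hE8, Nat.card_eq_fintype_card, Fintype.card_subtype]
  have hO24 : O.card = 24 := by
    have h := Finset.card_filter_add_card_filter_not (s := (Finset.univ : Finset M)) (p := fun x => x ∈ E)
    rw [← hF, ← hO, hF8, Finset.card_univ, ← Nat.card_eq_fintype_card, hM] at h
    omega
  have hfour : ∀ x ∈ O, (F.filter fun e => x * e * (x * e) = 1).card = 4 := by
    intro x hx
    obtain ⟨e₀, he₀, hne⟩ := hself x (Finset.mem_filter.mp hx).2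
    have hez : e₀ * x = x * e₀ * z := by
      have h := (hcm e₀ x).resolve_left fun h => hne (commutatorElement_eq_one_iff_commute.mp h).symm
      rw [← (hzc (x * e₀)).eq, ← h, commutatorElement_def]
      group
    have hflip : ∀ e ∈ E, x * (e * e₀) * (x * (e * e₀)) = x * e * (x * e) * z := by
      intro e he
      have hc : Commute e e₀ := hE e he e₀ he₀
      calc x * (e * e₀) * (x * (e * e₀)) = x * e * (e₀ * x) * (e * e₀) := by group
        _ = x * e * x * (e₀ * (z * (e * e₀))) := by rw [hez]; group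
        _ = x * e * x * (e₀ * ((e * e₀) * z)) := by rw [(hzc (e * e₀)).eq]
        _ = x * e * x * (e * (e₀ * e₀) * z) := by rw [show e₀ * (e * e₀ * z) = e₀ * e * e₀ * z by group, ← hc.eq, mul_assoc e]
        _ = _ := by rw [hE2 e₀ he₀, mul_one]; group
    have hbad : (F.filter fun e => ¬ x * e * (x * e) = 1).card =
        (F.filter fun e => x * e * (x * e) = 1).card := by
      refine Finset.card_nbij' (fun e => e * e₀) (fun e => e * e₀) ?_ ?_ ?_ ?_
      · intro e he
        simp only [Finset.mem_coe, Finset.mem_filter, hF, Finset.mem_univ, true_and] at he ⊢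
        refine ⟨mul_mem he.1 he₀, ?_⟩
        rw [hflip e he.1, (hsq _).resolve_left he.2, hz2]
      · intro e he
        simp only [Finset.mem_coe, Finset.mem_filter, hF, Finset.mem_univ, true_and] at he ⊢
        refine ⟨mul_mem he.1 he₀, ?_⟩
        rw [hflip e he.1, he.2, one_mul]
        exact hz1
      · intro e _
        simp [mul_assoc, hE2 e₀ he₀]
      · intro e _
        simp [mul_assoc, hE2 e₀ he₀]
    have h := Finset.card_filter_add_card_filter_not (s := F) (p := fun e => x * e * (x * e) = 1)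
    omega
  set S := (O ×ˢ F).filter fun q : M × M => q.1 * q.2 * (q.1 * q.2) = 1 with hS
  have hS1 : S.card = 24 * 4 := by
    have e : S.card = ∑ x ∈ O, (F.filter fun e => x * e * (x * e) = 1).card := by
      simp only [hS, Finset.card_filter, Finset.sum_product]
    rw [e, Finset.sum_const_nat hfour, hO24]
  have hS2 : S.card = (I ×ˢ F).card := by
    refine Finset.card_nbij' (fun q => (q.1 * q.2, q.2)) (fun q => (q.1 * q.2⁻¹, q.2)) ?_ ?_ ?_ ?_
    · rintro ⟨x, e⟩ hq
      simp only [hS, hI, hO, hF, Finset.mem_coe, Finset.mem_filter, Finset.mem_product,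
        Finset.mem_univ, true_and] at hq ⊢
      exact ⟨⟨fun h => hq.1.1 ((E.mul_mem_cancel_right hq.1.2).mp h), hq.2⟩, hq.1.2⟩
    · rintro ⟨x, e⟩ hq
      simp only [hS, hI, hO, hF, Finset.mem_coe, Finset.mem_filter, Finset.mem_product,
        Finset.mem_univ, true_and] at hq ⊢
      exact ⟨⟨fun h => hq.1.1 ((E.mul_mem_cancel_right (inv_mem hq.2)).mp h), hq.2⟩,
        by rw [inv_mul_cancel_right]; exact hq.1.2⟩
    · rintro ⟨x, e⟩ _
      simp
    · rintro ⟨x, e⟩ _
      simp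
  rw [hS1, Finset.card_product, hF8] at hS2
  have h := Finset.card_filter_add_card_filter_not
    (s := Finset.univ.filter fun x : M => x * x = 1) (p := fun x => x ∈ E)
  rw [Finset.filter_filter, Finset.filter_filter] at h
  have e1 : (Finset.univ.filter fun x : M => x * x = 1 ∧ x ∈ E) = F := by
    ext x
    simp only [hF, Finset.mem_filter, Finset.mem_univ, true_and]
    exact ⟨fun h => h.2, fun h => ⟨hE2 x h, h⟩⟩
  have e2 : (Finset.univ.filter fun x : M => x * x = 1 ∧ ¬ x ∈ E) = I := by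
    ext x
    simp only [hI, hO, Finset.mem_filter, Finset.mem_univ, true_and]
    exact and_comm
  rw [e1, e2, hF8] at h
  omega

variable {G : Type*} [Group G] [Finite G]

/-- On a plane turned by `c`, elements commuting with `c` act commutatively. -/
theorem conj_comm_of_plane {W : Subgroup G} (hW : Cfsg.IsElementaryAbelian 3 W)
    (hW9 : Nat.card W ≤ 9) {c a b : G} (hc : c ∈ normalizer (W : Set G))
    (ha : a ∈ normalizer (W : Set G)) (hb : b ∈ normalizer (W : Set G)) (hca : Commute c a)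
    (hcb : Commute c b) (hc2 : ∀ v ∈ W, c * c * v * (c * c)⁻¹ = v⁻¹) :
    ∀ v ∈ W, a * b * v * (a * b)⁻¹ = b * a * v * (b * a)⁻¹ := by
  intro v hv
  by_cases hbot : ∀ x ∈ W, x = 1
  · simp [hbot v hv]
  push Not at hbot
  obtain ⟨u, hu, hu1⟩ := hbot
  obtain ⟨hle, h9, -⟩ := plane_spec hW hc hc2 hu hu1
  have heq := eq_of_le_of_card_ge hle (hW9.trans h9.ge)
  letI : CommGroup W := { (inferInstance : Group W) with mul_comm := fun x y => hW.1.is_comm.comm x y }
  let act : ∀ g ∈ normalizer (W : Set G), W →* W := fun g hg =>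
    { toFun := fun x => ⟨g * x * g⁻¹, (mem_normalizer_iff.mp hg x).mp x.2⟩
      map_one' := Subtype.ext (by simp)
      map_mul' := fun x y => Subtype.ext (by simp [mul_assoc]) }
  have hcomm : ∀ g (hg : g ∈ normalizer (W : Set G)), Commute c g →
      ∀ x, act g hg (act c hc x) = act c hc (act g hg x) := fun g hg hcg x => Subtype.ext (by
    show g * (c * x * c⁻¹) * g⁻¹ = c * (g * x * g⁻¹) * c⁻¹
    calc g * (c * x * c⁻¹) * g⁻¹ = (g * c) * x * (g * c)⁻¹ := by group
      _ = (c * g) * x * (c * g)⁻¹ := by rw [hcg.eq]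
      _ = _ := by group)
  have h := endo_comm (act c hc) (act a ha) (act b hb) (hcomm a ha hca) (hcomm b hb hcb)
    (fun x => Subtype.ext (by
      show c * (c * x * c⁻¹) * c⁻¹ = (x : G)⁻¹
      rw [← hc2 x x.2]; group)) ⟨u, hu⟩ (fun x => by
      have hn : zpowers (c * u * c⁻¹) ≤ normalizer ((zpowers u : Subgroup G) : Set G) := fun k hk =>
        centralizer_le_normalizer _ (mem_centralizer_iff.mpr fun l hl =>
          (commute_of_mem hW.1 (hle (mem_sup_left hl)) (hle (mem_sup_right hk))).eq)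
      obtain ⟨_, ⟨i, rfl⟩, _, ⟨j, rfl⟩, he⟩ := Coprime.exists_mul_of_mem_sup hn (heq.ge x.2)
      exact ⟨i, j, Subtype.ext (by
        simp only [Subgroup.coe_mul, SubgroupClass.coe_zpow]
        exact he)⟩) ⟨v, hv⟩
  have h' : a * (b * v * b⁻¹) * a⁻¹ = b * (a * v * a⁻¹) * b⁻¹ := congrArg Subtype.val h
  rw [show a * b * v * (a * b)⁻¹ = a * (b * v * b⁻¹) * a⁻¹ by group, h']
  group

variable {p : ℕ} [hp : Fact p.Prime] {y : G} {V R : Subgroup G}

/-- The situation for the prime 5, with the inverting involution named. -/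
structure Five (p : ℕ) (y : G) (V R Q : Subgroup G) (z : G) : Prop where
  mm : MinMoved p y V R Q
  five : p = 5
  zQ : z ∈ Q
  zy : Commute z y
  z2 : z * z = 1
  z1 : z ≠ 1
  zinv : ∀ v ∈ V, z * v * z⁻¹ = v⁻¹

theorem MinMoved.exists_five {Q : Subgroup G} (m : MinMoved p y V R Q) (h5 : p = 5) :
    ∃ z, Five p y V R Q z := by
  obtain ⟨a, ha, b, hb, hne⟩ := m.not_comm
  have hQ : ⁅a, b⁆ ∈ Q := by
    rw [commutatorElement_def]; exact mul_mem (mul_mem (mul_mem ha hb) (inv_mem ha)) (inv_mem hb)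
  have hy : Commute ⁅a, b⁆ y := mem_centralizer_singleton_iff.mp (m.frattini_fixed ha hb).2
  exact ⟨⁅a, b⁆, m, h5, hQ, hy, m.comm_sq ha hb, hne,
    m.data.inverts_of_five h5 (m.le hQ) (m.comm_sq ha hb) hy hne⟩

namespace Five

variable {Q : Subgroup G} {z : G} (F : Five p y V R Q z)
include F

theorem uniq {r : G} (hr : r ∈ R) (h2 : r * r = 1) (hy : Commute r y) : r = 1 ∨ r = z := by
  by_cases h1 : r = 1
  · exact Or.inl h1
  exact Or.inr (F.mm.data.inv_unique hr (F.mm.le F.zQ)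
    (F.mm.data.inverts_of_five F.five hr h2 hy h1) F.zinv)

theorem zR {r : G} (hr : r ∈ R) : Commute z r := by
  have hzR := F.mm.le F.zQ
  have h : r * z * r⁻¹ = z := F.mm.data.inv_unique (mul_mem (mul_mem hr hzR) (inv_mem hr)) hzR
    (fun v hv => by
      have hw : r⁻¹ * v * r ∈ V := by
        simpa using (mem_normalizer_iff.mp (inv_mem (F.mm.data.hRV hr)) v).mp hv
      rw [show r * z * r⁻¹ * v * (r * z * r⁻¹)⁻¹ = r * (z * (r⁻¹ * v * r) * z⁻¹) * r⁻¹ by group,
        F.zinv _ hw]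
      group) F.zinv
  exact (mul_inv_eq_iff_eq_mul.mp h).symm

theorem mem_two {x : G} : x ∈ zpowers z ↔ x = 1 ∨ x = z := by
  refine ⟨fun h => ?_, fun h => by rcases h with rfl | rfl <;> simp [one_mem, mem_zpowers]⟩
  obtain ⟨i, rfl⟩ := mem_zpowers_iff.mp h
  rcases Int.even_or_odd i with ⟨k, rfl⟩ | ⟨k, rfl⟩
  · left
    rw [zpow_add, ← (Commute.refl z).mul_zpow, F.z2, one_zpow]
  · right
    rw [zpow_add_one, two_mul, zpow_add, ← (Commute.refl z).mul_zpow, F.z2, one_zpow, one_mul]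

theorem Zcard : Nat.card (zpowers z) = 2 := by
  haveI : Fact (Nat.Prime 2) := ⟨Nat.prime_two⟩
  rw [Nat.card_zpowers]
  exact orderOf_eq_prime (by rw [pow_two]; exact F.z2) F.z1

theorem z_le : zpowers z ≤ Q ⊓ centralizer ({y} : Set G) :=
  zpowers_le.mpr ⟨F.zQ, mem_centralizer_singleton_iff.mpr F.zy.eq⟩

theorem Zcen : R ≤ centralizer ((zpowers z : Subgroup G) : Set G) := fun r hr =>
  mem_centralizer_iff.mpr fun x hx => by
    obtain ⟨i, rfl⟩ := mem_zpowers_iff.mp hx
    exact ((F.zR hr).zpow_left i).eq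

theorem comm_mem {a b : G} (ha : a ∈ Q) (hb : b ∈ Q) : ⁅a, b⁆ ∈ zpowers z := F.mem_two.mpr
  (F.uniq (F.mm.le (by
      rw [commutatorElement_def]; exact mul_mem (mul_mem (mul_mem ha hb) (inv_mem ha)) (inv_mem hb)))
    (F.mm.comm_sq ha hb) (mem_centralizer_singleton_iff.mp (F.mm.frattini_fixed ha hb).2))

theorem exponents : ∃ n j : ℕ, Nat.card Q = 2 ^ n ∧
    Nat.card ↥(Q ⊓ centralizer ({y} : Set G)) = 2 ^ j ∧ j + 4 ≤ n ∧ 5 ∣ 2 ^ (n - j) - 1 := by
  obtain ⟨n, j, hn, hj, hlt, hd⟩ := F.mm.card_exponents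
  rw [F.five] at hd
  refine ⟨n, j, hn, hj, ?_, hd⟩
  by_contra hb
  have h1 : 0 < n - j := by omega
  have h2 : n - j < 4 := by omega
  interval_cases hk : n - j <;> norm_num at hd

theorem big : 16 * Nat.card ↥(Q ⊓ centralizer ({y} : Set G)) ≤ Nat.card Q := by
  obtain ⟨n, j, hn, hj, hle, -⟩ := F.exponents
  rw [hn, hj, show 16 * 2 ^ j = 2 ^ (j + 4) by rw [pow_add]; ring]
  exact Nat.pow_le_pow_right (by norm_num) hle

/-- A subgroup of the moved group grows at least twofold. -/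
theorem double {A B : Subgroup G} (hB : B ≤ Q) (h : A < B) : 2 * Nat.card A ≤ Nat.card B := by
  haveI : Fact (Nat.Prime 2) := ⟨Nat.prime_two⟩
  obtain ⟨i, hi⟩ := IsPGroup.iff_card.mp (F.mm.isPGroup.to_le (h.le.trans hB))
  obtain ⟨k, hk⟩ := IsPGroup.iff_card.mp (F.mm.isPGroup.to_le hB)
  have hlt : Nat.card A < Nat.card B :=
    Set.ncard_lt_ncard (SetLike.coe_ssubset_coe.mpr h) (Set.toFinite _)
  rw [hi, hk] at hlt ⊢
  have hik := (Nat.pow_lt_pow_iff_right (by norm_num : 1 < 2)).mp hlt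
  calc 2 * 2 ^ i = 2 ^ (i + 1) := by rw [pow_succ, mul_comm]
    _ ≤ _ := Nat.pow_le_pow_right (by norm_num) hik

/-- An abelian subgroup extended by a centralising element. -/
theorem comm_sup {A : Subgroup G} (hA : ∀ a ∈ A, ∀ b ∈ A, Commute a b) {x : G}
    (hx : ∀ a ∈ A, Commute a x) : ∀ a ∈ A ⊔ zpowers x, ∀ b ∈ A ⊔ zpowers x, Commute a b := by
  have hn : zpowers x ≤ normalizer (A : Set G) :=
    (zpowers_le.mpr (mem_centralizer_iff.mpr fun a ha => (hx a ha).eq)).trans
      (centralizer_le_normalizer _)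
  intro u hu w hw
  obtain ⟨a, ha, _, ⟨i, rfl⟩, rfl⟩ := Coprime.exists_mul_of_mem_sup hn hu
  obtain ⟨b, hb, _, ⟨j, rfl⟩, rfl⟩ := Coprime.exists_mul_of_mem_sup hn hw
  exact ((hA a ha b hb).mul_right ((hx a ha).zpow_right j)).mul_left
    (((hx b hb).zpow_right i).symm.mul_right ((Commute.refl x).zpow_zpow i j))

theorem exists_involution : ∃ f ∈ Q, f * f = 1 ∧ f ∉ centralizer ({y} : Set G) := by
  set D := Q ⊓ centralizer ({y} : Set G)
  have hD0 : 0 < Nat.card D := Nat.card_pos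
  have hbig : 16 * Nat.card D ≤ Nat.card Q := F.big
  obtain ⟨x, hx, hxD⟩ : ∃ x ∈ Q, x ∉ D := by
    by_contra! hall
    have := Subgroup.card_le_of_le (show Q ≤ D from hall)
    omega
  have hxy : x ∉ centralizer ({y} : Set G) := fun h => hxD ⟨hx, h⟩
  have hDab : ∀ a ∈ D, ∀ b ∈ D, Commute a b := fun a ha b hb =>
    F.mm.fixed_central ha.1 ha.2 hb.1
  have hM0 := F.comm_sup hDab (x := x) fun a ha => F.mm.fixed_central ha.1 ha.2 hx
  set M0 := D ⊔ zpowers x
  have hM0Q : M0 ≤ Q := sup_le inf_le_left (zpowers_le.mpr hx)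
  -- squares bound the subgroup
  have hsmall : Nat.card M0 ≤ 2 * Nat.card D := by
    have hn : zpowers x ≤ normalizer (D : Set G) :=
      (zpowers_le.mpr (mem_centralizer_iff.mpr fun a ha =>
        (F.mm.fixed_central ha.1 ha.2 hx).eq)).trans (centralizer_le_normalizer _)
    have h1 : ∀ w ∈ M0, ∃ d ∈ D, w = d ∨ w = d * x := by
      intro w hw
      obtain ⟨d, hd, _, ⟨i, rfl⟩, rfl⟩ := Coprime.exists_mul_of_mem_sup hn hw
      have hxx : x * x ∈ D := ⟨mul_mem hx hx, (F.mm.frattini_fixed hx hx).1⟩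
      rcases Int.even_or_odd i with ⟨k, rfl⟩ | ⟨k, rfl⟩
      · refine ⟨d * (x * x) ^ k, mul_mem hd (zpow_mem hxx k), Or.inl ?_⟩
        show d * x ^ (k + k) = _
        rw [(Commute.refl x).mul_zpow, zpow_add]
      · refine ⟨d * (x * x) ^ k, mul_mem hd (zpow_mem hxx k), Or.inr ?_⟩
        show d * x ^ (2 * k + 1) = _
        rw [(Commute.refl x).mul_zpow, zpow_add_one, two_mul, zpow_add, mul_assoc d]
    choose d hd hw using h1
    classical
    have hinj : Function.Injective fun w : M0 =>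
        ((decide ((w : G) = d w w.2), (⟨d w w.2, hd w w.2⟩ : D)) : Bool × D) := by
      intro u v huv
      simp only [Prod.mk.injEq, decide_eq_decide, Subtype.mk.injEq] at huv
      refine Subtype.ext ?_
      by_cases hu' : (u : G) = d u u.2
      · rw [hu', huv.2, ← huv.1.mp hu']
      · rw [(hw u u.2).resolve_left hu', huv.2,
          ← (hw v v.2).resolve_left fun e => hu' (huv.1.mpr e)]
    have := Nat.card_le_card_of_injective _ hinj
    rwa [Nat.card_prod, Nat.card_eq_fintype_card (α := Bool), Fintype.card_bool] at this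
  have hCx := card_le_of_commutator (C := Q) (V := zpowers z) (b := x) (F.z_le.trans inf_le_left)
    (F.mm.le.trans F.Zcen) fun c hc => F.comm_mem hc hx
  rw [F.Zcard] at hCx
  obtain ⟨w, hw, hwM⟩ : ∃ w ∈ Q ⊓ centralizer ({x} : Set G), w ∉ M0 := by
    by_contra! hall
    have := Subgroup.card_le_of_le (show Q ⊓ centralizer ({x} : Set G) ≤ M0 from hall)
    omega
  have hMab := F.comm_sup hM0 (x := w) (fun a ha => by
    have hle : M0 ≤ centralizer ({w} : Set G) := sup_le
      (fun a ha => mem_centralizer_singleton_iff.mpr (F.mm.fixed_central ha.1 ha.2 hw.1).eq)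
      (zpowers_le.mpr (mem_centralizer_singleton_iff.mpr
        (mem_centralizer_singleton_iff.mp hw.2).symm))
    exact mem_centralizer_singleton_iff.mp (hle ha))
  set M := M0 ⊔ zpowers w
  have hMQ : M ≤ Q := sup_le hM0Q (zpowers_le.mpr hw.1)
  have h4 : 4 * Nat.card D ≤ Nat.card M := by
    have k1 := F.double hM0Q (lt_of_le_of_ne le_sup_left fun e =>
      hxD (e.ge (mem_sup_right (mem_zpowers x))) : D < M0)
    have k2 := F.double hMQ (lt_of_le_of_ne le_sup_left fun e =>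
      hwM (e.ge (mem_sup_right (mem_zpowers w))) : M0 < M)
    omega
  let φ : M →* D :=
    { toFun := fun a => ⟨(a : G) * a, mul_mem (hMQ a.2) (hMQ a.2),
        (F.mm.frattini_fixed (hMQ a.2) (hMQ a.2)).1⟩
      map_one' := Subtype.ext (one_mul 1)
      map_mul' := fun a b => Subtype.ext ((hMab b b.2 a a.2).mul_mul_mul_comm a b) }
  have h1 := φ.ker.card_mul_index
  rw [Subgroup.index_ker] at h1
  have h2 := Subgroup.card_le_card_group φ.range
  by_contra! hall
  have h3 : Nat.card φ.ker ≤ Nat.card (zpowers z) := by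
    refine Nat.card_le_card_of_injective
      (fun a => ⟨((a : M) : G), ?_⟩) fun a b hab =>
        Subtype.ext (Subtype.ext (congrArg (fun t : zpowers z => (t : G)) hab))
    have ha : ((a : M) : G) * (a : M) = 1 := congrArg Subtype.val (MonoidHom.mem_ker.mp a.2)
    exact F.mem_two.mpr (F.uniq (F.mm.le (hMQ (a : M).2)) ha
      (mem_centralizer_singleton_iff.mp (hall _ (hMQ (a : M).2) ha)))
  rw [F.Zcard] at h3
  have := Nat.mul_le_mul h3 h2
  omega

theorem exists_flip {f : G} (hf : f ∈ Q) (hfy : f ∉ centralizer ({y} : Set G)) :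
    ∃ q ∈ Q, ⁅q, f⁆ = z := by
  by_contra! hall
  refine hfy (F.mm.central_fixed hf fun x hx => ?_)
  exact (commutatorElement_eq_one_iff_commute.mp
    (((F.mem_two.mp (F.comm_mem hx hf))).resolve_right (hall x hx))).symm

/-- The halves of a noncentral involution. -/
theorem halves {f q : G} (hf : f ∈ Q) (hf2 : f * f = 1) (hq : q ∈ Q) (hqf : ⁅q, f⁆ = z) :
    Nat.card ↥(V ⊓ centralizer ({f} : Set G)) = 9 ∧
      Nat.card (invPart F.mm.data.hV.1 f) = 9 := by
  have h := F.mm.data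
  have hqV := h.hRV (F.mm.le hq)
  have hfV := h.hRV (F.mm.le hf)
  have hzi : z⁻¹ = z := inv_eq_of_mul_eq_one_right F.z2
  have hfq : f = z * (q * f * q⁻¹) := by
    rw [← hzi, ← hqf, commutatorElement_def]; group
  have hconj : ∀ v, f * (q * v * q⁻¹) * f⁻¹ = z * (q * (f * v * f⁻¹) * q⁻¹) * z⁻¹ := fun v => by
    conv_lhs => rw [hfq]
    group
  set W := V ⊓ centralizer ({f} : Set G)
  set U := invPart h.hV.1 f
  have hWU : ∀ v ∈ W, q * v * q⁻¹ ∈ U := fun v hv => by
    have hm : q * v * q⁻¹ ∈ V := (mem_normalizer_iff.mp hqV v).mp hv.1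
    exact ⟨hm, by rw [hconj, mem_fix.mp hv.2, F.zinv _ hm]⟩
  have hUW : ∀ v ∈ U, q * v * q⁻¹ ∈ W := fun v hv => by
    have hm : q * v * q⁻¹ ∈ V := (mem_normalizer_iff.mp hqV v).mp hv.1
    refine mem_inf.mpr ⟨hm, mem_fix.mpr ?_⟩
    rw [hconj, hv.2, show q * v⁻¹ * q⁻¹ = (q * v * q⁻¹)⁻¹ by group, F.zinv _ (inv_mem hm), inv_inv]
  have hinj : ∀ {X Y : Subgroup G}, (∀ v ∈ X, q * v * q⁻¹ ∈ Y) → Nat.card X ≤ Nat.card Y :=
    fun {X Y} hXY => Nat.card_le_card_of_injective (fun v => ⟨q * v * q⁻¹, hXY v v.2⟩)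
      fun a b hab => Subtype.ext (by simpa using congrArg Subtype.val hab)
  have heq : Nat.card W = Nat.card U := le_antisymm (hinj hWU) (hinj hUW)
  have hs : Nat.card W * Nat.card U = Nat.card V := card_split h.hV hf2 hfV
  obtain ⟨-, hV, -⟩ | ⟨h13, -⟩ := h.cases
  · rw [← heq, hV] at hs
    have : Nat.card W = 9 := Nat.mul_self_inj.mp (by rw [hs])
    exact ⟨this, heq ▸ this⟩
  · have := F.five
    omega

/-- No square root of `z` centralises the moved group. -/
theorem no_root {c : G} (hc : c ∈ R) (hc2 : c * c = z) (hcQ : ∀ x ∈ Q, Commute c x) : False := by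
  obtain ⟨f, hf, hf2, hfy⟩ := F.exists_involution
  obtain ⟨q, hq, hqf⟩ := F.exists_flip hf hfy
  obtain ⟨hW9, hU9⟩ := F.halves hf hf2 hq hqf
  have h := F.mm.data
  set W := V ⊓ centralizer ({f} : Set G)
  set U := invPart h.hV.1 f
  have hn : ∀ a ∈ R, Commute a f → a ∈ normalizer (W : Set G) ∧ a ∈ normalizer (U : Set G) := by
    intro a ha haf
    have hmove : ∀ v, f * (a * v * a⁻¹) * f⁻¹ = a * (f * v * f⁻¹) * a⁻¹ := fun v => by
      calc f * (a * v * a⁻¹) * f⁻¹ = (f * a) * v * (f * a)⁻¹ := by group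
        _ = (a * f) * v * (a * f)⁻¹ := by rw [haf.eq]
        _ = _ := by group
    refine ⟨LocalStructure.mem_normalizer_of_forall fun v hv => mem_inf.mpr
      ⟨(mem_normalizer_iff.mp (h.hRV ha) v).mp hv.1, mem_fix.mpr ?_⟩,
      LocalStructure.mem_normalizer_of_forall fun v hv =>
        ⟨(mem_normalizer_iff.mp (h.hRV ha) v).mp hv.1, ?_⟩⟩
    · rw [hmove, mem_fix.mp hv.2]
    · rw [hmove, hv.2]; group
  have hel : ∀ {X : Subgroup G}, X ≤ V → Cfsg.IsElementaryAbelian 3 X := fun {X} hX =>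
    ⟨⟨⟨fun a b => Subtype.ext (commute_of_mem h.hV.1 (hX a.2) (hX b.2))⟩⟩,
      fun a ha => h.hV.2 a (hX ha)⟩
  have hab : ∀ a ∈ Q ⊓ centralizer ({f} : Set G), ∀ b ∈ Q ⊓ centralizer ({f} : Set G),
      Commute a b := by
    intro a ha b hb
    have na := hn a (F.mm.le ha.1) (mem_centralizer_singleton_iff.mp ha.2)
    have nb := hn b (F.mm.le hb.1) (mem_centralizer_singleton_iff.mp hb.2)
    have nc := hn c hc (hcQ f hf)
    have k1 := conj_comm_of_plane (hel (inf_le_left : W ≤ V)) hW9.le nc.1 na.1 nb.1 (hcQ a ha.1)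
      (hcQ b hb.1) fun v hv => by rw [hc2]; exact F.zinv v hv.1
    have k2 := conj_comm_of_plane (hel (invPart_le h.hV.1 f)) hU9.le nc.2 na.2 nb.2 (hcQ a ha.1)
      (hcQ b hb.1) fun v hv => by rw [hc2]; exact F.zinv v hv.1
    have hkey : (b * a)⁻¹ * (a * b) = 1 := h.eq_one
      (mul_mem (inv_mem (mul_mem (F.mm.le hb.1) (F.mm.le ha.1)))
        (mul_mem (F.mm.le ha.1) (F.mm.le hb.1))) fun v hv => by
      obtain ⟨w, hw, u, hu, rfl⟩ := involution_split h.hV hf2 (h.hRV (F.mm.le hf)) hv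
      rw [show (b * a)⁻¹ * (a * b) * (w * u) * ((b * a)⁻¹ * (a * b))⁻¹ =
        (b * a)⁻¹ * ((a * b * w * (a * b)⁻¹) * (a * b * u * (a * b)⁻¹)) * (b * a) by group,
        k1 w hw, k2 u hu]
      group
    exact (inv_mul_eq_one.mp hkey).symm
  have hidx := card_le_of_commutator (C := Q) (V := zpowers z) (b := f) (F.z_le.trans inf_le_left)
    (F.mm.le.trans F.Zcen) fun c hc => F.comm_mem hc hf
  rw [F.Zcard, mul_comm] at hidx
  exact F.mm.false_of_abelian_index_two inf_le_left hab hidx F.big F.Zcard.le F.z_le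
    fun a ha b hb => F.comm_mem ha hb

theorem fixed_eq : Q ⊓ centralizer ({y} : Set G) = zpowers z := by
  refine le_antisymm ?_ F.z_le
  intro d hd
  haveI : Fact (Nat.Prime 2) := ⟨Nat.prime_two⟩
  obtain ⟨k, hk⟩ := IsPGroup.iff_orderOf.mp F.mm.isPGroup ⟨d, hd.1⟩
  rw [Subgroup.orderOf_mk] at hk
  rcases Nat.lt_or_ge k 2 with hk2 | hk2
  · refine F.mem_two.mpr (F.uniq (F.mm.le hd.1) ?_ (mem_centralizer_singleton_iff.mp hd.2))
    rw [← pow_two, ← orderOf_dvd_iff_pow_eq_one, hk]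
    exact (pow_dvd_pow 2 (show k ≤ 1 by omega)).trans (by norm_num)
  exfalso
  set c := d ^ 2 ^ (k - 2)
  have hcD : c ∈ Q ⊓ centralizer ({y} : Set G) := pow_mem hd _
  have hoc : orderOf c = 4 := by
    rw [orderOf_pow, hk, Nat.gcd_eq_right (pow_dvd_pow 2 (by omega)),
      Nat.pow_div (by omega) (by norm_num), show k - (k - 2) = 2 by omega]
  have hc4 : c * c * (c * c) = 1 := by
    rw [show c * c * (c * c) = c ^ 4 by simp [pow_succ, mul_assoc], ← hoc, pow_orderOf_eq_one]
  have hc1 : c * c ≠ 1 := fun e => by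
    rw [← pow_two, ← orderOf_dvd_iff_pow_eq_one, hoc] at e
    norm_num at e
  have hcy : Commute c y := mem_centralizer_singleton_iff.mp hcD.2
  exact F.no_root (F.mm.le hcD.1)
    ((F.uniq (mul_mem (F.mm.le hcD.1) (F.mm.le hcD.1)) hc4 (hcy.mul_left hcy)).resolve_left hc1)
    fun x hx => F.mm.fixed_central hcD.1 hcD.2 hx

theorem sq_mem {x : G} (hx : x ∈ Q) : x * x = 1 ∨ x * x = z := F.mem_two.mp
  (F.fixed_eq.le ⟨mul_mem hx hx, (F.mm.frattini_fixed hx hx).1⟩)

theorem card_eq : Nat.card Q = 32 := by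
  obtain ⟨n, j, hn, hj, hle, hd⟩ := F.exponents
  obtain rfl : j = 1 := by
    rw [F.fixed_eq, F.Zcard] at hj
    exact (Nat.pow_right_injective (le_refl 2) (show 2 ^ 1 = 2 ^ j by rw [← hj])).symm
  suffices hQ : Nat.card Q ≤ 324 by
    rw [hn] at hQ ⊢
    have h9 : n ≤ 8 := by
      by_contra hb
      have := Nat.pow_le_pow_right (show 1 ≤ 2 by norm_num) (show 9 ≤ n by omega)
      omega
    interval_cases n <;> first | rfl | (norm_num at hd)
  obtain ⟨f, hf, hf2, hfy⟩ := F.exists_involution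
  obtain ⟨q, hq, hqf⟩ := F.exists_flip hf hfy
  obtain ⟨hW9, -⟩ := F.halves hf hf2 hq hqf
  have h := F.mm.data
  haveI : Fact (Nat.Prime 3) := ⟨Nat.prime_three⟩
  haveI : Fact (Nat.Prime 2) := ⟨Nat.prime_two⟩
  set W := V ⊓ centralizer ({f} : Set G)
  set C := Q ⊓ centralizer ({f} : Set G)
  have hCW : ∀ a ∈ C, ∀ v ∈ W, a * v * a⁻¹ ∈ W := fun a ha v hv => by
    refine mem_inf.mpr ⟨(mem_normalizer_iff.mp (h.hRV (F.mm.le ha.1)) v).mp hv.1, mem_fix.mpr ?_⟩
    have haf : a * f = f * a := mem_centralizer_singleton_iff.mp ha.2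
    calc f * (a * v * a⁻¹) * f⁻¹ = (f * a) * v * (f * a)⁻¹ := by group
      _ = (a * f) * v * (a * f)⁻¹ := by rw [haf]
      _ = a * (f * v * f⁻¹) * a⁻¹ := by group
      _ = _ := by rw [mem_fix.mp hv.2]
  obtain ⟨u, hu, hu1⟩ : ∃ u ∈ W, u ≠ 1 := by
    by_contra! hall
    rw [show W = ⊥ from eq_bot_iff.mpr fun x hx => mem_bot.mpr (hall x hx), card_bot] at hW9
    norm_num at hW9
  have hu3 : orderOf u = 3 := orderOf_eq_prime (h.hV.2 u hu.1) hu1
  obtain ⟨w, hw, hwu⟩ : ∃ w ∈ W, w ∉ zpowers u := by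
    by_contra! hall
    have := Subgroup.card_le_of_le (show W ≤ zpowers u from hall)
    rw [Nat.card_zpowers, hu3, hW9] at this
    norm_num at this
  have hgen : zpowers u ⊔ zpowers w = W := by
    have hle : zpowers u ⊔ zpowers w ≤ W := sup_le (zpowers_le.mpr hu) (zpowers_le.mpr hw)
    refine eq_of_le_of_card_ge hle ?_
    obtain ⟨i, hi⟩ := IsPGroup.iff_card.mp
      ((isPGroup_of_elab h.hV).to_le (hle.trans inf_le_left))
    have hlt : Nat.card (zpowers u) < Nat.card ↥(zpowers u ⊔ zpowers w) :=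
      Set.ncard_lt_ncard (SetLike.coe_ssubset_coe.mpr (lt_of_le_of_ne le_sup_left fun e =>
        hwu (e.ge (mem_sup_right (mem_zpowers w))))) (Set.toFinite _)
    rw [Nat.card_zpowers, hu3, hi] at hlt
    rw [hW9, hi]
    exact Nat.pow_le_pow_right (show 0 < 3 by norm_num)
      ((Nat.pow_lt_pow_iff_right (show 1 < 3 by norm_num)).mp (show 3 ^ 1 < 3 ^ i by simpa using hlt))
  set K := C ⊓ centralizer (W : Set G)
  have hnz : ∀ x, (∀ v ∈ W, x * v * x⁻¹ = v) → x ≠ z := by
    rintro x hx rfl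
    refine hu1 (eq_one_of_inv_eq h.hV hu.1 ?_)
    nth_rewrite 1 [← hx u hu]
    rw [F.zinv u hu.1, inv_mul_cancel]
  have hKf : K ≤ zpowers f := by
    intro k hk
    have hkW : ∀ v ∈ W, k * v * k⁻¹ = v := fun v hv =>
      mul_inv_eq_iff_eq_mul.mpr (mem_centralizer_iff.mp hk.2 v hv).symm
    have hk2 : k * k = 1 := (F.sq_mem hk.1.1).resolve_right (hnz _ fun v hv => by
      rw [show k * k * v * (k * k)⁻¹ = k * (k * v * k⁻¹) * k⁻¹ by group, hkW v hv, hkW v hv])
    have hkC : ∀ a ∈ C, Commute k a := fun a ha => commutatorElement_eq_one_iff_commute.mp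
      ((F.mem_two.mp (F.comm_mem hk.1.1 ha.1)).resolve_right (hnz _ fun v hv => by
        have h1 : k⁻¹ * (a⁻¹ * v * a) * k = a⁻¹ * v * a := by
          have hm : a⁻¹ * v * a ∈ W := by simpa using hCW a⁻¹ (inv_mem ha) v hv
          conv_lhs => rw [← hkW _ hm]
          group
        rw [commutatorElement_def,
          show k * a * k⁻¹ * a⁻¹ * v * (k * a * k⁻¹ * a⁻¹)⁻¹ =
            k * (a * (k⁻¹ * (a⁻¹ * v * a) * k) * a⁻¹) * k⁻¹ by group, h1,
          show a * (a⁻¹ * v * a) * a⁻¹ = v by group, hkW v hv]))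
    -- `k` or `k * f` is central
    have hcov : ∀ x ∈ Q, x ∈ C ∨ x * q⁻¹ ∈ C := by
      intro x hx
      rcases F.mem_two.mp (F.comm_mem hx hf) with e | e
      · exact Or.inl ⟨hx, mem_centralizer_singleton_iff.mpr (commutatorElement_eq_one_iff_mul_comm.mp e)⟩
      · refine Or.inr (mem_inf.mpr ⟨mul_mem hx (inv_mem hq), mem_fix.mpr ?_⟩)
        have hzi : z⁻¹ = z := inv_eq_of_mul_eq_one_right F.z2
        have e1 : q * f * q⁻¹ = x * f * x⁻¹ := by
          have := hqf.trans e.symm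
          rw [commutatorElement_def, commutatorElement_def] at this
          exact mul_right_cancel this
        -- `z` is central and `f = z * (q * f * q⁻¹)`
        have e2 : q⁻¹ * f * q = z * f := by
          have h1 : q * f * q⁻¹ = z * f := by rw [← hqf, commutatorElement_def]; group
          have hzq : q⁻¹ * z * q = z := by
            rw [mul_assoc, (F.zR (F.mm.le hq)).eq]; group
          have h2 : f = z * (q⁻¹ * f * q) := by
            calc f = q⁻¹ * (q * f * q⁻¹) * q := by group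
              _ = (q⁻¹ * z * q) * (q⁻¹ * f * q) := by rw [h1]; group
              _ = _ := by rw [hzq]
          nth_rewrite 2 [h2]
          rw [← mul_assoc, F.z2, one_mul]
        have e3 : x⁻¹ * f * x = z * f := by
          have h1 : x * f * x⁻¹ = z * f := by rw [← e, commutatorElement_def]; group
          have hzx : x⁻¹ * z * x = z := by
            rw [mul_assoc, (F.zR (F.mm.le hx)).eq]; group
          have h2 : f = z * (x⁻¹ * f * x) := by
            calc f = x⁻¹ * (x * f * x⁻¹) * x := by group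
              _ = (x⁻¹ * z * x) * (x⁻¹ * f * x) := by rw [h1]; group
              _ = _ := by rw [hzx]
          nth_rewrite 2 [h2]
          rw [← mul_assoc, F.z2, one_mul]
        calc f * (x * q⁻¹) * f⁻¹ = x * (x⁻¹ * f * x) * (q⁻¹ * f * q)⁻¹ * q⁻¹ := by group
          _ = x * q⁻¹ := by rw [e3, e2, mul_inv_cancel_right]
    have hcent : ∀ k' ∈ C, (∀ a ∈ C, Commute k' a) → Commute k' q →
        k' ∈ centralizer ({y} : Set G) := fun k' hk' hC' hq' =>
      F.mm.central_fixed hk'.1 fun x hx => by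
        rcases hcov x hx with hxC | hxC
        · exact hC' x hxC
        · have := (hC' _ hxC).mul_right hq'
          rwa [inv_mul_cancel_right] at this
    have hfC : f ∈ C := ⟨hf, mem_centralizer_singleton_iff.mpr rfl⟩
    have hfa : ∀ a ∈ C, Commute f a := fun a ha => (mem_centralizer_singleton_iff.mp ha.2).symm
    rcases F.mem_two.mp (F.comm_mem hq hk.1.1) with e | e
    · have hm := F.fixed_eq.le ⟨hk.1.1, hcent k hk.1 hkC (commutatorElement_eq_one_iff_commute.mp e).symm⟩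
      rw [(F.mem_two.mp hm).resolve_right (hnz k hkW)]
      exact one_mem _
    · have hq' : Commute (k * f) q := by
        refine (commutatorElement_eq_one_iff_commute.mp ?_).symm
        rw [commutatorElement_mul_right_eq_mul_conj, e, hqf,
          show z * k * z * k⁻¹ = z * (k * z * k⁻¹) by group,
          mul_inv_eq_iff_eq_mul.mpr (F.zR (F.mm.le hk.1.1)).eq.symm, F.z2]
      have hm := F.fixed_eq.le ⟨mul_mem hk.1.1 hf, hcent _ (mul_mem hk.1 hfC)
        (fun a ha => (hkC a ha).mul_left (hfa a ha)) hq'⟩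
      have hne : k * f ≠ z := hnz _ fun v hv => by
        rw [show k * f * v * (k * f)⁻¹ = k * (f * v * f⁻¹) * k⁻¹ by group, mem_fix.mp hv.2, hkW v hv]
      rw [eq_inv_of_mul_eq_one_left ((F.mem_two.mp hm).resolve_right hne)]
      exact inv_mem (mem_zpowers f)
  have hK2 : Nat.card K ≤ 2 := (Subgroup.card_le_of_le hKf).trans (by
    rw [Nat.card_zpowers]
    exact orderOf_le_of_pow_eq_one (by norm_num) (by rw [pow_two]; exact hf2))
  have hC : Nat.card C ≤ 81 * 2 := by
    rw [(K.subgroupOf C).card_eq_card_quotient_mul_card_subgroup]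
    refine Nat.mul_le_mul ?_ (by
      rw [Nat.card_congr (subgroupOfEquivOfLe (inf_le_left : K ≤ C)).toEquiv]; exact hK2)
    refine le_trans (Nat.card_le_card_of_injective
      (fun x : C ⧸ K.subgroupOf C => ((⟨(x.out : C) * u * ((x.out : C) : G)⁻¹, hCW _ x.out.2 u hu⟩ : W),
        (⟨(x.out : C) * w * ((x.out : C) : G)⁻¹, hCW _ x.out.2 w hw⟩ : W))) ?_)
      (le_of_eq (by rw [Nat.card_prod, hW9]))
    intro x x' hxx
    simp only [Prod.mk.injEq, Subtype.mk.injEq] at hxx
    rw [← QuotientGroup.out_eq' x, ← QuotientGroup.out_eq' x', QuotientGroup.eq, mem_subgroupOf]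
    refine mem_inf.mpr ⟨(x.out⁻¹ * x'.out).2, mem_centralizer_iff.mpr fun v hv => ?_⟩
    have hfix : ∀ t, (x.out : G) * t * (x.out : G)⁻¹ = (x'.out : G) * t * (x'.out : G)⁻¹ →
        t ∈ centralizer ({((x.out⁻¹ * x'.out : C) : G)} : Set G) := fun t ht => mem_fix.mpr (by
      push_cast
      rw [show (x.out : G)⁻¹ * x'.out * t * ((x.out : G)⁻¹ * x'.out)⁻¹ =
        (x.out : G)⁻¹ * ((x'.out : G) * t * (x'.out : G)⁻¹) * x.out by group, ← ht]
      group)
    have hle : zpowers u ⊔ zpowers w ≤ centralizer ({((x.out⁻¹ * x'.out : C) : G)} : Set G) :=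
      sup_le (zpowers_le.mpr (hfix u hxx.1)) (zpowers_le.mpr (hfix w hxx.2))
    exact mem_centralizer_singleton_iff.mp (hle (hgen.ge hv))
  have hidx := card_le_of_commutator (C := Q) (V := zpowers z) (b := f) (F.z_le.trans inf_le_left)
    (F.mm.le.trans F.Zcen) fun c hc => F.comm_mem hc hf
  rw [F.Zcard] at hidx
  exact hidx.trans (Nat.mul_le_mul_right 2 hC)

/-- The moved group is the whole of `R`. -/
theorem eq_top' : Q = R := by
  haveI : Fact (Nat.Prime 2) := ⟨Nat.prime_two⟩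
  have h := F.mm.data
  by_contra hne
  have hlt := CfsgLib.OddOrder.lt_normalizer_inf_of_lt h.hR (lt_of_le_of_ne F.mm.le hne)
  set N := normalizer (Q : Set G) ⊓ R with hNd
  set Z := zpowers z
  have hQN : Q ≤ N := le_inf le_normalizer F.mm.le
  have hZQ : Z ≤ Q := F.z_le.trans inf_le_left
  have hZN : Z ≤ N := hZQ.trans hQN
  have hyN : y ∈ normalizer (N : Set G) := LocalStructure.mem_normalizer_of_forall fun x hx =>
    mem_inf.mpr ⟨mul_mem (mul_mem F.mm.inv hx.1) (inv_mem F.mm.inv),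
      (mem_normalizer_iff.mp h.hyR x).mp hx.2⟩
  have hZr : ∀ r ∈ R, ∀ x ∈ Z, r * x * r⁻¹ = x := fun r hr x hx =>
    mul_inv_eq_iff_eq_mul.mpr (mem_centralizer_iff.mp (F.Zcen hr) x hx).symm
  have hZy : ∀ x ∈ Z, y * x * y⁻¹ = x := fun x hx => mem_fix.mp (F.z_le hx).2
  haveI hZn : (Z.subgroupOf N).Normal := ⟨fun x hx g => by
    rw [mem_subgroupOf] at hx ⊢
    push_cast
    rw [hZr g g.2.2 _ hx]; exact hx⟩
  haveI : (Q.subgroupOf N).Normal := ⟨fun x hx g => by
    rw [mem_subgroupOf] at hx ⊢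
    push_cast
    exact (mem_normalizer_iff.mp g.2.1 _).mp hx⟩
  have hNp : IsPGroup 2 N := h.hR.to_le inf_le_right
  -- the moved group is central modulo `z`
  let T : Subgroup G :=
    { carrier := {x | x ∈ Q ∧ ∀ r ∈ N, ⁅r, x⁆ ∈ Z}
      one_mem' := ⟨one_mem _, fun r _ => by simp [one_mem]⟩
      mul_mem' := fun {a b} ha hb => ⟨mul_mem ha.1 hb.1, fun r hr => by
        rw [commutatorElement_mul_right_eq_mul_conj,
          show ⁅r, a⁆ * a * ⁅r, b⁆ * a⁻¹ = ⁅r, a⁆ * (a * ⁅r, b⁆ * a⁻¹) by group,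
          hZr a (F.mm.le ha.1) _ (hb.2 r hr)]
        exact mul_mem (ha.2 r hr) (hb.2 r hr)⟩
      inv_mem' := fun {a} ha => ⟨inv_mem ha.1, fun r hr => by
        rw [show ⁅r, a⁻¹⁆ = a⁻¹ * ⁅r, a⁆⁻¹ * (a⁻¹)⁻¹ by simp only [commutatorElement_def]; group,
          hZr _ (inv_mem (F.mm.le ha.1)) _ (inv_mem (ha.2 r hr))]
        exact inv_mem (ha.2 r hr)⟩ }
  have hTQ : T = Q := by
    by_contra hTne
    have hTn : y ∈ normalizer (T : Set G) := LocalStructure.mem_normalizer_of_forall fun x hx =>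
      ⟨F.mm.conj_mem hx.1, fun r hr => by
        have hr' : y⁻¹ * r * y ∈ N := by
          simpa using (mem_normalizer_iff.mp (inv_mem hyN) r).mp hr
        rw [show ⁅r, y * x * y⁻¹⁆ = y * ⁅y⁻¹ * r * y, x⁆ * y⁻¹ by
          simp only [commutatorElement_def]; group, hZy _ (hx.2 _ hr')]
        exact hx.2 _ hr'⟩
    have hfix := F.mm.min T (lt_of_le_of_ne (fun x (hx : x ∈ T) => hx.1) hTne) hTn
    have hnle : ¬ Q.subgroupOf N ≤ Z.subgroupOf N := fun hle => by
      have hQZ : Q ≤ Z := fun x hx => mem_subgroupOf.mp (hle (x := ⟨x, hQN hx⟩) (mem_subgroupOf.mpr hx))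
      have := Subgroup.card_le_of_le hQZ
      rw [F.Zcard, F.card_eq] at this
      omega
    obtain ⟨x, hxQ, hxZ, hxc⟩ :=
      Classification.SymplecticFour.exists_central_mod hNp (Q.subgroupOf N) (Z.subgroupOf N) hnle
    have hxT : (x : G) ∈ T := ⟨mem_subgroupOf.mp hxQ, fun r hr =>
      mem_subgroupOf.mp (hxc ⟨r, hr⟩)⟩
    exact hxZ (mem_subgroupOf.mpr (F.fixed_eq.le ⟨mem_subgroupOf.mp hxQ,
      mem_centralizer_singleton_iff.mpr (mem_centralizer_iff.mp hfix _ hxT)⟩))
  have hcm : ∀ r ∈ N, ∀ x ∈ Q, ⁅r, x⁆ ∈ Z := fun r hr x hx => (hTQ.ge hx).2 r hr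
  have hNC := card_le_centralizer_mul (N := N) (S := Q) hZN hZQ (inf_le_right.trans F.Zcen)
    F.Zcard F.mm.isPGroup hcm (F.mm.le.trans F.Zcen)
  set C := N ⊓ centralizer (Q : Set G)
  suffices hCZ : C ≤ Z by
    have h1 := Subgroup.card_le_of_le hCZ
    rw [F.Zcard] at h1
    have h2 : Nat.card Q < Nat.card N :=
      Set.ncard_lt_ncard (SetLike.coe_ssubset_coe.mpr hlt) (Set.toFinite _)
    have := hNC.trans (Nat.mul_le_mul_right _ h1)
    omega
  by_contra hCZ
  have hCR : C ≤ R := inf_le_left.trans inf_le_right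
  have hcQ : ∀ c ∈ C, ∀ x ∈ Q, Commute c x := fun c hc x hx =>
    (mem_centralizer_iff.mp hc.2 x hx).symm
  have hZC : Z ≤ C := le_inf hZN fun x hx => mem_centralizer_iff.mpr fun a ha =>
    (mem_centralizer_iff.mp (F.Zcen (F.mm.le ha)) x hx).symm
  haveI : (Z.subgroupOf C).Normal := ⟨fun x hx g => by
    rw [mem_subgroupOf] at hx ⊢
    push_cast
    rw [hZr g (hCR g.2) _ hx]; exact hx⟩
  obtain ⟨⟨c, hc⟩, -, hcZ, hcc⟩ := Classification.SymplecticFour.exists_central_mod
    (h.hR.to_le hCR) (⊤ : Subgroup C) (Z.subgroupOf C) (fun hle => hCZ fun x hx =>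
      mem_subgroupOf.mp (hle (x := ⟨x, hx⟩) (mem_top _)))
  rw [mem_subgroupOf] at hcZ
  replace hcc : ∀ x ∈ C, ⁅x, c⁆ ∈ Z := fun x hx => mem_subgroupOf.mp (hcc ⟨x, hx⟩)
  -- an involution outside `Z`, central modulo `Z`
  have hpow : ∀ k : ℕ, ∀ x ∈ C, ⁅x, c ^ k⁆ ∈ Z := by
    intro k
    induction k with
    | zero => intro x _; simp [one_mem]
    | succ k ih =>
      intro x hx
      rw [pow_succ, commutatorElement_mul_right_eq_mul_conj,
        show ⁅x, c ^ k⁆ * c ^ k * ⁅x, c⁆ * (c ^ k)⁻¹ = ⁅x, c ^ k⁆ * (c ^ k * ⁅x, c⁆ * (c ^ k)⁻¹) by group,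
        hZr _ (pow_mem (hCR hc) k) _ (hcc x hx)]
      exact mul_mem (ih x hx) (hcc x hx)
  obtain ⟨i, hi⟩ := IsPGroup.iff_orderOf.mp (h.hR.to_le hCR) ⟨c, hc⟩
  rw [Subgroup.orderOf_mk] at hi
  classical
  have hex : ∃ k, c ^ 2 ^ k ∈ Z := ⟨i, by rw [← hi, pow_orderOf_eq_one]; exact one_mem _⟩
  set k := Nat.find hex
  have hk : c ^ 2 ^ k ∈ Z := Nat.find_spec hex
  have hk0 : k ≠ 0 := fun e => hcZ (by simpa [e] using hk)
  have hk1 : c ^ 2 ^ (k - 1) ∉ Z := Nat.find_min hex (by omega)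
  set e := c ^ 2 ^ (k - 1)
  have he2 : e * e ∈ Z := by
    rwa [← pow_add, ← two_mul, ← pow_succ', show k - 1 + 1 = k by omega]
  let A : Subgroup G :=
    { carrier := {a | a ∈ C ∧ a * a = 1 ∧ ∀ x ∈ C, ⁅x, a⁆ ∈ Z}
      one_mem' := ⟨one_mem _, one_mul 1, fun x _ => by simp [one_mem]⟩
      mul_mem' := fun {a b} ha hb => ⟨mul_mem ha.1 hb.1, by
        have e1 : a * b * (a * b) = ⁅a, b⁆ := by
          rw [commutatorElement_def, inv_eq_of_mul_eq_one_right ha.2.1,
            inv_eq_of_mul_eq_one_right hb.2.1]; group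
        rcases F.mem_two.mp (e1 ▸ hb.2.2 a ha.1) with e2 | e2
        · exact e2
        · exact (F.no_root (hCR (mul_mem ha.1 hb.1)) e2 (hcQ _ (mul_mem ha.1 hb.1))).elim,
        fun x hx => by
        rw [commutatorElement_mul_right_eq_mul_conj,
          show ⁅x, a⁆ * a * ⁅x, b⁆ * a⁻¹ = ⁅x, a⁆ * (a * ⁅x, b⁆ * a⁻¹) by group,
          hZr a (hCR ha.1) _ (hb.2.2 x hx)]
        exact mul_mem (ha.2.2 x hx) (hb.2.2 x hx)⟩
      inv_mem' := fun {a} ha => by
        rw [inv_eq_of_mul_eq_one_right ha.2.1]; exact ha }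
  have hAe : Cfsg.IsElementaryAbelian 2 A := by
    refine ⟨⟨⟨fun a b => Subtype.ext ?_⟩⟩, fun a ha => by rw [pow_two]; exact ha.2.1⟩
    have h1 : ((a : G) * b) * ((a : G) * b) = 1 := (mul_mem a.2 b.2 : (a : G) * b ∈ A).2.1
    show (a : G) * b = b * a
    rw [← inv_eq_of_mul_eq_one_right h1, mul_inv_rev, inv_eq_of_mul_eq_one_right a.2.2.1,
      inv_eq_of_mul_eq_one_right b.2.2.1]
  have hyC : y ∈ normalizer (C : Set G) :=
    inf_normalizer_le_normalizer_inf ⟨hyN, CharPLocal.normalizer_le_normalizer_centralizer Q F.mm.inv⟩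
  have hAn : y ∈ normalizer (A : Set G) := LocalStructure.mem_normalizer_of_forall fun a ha =>
    ⟨(mem_normalizer_iff.mp hyC a).mp ha.1, by
      rw [show y * a * y⁻¹ * (y * a * y⁻¹) = y * (a * a) * y⁻¹ by group, ha.2.1]; group,
      fun x hx => by
        have hx' : y⁻¹ * x * y ∈ C := by simpa using (mem_normalizer_iff.mp (inv_mem hyC) x).mp hx
        rw [show ⁅x, y * a * y⁻¹⁆ = y * ⁅y⁻¹ * x * y, a⁆ * y⁻¹ by
          simp only [commutatorElement_def]; group, hZy _ (ha.2.2 _ hx')]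
        exact ha.2.2 _ hx'⟩
  have hfix := h.elem_fixed (fun a (ha : a ∈ A) => hCR ha.1) hAe hAn
  rcases F.mem_two.mp he2 with e1 | e1
  · have heA : e ∈ A := ⟨pow_mem hc _, e1, hpow _⟩
    exact hk1 (F.mem_two.mpr (F.uniq (hCR (pow_mem hc _)) e1
      (show Commute e y from (mem_centralizer_iff.mp hfix e heA))))
  · exact F.no_root (hCR (pow_mem hc _)) e1 (hcQ _ (pow_mem hc _))

theorem not_rank : ¬ HasRank3 2 R := by
  rintro ⟨E₀, hE₀R, hE₀, hE₀8⟩
  haveI : Fact (Nat.Prime 2) := ⟨Nat.prime_two⟩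
  rw [← F.eq_top'] at hE₀R
  set E := E₀ ⊔ zpowers z
  have hEQ : E ≤ Q := sup_le hE₀R (zpowers_le.mpr F.zQ)
  have hzc : ∀ x ∈ Q, Commute z x := fun x hx => F.zR (F.mm.le hx)
  have hEab := F.comm_sup (fun a ha b hb => commute_of_mem hE₀.1 ha hb) (x := z)
    fun a ha => (hzc a (hE₀R ha)).symm
  have hE2 : ∀ e ∈ E, e * e = 1 := by
    intro e he
    obtain ⟨a, ha, b, hb, rfl⟩ := Coprime.exists_mul_of_mem_sup
      (fun b hb => centralizer_le_normalizer _ (mem_centralizer_iff.mpr fun a ha =>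
        (hEab a (mem_sup_left ha) b (mem_sup_right hb)).eq)) he
    rw [(hEab b (mem_sup_right hb) a (mem_sup_left ha)).mul_mul_mul_comm,
      show a * a = 1 by rw [← pow_two]; exact hE₀.2 a ha, one_mul]
    rcases F.mem_two.mp hb with rfl | rfl
    · exact one_mul 1
    · exact F.z2
  have hno : ∀ A : Subgroup G, A ≤ Q → (∀ a ∈ A, ∀ b ∈ A, Commute a b) → Nat.card A < 16 := by
    intro A hA hAab
    by_contra! h16
    exact F.mm.false_of_abelian_index_two hA hAab (by rw [F.card_eq]; omega) F.big F.Zcard.le F.z_le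
      fun a ha b hb => F.comm_mem ha hb
  have hE8 : Nat.card E = 8 := by
    obtain ⟨i, hi⟩ := IsPGroup.iff_card.mp (F.mm.isPGroup.to_le hEQ)
    have h1 := hno E hEQ hEab
    have h2 := hE₀8.trans (Subgroup.card_le_of_le (le_sup_left : E₀ ≤ E))
    rw [hi] at h1 h2 ⊢
    have h3 : 3 ≤ i := (Nat.pow_le_pow_iff_right (by norm_num)).mp h2
    have h4 : i < 4 := (Nat.pow_lt_pow_iff_right (by norm_num : 1 < 2)).mp (by simpa using h1)
    rw [show i = 3 by omega]; norm_num
  classical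
  haveI := Fintype.ofFinite Q
  have hcount := count_involutions (E.subgroupOf Q) (z := ⟨z, F.zQ⟩)
    (fun a ha b hb => Subtype.ext (hEab _ (mem_subgroupOf.mp ha) _ (mem_subgroupOf.mp hb)).eq)
    (fun a ha => Subtype.ext (hE2 _ (mem_subgroupOf.mp ha)))
    (by rw [Nat.card_congr (subgroupOfEquivOfLe hEQ).toEquiv, hE8]) F.card_eq
    (fun e => F.z1 (congrArg Subtype.val e)) (Subtype.ext F.z2)
    (fun x => Subtype.ext (hzc x x.2).eq)
    (fun x => (F.sq_mem x.2).imp (fun e => Subtype.ext e) fun e => Subtype.ext e)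
    (fun x w => (F.mem_two.mp (F.comm_mem x.2 w.2)).imp (fun e => Subtype.ext e) fun e => Subtype.ext e)
    (fun x hx => by
      by_contra! hall
      rw [mem_subgroupOf] at hx
      have hc : ∀ a ∈ E, Commute a (x : G) := fun a ha =>
        (congrArg Subtype.val (hall ⟨a, hEQ ha⟩ (mem_subgroupOf.mpr ha)).eq.symm :)
      have h1 := F.double (B := E ⊔ zpowers (x : G)) (sup_le hEQ (zpowers_le.mpr x.2))
        (lt_of_le_of_ne le_sup_left fun e => hx (e.ge (mem_sup_right (mem_zpowers _))))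
      have h2 := hno _ (sup_le hEQ (zpowers_le.mpr x.2)) (F.comm_sup hEab hc)
      omega)
  have h := F.mm.data
  have hmap : ∀ x : Q, x * x = 1 → (⟨y * x * y⁻¹, F.mm.conj_mem x.2⟩ : Q) *
      ⟨y * x * y⁻¹, F.mm.conj_mem x.2⟩ = 1 := fun x hx => Subtype.ext (by
    have hx' : (x : G) * x = 1 := congrArg Subtype.val hx
    show y * x * y⁻¹ * (y * x * y⁻¹) = 1
    rw [show y * (x : G) * y⁻¹ * (y * x * y⁻¹) = y * ((x : G) * x) * y⁻¹ by group, hx']; group)
  let σf : {x : Q // x * x = 1} → {x : Q // x * x = 1} := fun t => ⟨_, hmap t.1 t.2⟩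
  have hσf : Function.Injective σf := fun a b hab => by
    have : y * ((a.1 : Q) : G) * y⁻¹ = y * ((b.1 : Q) : G) * y⁻¹ :=
      congrArg (fun t : {x : Q // x * x = 1} => ((t.1 : Q) : G)) hab
    exact Subtype.ext (Subtype.ext (mul_left_cancel (mul_right_cancel this)))
  let σ : Equiv.Perm {x : Q // x * x = 1} :=
    Equiv.ofBijective σf (Finite.injective_iff_bijective.mp hσf)
  have hσn : ∀ k : ℕ, ∀ t, (((σ ^ k) t).1 : G) = y ^ k * (t.1 : G) * (y ^ k)⁻¹ := by
    intro k
    induction k with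
    | zero => intro t; simp
    | succ k ih =>
      intro t
      rw [pow_succ', Equiv.Perm.mul_apply]
      show y * (((σ ^ k) t).1 : G) * y⁻¹ = _
      rw [ih t, pow_succ']
      group
  haveI : Fact (Nat.Prime 5) := ⟨by norm_num⟩
  have hσ5 : σ ^ 5 ^ 1 = 1 := Equiv.ext fun t => by
    refine Subtype.ext (Subtype.ext ?_)
    rw [pow_one, hσn 5 t, ← F.five, h.hy]
    simp
  have hmod := Equiv.Perm.card_compl_support_modEq (p := 5) (n := 1) hσ5
  have hcard : Fintype.card {x : Q // x * x = 1} = 20 := by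
    rw [Fintype.card_subtype]; exact hcount
  have hsupp : σ.supportᶜ.card = 2 := by
    have hset : σ.supportᶜ = {⟨1, one_mul 1⟩, ⟨⟨z, F.zQ⟩, Subtype.ext F.z2⟩} := by
      ext t
      simp only [Finset.mem_compl, Equiv.Perm.mem_support, not_not, Finset.mem_insert,
        Finset.mem_singleton]
      constructor
      · intro ht
        have hfix : y * (t.1 : G) * y⁻¹ = t.1 :=
          congrArg (fun s : {x : Q // x * x = 1} => ((s.1 : Q) : G)) ht
        rcases F.uniq (F.mm.le t.1.2) (congrArg Subtype.val t.2)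
          (mem_centralizer_singleton_iff.mp (mem_fix.mpr hfix)) with e | e
        · exact Or.inl (Subtype.ext (Subtype.ext e))
        · exact Or.inr (Subtype.ext (Subtype.ext e))
      · rintro (rfl | rfl) <;> refine Subtype.ext (Subtype.ext ?_)
        · show y * 1 * y⁻¹ = 1
          simp
        · show y * z * y⁻¹ = z
          exact mul_inv_eq_iff_eq_mul.mpr F.zy.eq.symm
    rw [hset, Finset.card_pair]
    exact fun e => F.z1 (congrArg (fun s : {x : Q // x * x = 1} => ((s.1 : Q) : G)) e).symm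
  rw [hsupp, hcard] at hmod
  exact absurd hmod (by decide)

end Five

end CfsgLib.TwoGenSolv66.Faithful

namespace CfsgLib.TwoGenSolv66

open Subgroup Faithful

/-- A moved 2-group acting faithfully on at most `3 ^ 4` points has rank at most two. -/
theorem not_hasRank3_of_faithful_eightyOne {G : Type*} [Group G] [Finite G] {p : ℕ}
    [Fact p.Prime] (hp5 : 5 ≤ p) {y : G} (hy : y ^ p = 1) {V R : Subgroup G}
    (hV : Cfsg.IsElementaryAbelian 3 V) (hV4 : Nat.card V ≤ 3 ^ 4) (hR : IsPGroup 2 R)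
    (hRV : R ≤ normalizer (V : Set G)) (hyV : y ∈ normalizer (V : Set G))
    (hyR : y ∈ normalizer (R : Set G)) (hf : R ⊓ centralizer (V : Set G) = ⊥)
    (hmv : y ∉ centralizer (R : Set G)) : ¬ HasRank3 2 R := by
  have h : Data p y V R := ⟨hp5, hy, hV, hV4, hR, hRV, hyV, hyR, hf, hmv⟩
  obtain ⟨Q, m⟩ := h.exists_minMoved
  obtain ⟨h5, -⟩ | ⟨h13, -⟩ := h.cases
  · obtain ⟨z, F⟩ := m.exists_five h5
    exact F.not_rank
  · exact (m.false_of_thirteen h13).elim

end CfsgLib.TwoGenSolv66
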