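import Cfsg.Agent.TwoGenSolv66.Hi
import Cfsg.Agent.TwoGenSolv66.FaithfulThree
import Cfsg.Agent.LocalEven48.KlingerMason.Main

/-!
# No high maximal subgroup contains a 3-object when the cores at 2 and 3 are trivial

A maximal subgroup `M` with a high 2-group and a 3-object gives a 2-group whose normaliser has
2-rank and 3-rank at least three, against Klinger–Mason.
-/

set_option autoImplicit false
set_option linter.unusedSectionVars false
set_option linter.unusedVariables false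
set_option linter.style.haveILetI false

open scoped commutatorElement

namespace CfsgLib.TwoGenSolv66

open Subgroup CfsgLib.SolvSig CfsgLib.Transitivity
open CfsgLib.LocalEven48.KlingerMason (InEight InCube)

universe u

variable {G : Type u} [Group G] [Finite G]

namespace MinTwoGen

variable {q : ℕ} [hq : Fact q.Prime] (h : MinTwoGen G)
include h

/-- A local subgroup of rank three has characteristic `q` for a trivial prime `q`. -/
theorem isCharP_normalizer (ht : IsTriv q G) {Y A : Subgroup G} (hY : IsPGroup q Y) (hY1 : Y ≠ ⊥)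
    (hA : IsElem3 q A) (hAY : A ≤ normalizer (Y : Set G)) :
    CharPLocal.IsCharP q (normalizer (Y : Set G)) := by
  haveI := h.isSolvable_normalizer hY1 (h.ne_top_of_isPGroup hY)
  rw [CharPLocal.isCharP_iff_type]
  exact PLocal.centralizer_pCore_le PLocal.isPSolvable_of_isSolvable
    ((Subgroup.map_eq_bot_iff_of_injective _ (normalizer (Y : Set G)).subtype_injective).mp
      (h.core'_normalizer_eq_bot ht hY hY1 hA hAY))

/-- The centraliser of an element in an elementary group of order `q ^ 3` has characteristic `q`. -/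
theorem isCharP_centralizer (ht : IsTriv q G) {d : G} (hd : orderOf d = q)
    (hc : InCube q d) : CharPLocal.IsCharP q (centralizer ({d} : Set G)) := by
  obtain ⟨E, hE, hE3, hdE⟩ := hc
  have hd1 : d ≠ 1 := fun e => by rw [e, orderOf_one] at hd; exact hq.out.ne_one hd.symm
  set C := centralizer ({d} : Set G)
  set N := normalizer (zpowers d : Set G)
  haveI := h.sub C (h.centralizer_ne_top hd1)
  have hY : IsPGroup q (zpowers d) := IsPGroup.of_card (n := 1) (by rw [Nat.card_zpowers, hd, pow_one])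
  have hY1 : zpowers d ≠ ⊥ := fun e => hd1 (zpowers_eq_bot.mp e)
  have hCd : C = centralizer (zpowers d : Set G) := centralizer_singleton_eq d
  have hCN : C ≤ N := hCd ▸ centralizer_le_normalizer _
  have hEC : E ≤ C := fun e he => mem_centralizer_singleton_iff.mpr
    (mem_centralizer_iff.mp ((IsElem3.comm ⟨hE, hE3⟩) he) d hdE).symm
  have hNC : N ≤ normalizer (C : Set G) := by
    rw [hCd]; exact CharPLocal.normalizer_le_normalizer_centralizer _
  rw [CharPLocal.isCharP_iff_type]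
  refine PLocal.centralizer_pCore_le PLocal.isPSolvable_of_isSolvable
    ((Subgroup.map_eq_bot_iff_of_injective _ C.subtype_injective).mp (le_bot_iff.mp ?_))
  rw [← h.core'_normalizer_eq_bot ht hY hY1 ⟨hE, hE3⟩ (hEC.trans hCN)]
  exact le_core' ((core'_le q C).trans hCN) (hNC.trans (normalizer_le_normalizer_core' q C))
    (card_core'_coprime q C)

end MinTwoGen

/-- With trivial cores at 2 and 3 no 2-local subgroup has 2-rank and 3-rank three. -/
theorem MinTwoGen.false_of_common (h : MinTwoGen G) (ht2 : IsTriv 2 G) (ht3 : IsTriv 3 G)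
    {U E A : Subgroup G} (hU : IsPGroup 2 U) (hU1 : U ≠ ⊥) (hE : IsElem3 2 E) (hA : IsElem3 3 A)
    (hEU : E ≤ normalizer (U : Set G)) (hAU : A ≤ normalizer (U : Set G)) : False := by
  haveI : Fact (Nat.Prime 2) := ⟨Nat.prime_two⟩
  haveI : Fact (Nat.Prime 3) := ⟨Nat.prime_three⟩
  exact LocalEven48.KlingerMason.false_of_two_local (p := 3) (by norm_num)
    (fun t ht ht8 => h.isCharP_centralizer ht2 ht ht8)
    (fun d hd hd3 => h.isCharP_centralizer ht3 hd hd3)
    hU hU1 (h.isCharP_normalizer ht2 hU hU1 hE hEU) hA.1 hA.2 hAU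

/-- An involution centralising a class two group modulo its derived group centralises it. -/
theorem mem_centralizer_of_mod_derived {r : G} (hr : r * r = 1) {C : Subgroup G}
    (hC : IsPGroup 3 C) (hn : r ∈ normalizer (C : Set G))
    (hcl : ∀ a ∈ C, ∀ b ∈ C, ∀ c ∈ C, Commute ⁅a, b⁆ c)
    (hall : ∀ c ∈ C, ⁅r, c⁆ ∈ ⁅C, C⁆) : r ∈ centralizer (C : Set G) := by
  haveI : Fact (Nat.Prime 2) := ⟨Nat.prime_two⟩
  haveI : Fact (Nat.Prime 3) := ⟨Nat.prime_three⟩
  have hz : ∀ z ∈ ⁅C, C⁆, ∀ d ∈ C, Commute z d := by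
    intro z hz d hd
    have hle : ⁅C, C⁆ ≤ centralizer ({d} : Set G) :=
      commutator_le.mpr fun a ha b hb => mem_centralizer_singleton_iff.mpr (hcl a ha b hb d hd).eq
    exact mem_centralizer_singleton_iff.mp (hle hz)
  have hDC : ⁅C, C⁆ ≤ C := commutator_le.mpr fun a ha b hb =>
    mul_mem (mul_mem (mul_mem ha hb) (inv_mem ha)) (inv_mem hb)
  refine mem_centralizer_of_stab (p := 2) (r := 3) (by rw [pow_two]; exact hr) (by norm_num) hC hn
    fun c hc => ?_
  have hle : ⁅C, C⁆ ≤ centralizer ({r} : Set G) := commutator_le.mpr fun a ha b hb => by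
    refine mem_centralizer_singleton_iff.mpr (mul_inv_eq_iff_eq_mul.mp ?_).symm
    have e : r * ⁅a, b⁆ * r⁻¹ = ⁅⁅r, a⁆ * a, ⁅r, b⁆ * b⁆ := by
      simp only [commutatorElement_def]; group
    rw [e]
    exact commutatorElement_mul_central (hz _ (hall a ha) a ha) (hz _ (hall a ha) b hb)
      (hz _ (hall a ha) _ (hDC (hall b hb))) (hz _ (hall b hb) a ha) (hz _ (hall b hb) b hb)
  exact (mem_centralizer_singleton_iff.mp (hle (hall c hc))).symm

/-- A faithful high 2-group on a 3-group `Q` has an element of an elementary group of order eight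
whose centraliser in `Q` has rank three. -/
theorem exists_cube_centralizer {p : ℕ} [hp : Fact p.Prime] (hp5 : 5 ≤ p) {x : G} (hx : x ^ p = 1)
    {Q R : Subgroup G} (hQ : IsPGroup 3 Q) (hR : IsPGroup 2 R)
    (hRQ : R ≤ normalizer (Q : Set G)) (hxQ : x ∈ normalizer (Q : Set G))
    (hxR : x ∈ normalizer (R : Set G)) (hmv : x ∉ centralizer (R : Set G))
    (hfaith : ∀ r ∈ R, r ∈ centralizer (Q : Set G) → r = 1) (hhigh : HasRank3 2 R) :
    ∃ (E A : Subgroup G) (a : G), a ≠ 1 ∧ a * a = 1 ∧ IsElem3 2 E ∧ IsElem3 3 A ∧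
      E ≤ centralizer ({a} : Set G) ∧ A ≤ centralizer ({a} : Set G) := by
  haveI : Fact (Nat.Prime 2) := ⟨Nat.prime_two⟩
  haveI : Fact (Nat.Prime 3) := ⟨Nat.prime_three⟩
  obtain ⟨C, hCQ, hexp, hcl, hnC, hdet⟩ :=
    LocalEven48.KlingerMason.exists_isCritExp (p := 3) (by norm_num) hQ
  have hC : IsPGroup 3 C := hQ.to_le hCQ
  set D := ⁅C, C⁆ with hD
  have hDC : D ≤ C := commutator_le.mpr fun a ha b hb =>
    mul_mem (mul_mem (mul_mem ha hb) (inv_mem ha)) (inv_mem hb)
  set N := normalizer (D : Set G)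
  have hQN : normalizer (Q : Set G) ≤ N := fun g hg =>
    LocalStructure.normalizer_le_normalizer_commutator C C ⟨hnC hg, hnC hg⟩
  have hCN : C ≤ N := fun g hg =>
    LocalStructure.normalizer_le_normalizer_commutator C C ⟨le_normalizer hg, le_normalizer hg⟩
  have hRN : R ≤ N := hRQ.trans hQN
  haveI : (D.subgroupOf N).Normal :=
    (normal_subgroupOf_iff_le_normalizer le_normalizer).mpr le_rfl
  let π := QuotientGroup.mk' (D.subgroupOf N)
  have hπ : ∀ z : N, π z = 1 ↔ (z : G) ∈ D := fun z =>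
    (QuotientGroup.eq_one_iff z).trans mem_subgroupOf
  let πR : R →* N ⧸ D.subgroupOf N := π.comp (inclusion hRN)
  let πC : C →* N ⧸ D.subgroupOf N := π.comp (inclusion hCN)
  obtain ⟨i, hi⟩ := IsPGroup.iff_card.mp hR
  obtain ⟨j, hj⟩ := IsPGroup.iff_card.mp hC
  have hRD : ∀ z ∈ R, z ∈ D → z = 1 := fun z hz hzD => mem_bot.mp (by
    rw [← Coprime.inf_eq_bot_of_coprime (A := R) (B := D) (Nat.Coprime.coprime_dvd_right
      (card_dvd_of_le hDC) (by rw [hi, hj]; exact (by norm_num : Nat.Coprime 2 3).pow i j))]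
    exact ⟨hz, hzD⟩)
  have hinj : Function.Injective πR := (injective_iff_map_eq_one πR).mpr fun z hz =>
    Subtype.ext (hRD z z.2 ((hπ _).mp hz))
  have hVel : Cfsg.IsElementaryAbelian 3 πC.range := by
    refine ⟨⟨⟨fun u v => Subtype.ext ?_⟩⟩, ?_⟩
    · obtain ⟨a, ha⟩ := u.2
      obtain ⟨b, hb⟩ := v.2
      show (u : N ⧸ D.subgroupOf N) * v = v * u
      rw [← ha, ← hb, ← commutatorElement_eq_one_iff_mul_comm, ← map_commutatorElement]
      exact (hπ _).mpr (commutator_mem_commutator a.2 b.2)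
    · rintro _ ⟨a, rfl⟩
      rw [← map_pow, show a ^ 3 = 1 from Subtype.ext (hexp a a.2), map_one]
  have hnV : ∀ z : N, (z : G) ∈ normalizer (C : Set G) →
      π z ∈ normalizer (πC.range : Set (N ⧸ D.subgroupOf N)) := fun z hz =>
    LocalStructure.mem_normalizer_of_forall (by
      rintro _ ⟨c, rfl⟩
      exact ⟨⟨(z : G) * c * (z : G)⁻¹, (mem_normalizer_iff.mp hz c).mp c.2⟩, rfl⟩)
  have hRV : πR.range ≤ normalizer (πC.range : Set (N ⧸ D.subgroupOf N)) := by
    rintro _ ⟨z, rfl⟩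
    exact hnV _ (hnC (hRQ z.2))
  have hf : πR.range ⊓ centralizer (πC.range : Set (N ⧸ D.subgroupOf N)) = ⊥ := by
    by_contra hne
    set S := πR.range ⊓ centralizer (πC.range : Set (N ⧸ D.subgroupOf N))
    have hS : IsPGroup 2 S := (hR.of_surjective _ πR.rangeRestrict_surjective).to_le inf_le_left
    obtain ⟨k, hk⟩ := IsPGroup.iff_card.mp hS
    have hk0 : k ≠ 0 := fun e => hne (card_eq_one.mp (by rw [hk, e, pow_zero]))
    obtain ⟨s, hs⟩ := exists_prime_orderOf_dvd_card' (G := S) 2 (hk ▸ dvd_pow_self 2 hk0)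
    obtain ⟨⟨w, hw⟩, hsC⟩ := mem_inf.mp s.2
    have hs1 : (s : N ⧸ D.subgroupOf N) ≠ 1 := fun e => by
      have : s = 1 := Subtype.ext e
      rw [this, orderOf_one] at hs
      norm_num at hs
    have hww : (w : G) * w = 1 := congrArg Subtype.val (hinj (a₁ := w * w) (a₂ := 1) (by
      rw [map_mul, map_one, hw, ← Subgroup.coe_mul, ← pow_two, ← hs, pow_orderOf_eq_one]; rfl))
    refine hs1 (hw ▸ (?_ : πR w = 1))
    rw [show w = 1 from Subtype.ext (hfaith w w.2 (hdet w (hRQ w.2) ?_ ?_)), map_one]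
    · exact ((by norm_num : Nat.Coprime 2 3).coprime_dvd_left
        (orderOf_dvd_of_pow_eq_one (by rw [pow_two]; exact hww)))
    · refine mem_centralizer_of_mod_derived hww hC (hnC (hRQ w.2)) hcl fun c hc => ?_
      have h1 : ⁅πR w, πC ⟨c, hc⟩⁆ = 1 := commutatorElement_eq_one_iff_mul_comm.mpr
        (hw ▸ (mem_centralizer_iff.mp hsC (πC ⟨c, hc⟩) ⟨_, rfl⟩).symm)
      exact (hπ ⁅inclusion hRN w, inclusion hCN ⟨c, hc⟩⁆).mp ((map_commutatorElement π _ _).trans h1)
  set y := π ⟨x, hQN hxQ⟩ with hy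
  have hyp : y ^ p = 1 := by
    rw [hy, ← map_pow, show (⟨x, hQN hxQ⟩ : N) ^ p = 1 from Subtype.ext hx, map_one]
  obtain ⟨A₈, hA₈R, hA₈, hA₈c⟩ := hhigh
  set Ā := (A₈.subgroupOf R).map πR
  have hA₈' : Cfsg.IsElementaryAbelian 2 (A₈.subgroupOf R) := by
    haveI := hA₈.1
    exact ⟨⟨⟨fun a b => Subtype.ext (Subtype.ext (setLike_mul_comm (s := A₈) a.2 b.2))⟩⟩,
      fun a ha => Subtype.ext (by rw [SubmonoidClass.coe_pow]; exact hA₈.2 _ ha)⟩
  have hĀ : Cfsg.IsElementaryAbelian 2 Ā := OddOrder.isElementaryAbelian_map _ hA₈'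
  have hĀc : 2 ^ 3 ≤ Nat.card Ā := by
    rw [card_map_of_injective hinj, Nat.card_congr (subgroupOfEquivOfLe hA₈R).toEquiv]
    exact hA₈c
  have hĀR : Ā ≤ πR.range := map_le_range _ _
  obtain ⟨m, hm⟩ := IsPGroup.iff_card.mp (hC.of_surjective _ πC.rangeRestrict_surjective)
  have hm5 : 5 ≤ m := by
    by_contra hm5
    refine not_hasRank3_of_faithful_eightyOne hp5 hyp hVel
      (hm ▸ Nat.pow_le_pow_right (by norm_num) (by omega)) (hR.of_surjective _ πR.rangeRestrict_surjective)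
      hRV (hnV _ (hnC hxQ)) ?_ hf ?_ ⟨Ā, hĀR, hĀ, hĀc⟩
    · refine LocalStructure.mem_normalizer_of_forall ?_
      rintro _ ⟨z, rfl⟩
      exact ⟨⟨x * z * x⁻¹, (mem_normalizer_iff.mp hxR z).mp z.2⟩, rfl⟩
    · intro hc
      refine hmv (mem_centralizer_iff.mpr fun z hz => ?_)
      have hxz : x * z * x⁻¹ ∈ R := (mem_normalizer_iff.mp hxR z).mp hz
      have h1 : πR ⟨_, hxz⟩ = πR ⟨z, hz⟩ := by
        show π (⟨x, hQN hxQ⟩ * ⟨z, hRN hz⟩ * ⟨x, hQN hxQ⟩⁻¹) = _
        rw [map_mul, map_mul, map_inv, ← hy, mul_inv_eq_iff_eq_mul]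
        exact (mem_centralizer_iff.mp hc (πR ⟨z, hz⟩) ⟨_, rfl⟩).symm
      exact (mul_inv_eq_iff_eq_mul.mp (congrArg Subtype.val (hinj h1))).symm
  obtain ⟨_, ⟨a, ha, rfl⟩, ha1, ha27⟩ := exists_fixed_cube hVel
    (hm ▸ Nat.pow_le_pow_right (by norm_num) hm5) hĀ hĀc (hĀR.trans hRV)
    (le_bot_iff.mp ((inf_le_inf_right _ hĀR).trans hf.le))
  have haG : (a : G) ≠ 1 := fun e => ha1 (by rw [show a = 1 from Subtype.ext e, map_one])
  have haa : (a : G) * a = 1 := by rw [← pow_two]; exact hA₈.2 _ ha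
  set Ca := C ⊓ centralizer ({(a : G)} : Set G) with hCa
  let φ : Ca →* N ⧸ D.subgroupOf N := πC.comp (inclusion inf_le_left)
  have hrange : πC.range ⊓ centralizer ({πR a} : Set (N ⧸ D.subgroupOf N)) ≤ φ.range := by
    rintro _ ⟨⟨c, rfl⟩, hc⟩
    have hainv : (a : G) ∈ normalizer (C : Set G) := hnC (hRQ a.2)
    have hac : ⁅(a : G), (c : G)⁆ ∈ D := (hπ ⁅inclusion hRN a, inclusion hCN c⁆).mp
      ((map_commutatorElement π _ _).trans (commutatorElement_eq_one_iff_mul_comm.mpr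
        (mem_centralizer_singleton_iff.mp hc).symm))
    have hfix : ∀ b ∈ zpowers (a : G), (c : G)⁻¹ * (b * c * b⁻¹) ∈ D := by
      rintro _ ⟨k, rfl⟩
      rcases Int.even_or_odd' k with ⟨l, rfl | rfl⟩
      · simp only
        rw [zpow_mul, zpow_two, haa, one_zpow]
        simp
      · simp only
        rw [zpow_add_one, zpow_mul, zpow_two, haa, one_zpow, one_mul,
          show (c : G)⁻¹ * ((a : G) * c * (a : G)⁻¹) = (c : G)⁻¹ * ⁅(a : G), (c : G)⁆ * (c : G)⁻¹⁻¹ by
            rw [commutatorElement_def]; group]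
        exact (mem_normalizer_iff.mp (hCN (inv_mem c.2)) _).mp hac
    have hcop : (Nat.card (zpowers (a : G))).Coprime (Nat.card D) := by
      rw [Nat.card_zpowers]
      refine Nat.Coprime.coprime_dvd_left (orderOf_dvd_of_pow_eq_one (by rw [pow_two]; exact haa)) ?_
      exact Nat.Coprime.coprime_dvd_right (card_dvd_of_le hDC)
        (by rw [hj]; exact (by norm_num : Nat.Coprime 2 3).pow_right j)
    obtain ⟨d, hd, hdD⟩ := Coprime.exists_fixed_mem_coset (zpowers_le.mpr (hRN a.2)) hcop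
      (Or.inl (isSolvable_zpowers (a : G))) hfix
    have hdC : d ∈ C := by
      have := mul_mem c.2 (hDC hdD)
      rwa [mul_inv_cancel_left] at this
    refine ⟨⟨d, hdC, mem_centralizer_singleton_iff.mpr
      (mem_centralizer_iff.mp hd _ (mem_zpowers _)).symm⟩, ?_⟩
    refine (inv_mul_eq_one.mp ?_).symm
    show (πC c)⁻¹ * πC ⟨d, hdC⟩ = 1
    rw [← map_inv, ← map_mul]
    exact (hπ _).mpr hdD
  have hCaD : ⁅Ca, Ca⁆ ≤ D := commutator_mono inf_le_left inf_le_left
  have hcard : 3 ^ 3 * Nat.card ↥⁅Ca, Ca⁆ ≤ Nat.card Ca := by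
    rw [← φ.ker.card_mul_index, Subgroup.index_ker, mul_comm (3 ^ 3)]
    refine Nat.mul_le_mul ?_ (ha27.trans (Subgroup.card_le_of_le hrange))
    refine (Subgroup.card_le_of_le (K := φ.ker.map Ca.subtype) fun z hz => ?_).trans_eq
      (card_map_of_injective Ca.subtype_injective)
    have hzCa : z ∈ Ca := commutator_le.mpr (fun u hu v hv =>
      mul_mem (mul_mem (mul_mem hu hv) (inv_mem hu)) (inv_mem hv)) hz
    exact ⟨⟨z, hzCa⟩, (hπ _).mpr (hCaD hz), rfl⟩
  have hclCa : Ca ≤ centralizer ((⁅Ca, Ca⁆ : Subgroup G) : Set G) := by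
    rw [le_centralizer_iff, commutator_le]
    exact fun u hu v hv => mem_centralizer_iff.mpr fun w hw =>
      (hcl u hu.1 v hv.1 w hw.1).symm.eq
  obtain ⟨A, hACa, -, hA, hA3⟩ := exists_elem_cube (r := 3) (C := Ca) (fun c hc => hexp c hc.1) hclCa hcard
    (one_mem Ca)
  refine ⟨A₈, A, a, haG, haa, ⟨hA₈, hA₈c⟩, ⟨hA, hA3⟩, fun e he => ?_, hACa.trans inf_le_right⟩
  exact mem_centralizer_singleton_iff.mpr
    (mem_centralizer_iff.mp ((IsElem3.comm ⟨hA₈, hA₈c⟩) he) a ha).symm

variable {p : ℕ} [hp : Fact p.Prime] {x : G}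

namespace Ctx

variable (h : Ctx G p x)
include h

/-- The same, when the core at 2 or at 3 of the maximal subgroup is nontrivial. -/
theorem false_of_high_mixed_core {M A : Subgroup G} (ht2 : IsTriv 2 G) (ht3 : IsTriv 3 G)
    (hM : IsCoatom M) (hx : x ∈ M) (hA : IsObj p x 3 A) (hAM : A ≤ M) (hH : HighIn x M)
    (hcore : core 2 M ≠ ⊥ ∨ core 3 M ≠ ⊥) : False := by
  haveI : Fact (Nat.Prime 2) := ⟨Nat.prime_two⟩
  haveI : Fact (Nat.Prime 3) := ⟨Nat.prime_three⟩
  obtain ⟨E₃, hE₃A, hE₃, hE₃c⟩ := h.obj_rank hA (by omega)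
  obtain ⟨R, hR, hRM, hxR, hmv, hR3⟩ := hH
  rcases hcore with h2 | h3
  · obtain ⟨E₂, hE₂R, hE₂, hE₂c⟩ := hR3
    exact h.hyp.false_of_common ht2 ht3 (core_isPGroup 2 M) h2 ⟨hE₂, hE₂c⟩ ⟨hE₃, hE₃c⟩
      ((hE₂R.trans hRM).trans (le_normalizer_core 2 M)) ((hE₃A.trans hAM).trans (le_normalizer_core 2 M))
  set Q := core 3 M
  have hQp : IsPGroup 3 Q := core_isPGroup 3 M
  have hQn : normalizer (Q : Set G) = M :=
    (hM.le_iff.mp (le_normalizer_core 3 M)).resolve_left
      (h.hyp.normalizer_ne_top h3 (h.hyp.ne_top_of_isPGroup hQp))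
  have hchar := h.hyp.isCharP_normalizer ht3 hQp h3 ⟨hE₃, hE₃c⟩
    ((hE₃A.trans hAM).trans (le_normalizer_core 3 M))
  rw [hQn] at hchar
  have hfaith : ∀ r ∈ R, r ∈ centralizer (Q : Set G) → r = 1 := fun r hr hrc => by
    obtain ⟨k, hk⟩ := hR.exists_orderOf_eq_pow ⟨r, hr⟩
    obtain ⟨l, hl⟩ := hQp.exists_orderOf_eq_pow ⟨r, (show r ∈ Q from hchar ⟨hRM hr, hrc⟩)⟩
    rw [Subgroup.orderOf_mk] at hk hl
    exact orderOf_eq_one_iff.mp (Nat.eq_one_of_dvd_coprimes
      ((by norm_num : Nat.Coprime 2 3).pow k l) hk.dvd hl.dvd)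
  obtain ⟨E, A', a, ha1, ha2, hE, hA', hEa, hA'a⟩ := exists_cube_centralizer h.five h.pow_eq hQp hR
    (hRM.trans hQn.ge) (hQn.ge hx) hxR hmv hfaith hR3
  have hle : centralizer ({a} : Set G) ≤ normalizer (zpowers a : Set G) := by
    rw [centralizer_singleton_eq]; exact centralizer_le_normalizer _
  refine h.hyp.false_of_common ht2 ht3 (U := zpowers a) ?_ (fun e => ha1 (zpowers_eq_bot.mp e))
    hE hA' (hEa.trans hle) (hA'a.trans hle)
  exact IsPGroup.of_card (n := 1) (by
    rw [Nat.card_zpowers, pow_one]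
    exact orderOf_eq_prime (by rw [pow_two]; exact ha2) ha1)

/-- No maximal subgroup has a high 2-group and a 3-object when the cores at 2, 3 are trivial. -/
theorem false_of_high_mixed {M A : Subgroup G} (ht2 : IsTriv 2 G) (ht3 : IsTriv 3 G)
    (hM : IsCoatom M) (hx : x ∈ M) (hA : IsObj p x 3 A) (hAM : A ≤ M) (hH : HighIn x M)
    (hno : ∀ t B, IsObj p x t B → B ≤ M → t = 2 ∨ t = 3) : False := by
  haveI : Fact (Nat.Prime 3) := ⟨Nat.prime_three⟩
  refine h.false_of_high_mixed_core ht2 ht3 hM hx hA hAM hH ?_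
  by_contra hcore
  push Not at hcore
  set K := core' p M
  have hKM : K ≤ M := core'_le p M
  have hMK : M ≤ normalizer (K : Set G) := le_normalizer.trans (normalizer_le_normalizer_core' p M)
  have hK : Group.IsSolvable ↥K := isSolvable_of_comm_le (h.hyp.sub M hM.1) hKM
  have hpK : ¬ p ∣ Nat.card K := PLocal.not_dvd_iff_coprime.mp (card_core'_coprime p M)
  have hcoreM : ∀ t : ℕ, core t K ≤ core t M := fun t =>
    le_core ((core_le t K).trans hKM) (hMK.trans (normalizer_le_normalizer_core t K))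
      (core_isPGroup t K)
  refine obj_moved hA (centralizer_le (h.obj_le_core' hA hM.1 hx hAM)
    (le_centralizer_of_cores hK (zpowers_le.mpr (hMK hx)) (h.coprime hpK) (fun t ht => ?_)
      (mem_zpowers x)))
  rcases eq_or_ne (core t K) ⊥ with e | hne
  · rw [e]
    intro z _
    rw [mem_centralizer_iff]
    intro w hw
    rw [mem_bot.mp hw, one_mul, mul_one]
  haveI := Fact.mk ht
  obtain ⟨n, hn⟩ := IsPGroup.iff_card.mp (core_isPGroup t K)
  have htp : t ≠ p := by
    rintro rfl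
    rcases n with _ | n
    · exact hne (card_eq_one.mp (by rw [hn, pow_zero]))
    · exact hpK ((dvd_pow_self t n.succ_ne_zero).trans (hn ▸ card_dvd_of_le (core_le t K)))
  have h2 : t ≠ 2 := by rintro rfl; exact hne (le_bot_iff.mp ((hcoreM 2).trans hcore.1.le))
  have h3 : t ≠ 3 := by rintro rfl; exact hne (le_bot_iff.mp ((hcoreM 3).trans hcore.2.le))
  rw [zpowers_le]
  by_contra hmv
  obtain ⟨hobj, hle⟩ := h.obj_of_moved ht htp (core_isPGroup t K)
    (normalizer_le_normalizer_core t K (hMK hx)) hmv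
  rcases hno t _ hobj (hle.trans ((core_le t K).trans hKM)) with e | e
  · exact h2 e
  · exact h3 e

end Ctx

end CfsgLib.TwoGenSolv66
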