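import Cfsg.Agent.TwoGenSolv66.Four

/-!
# A 3-element commuting with `y` and fixing `Φ(B)` centralises a low group `B`

The set of elements outside `Φ(B)` with a given square is invariant under both elements, which fix
no such element, so its image modulo `Φ(B)` has 0 or 15 points; then all squares agree, so `B` would be
elementary.
-/

set_option autoImplicit false
set_option linter.unusedSectionVars false
set_option linter.unusedVariables false
set_option linter.style.haveILetI false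

open scoped commutatorElement

namespace CfsgLib.TwoGenSolv66

open Subgroup CfsgLib.SolvSig CfsgLib.Transitivity

universe u

variable {G : Type u} [Group G] [Finite G]

/-- An invariant set without fixed points under a `q`-group. -/
theorem dvd_card_of_conj_invariant {q : ℕ} [Fact q.Prime] {P : Subgroup G} (hP : IsPGroup q P)
    (S : Set G) (hinv : ∀ g ∈ P, ∀ a ∈ S, g * a * g⁻¹ ∈ S)
    (hfix : ∀ a ∈ S, ∃ g ∈ P, g * a * g⁻¹ ≠ a) : q ∣ Nat.card S := by
  letI : MulAction P S :=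
    { smul := fun g a => ⟨(g : G) * a * (g : G)⁻¹, hinv g g.2 a a.2⟩
      one_smul := fun a => Subtype.ext (show ((1 : P) : G) * a * ((1 : P) : G)⁻¹ = a by simp)
      mul_smul := fun g k a => Subtype.ext (show ((g * k : P) : G) * a * ((g * k : P) : G)⁻¹ =
        (g : G) * ((k : G) * a * (k : G)⁻¹) * (g : G)⁻¹ by simp [mul_assoc]) }
  have h1 := hP.card_modEq_card_fixedPoints S
  have h2 : Nat.card (MulAction.fixedPoints P S) = 0 := by
    haveI : IsEmpty (MulAction.fixedPoints P S) := ⟨fun a => by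
      obtain ⟨g, hg, hne⟩ := hfix a.1 a.1.2
      exact hne (congrArg Subtype.val (a.2 ⟨g, hg⟩))⟩
    exact Nat.card_of_isEmpty
  rw [h2] at h1
  exact Nat.modEq_zero_iff_dvd.mp h1

theorem mem_centralizer_of_fixing {y e : G} (hy : y ^ 5 = 1) {B : Subgroup G} (hB : IsPGroup 2 B)
    (hlow : ¬ HasRank3 2 B) (hyB : y ∈ normalizer (B : Set G))
    (hS : LowSpec y B) {k : ℕ} (he : e ^ 3 ^ k = 1) (hey : Commute e y)
    (heB : e ∈ normalizer (B : Set G)) (heΦ : e ∈ centralizer (phiSub B : Set G)) :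
    e ∈ centralizer (B : Set G) := by
  haveI : Fact (Nat.Prime 2) := ⟨Nat.prime_two⟩
  haveI : Fact (Nat.Prime 3) := ⟨Nat.prime_three⟩
  haveI : Fact (Nat.Prime 5) := ⟨by norm_num⟩
  by_contra hne
  set Φ := phiSub B
  have hye : y ∈ centralizer ({e} : Set G) := mem_centralizer_singleton_iff.mpr hey.symm.eq
  have hC : B ⊓ centralizer ({e} : Set G) ≤ Φ := by
    set C := B ⊓ centralizer ({e} : Set G)
    have hyC : y ∈ normalizer (C : Set G) :=
      inf_normalizer_le_normalizer_inf ⟨hyB, le_normalizer hye⟩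
    by_cases hmv : y ∈ centralizer (C : Set G)
    · exact fun c hc => hS.fix_le ⟨hc.1, mem_centralizer_singleton_iff.mpr
        (mem_centralizer_iff.mp hmv c hc)⟩
    · exact (hne (mem_centralizer_iff.mpr fun b hb => mem_centralizer_singleton_iff.mp
        ((hS.eq_of_moved C inf_le_left hyC hmv).ge hb).2)).elim
  have hcomm : ∀ z ∈ Φ, ∀ b ∈ B, Commute z b := fun z hz b hb =>
    mem_centralizer_iff.mp (hS.central hb) z hz
  obtain ⟨a₀, ha₀, ha₀Φ⟩ : ∃ a ∈ B, a ∉ Φ := by
    by_contra! hh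
    have := Nat.card_le_card_of_injective _ (inclusion_injective hh)
    have h1 := hS.card_eq
    have h0 : 0 < Nat.card Φ := Nat.card_pos
    change Nat.card B = 16 * Nat.card Φ at h1
    omega
  set v := a₀ * a₀
  have hv : v ∈ Φ := sq_mem_phiSub hB ha₀
  set S : Set G := {a | a ∈ B ∧ a ∉ Φ ∧ a * a = v}
  have hinv : ∀ g, g ∈ normalizer (B : Set G) → (∀ z ∈ Φ, Commute g z) → ∀ a ∈ S,
      g * a * g⁻¹ ∈ S := by
    rintro g hg hgΦ a ⟨ha, haΦ, hav⟩
    refine ⟨(mem_normalizer_iff.mp hg a).mp ha, fun e1 => haΦ ?_, ?_⟩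
    · exact (mem_normalizer_iff.mp (normalizer_le_normalizer_phiSub B hg) a).mpr e1
    · rw [show g * a * g⁻¹ * (g * a * g⁻¹) = g * (a * a) * g⁻¹ by group, hav, (hgΦ v hv).eq,
        mul_inv_cancel_right]
  have hgen : ∀ {g : G} {q : ℕ} [Fact q.Prime], IsPGroup q (zpowers g) →
      g ∈ normalizer (B : Set G) → (∀ z ∈ Φ, Commute g z) →
      (∀ a ∈ B, Commute g a → a ∈ Φ) → q ∣ Nat.card S := by
    intro g q _ hP hg hgΦ hfree
    refine dvd_card_of_conj_invariant hP S ?_ fun a ha => ⟨g, mem_zpowers g, fun e1 => ha.2.1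
      (hfree a ha.1 (mul_inv_eq_iff_eq_mul.mp e1))⟩
    intro g' hg'
    obtain ⟨i, rfl⟩ := mem_zpowers_iff.mp hg'
    exact hinv _ (zpow_mem hg i) fun z hz => (hgΦ z hz).zpow_left i
  have h5 : 5 ∣ Nat.card S := hgen (isPGroup_five hy) hyB
    (fun z hz => (mem_centralizer_singleton_iff.mp (hS.fixed hz) : Commute z y).symm)
    (fun a ha hc => hS.fix_le ⟨ha, mem_centralizer_singleton_iff.mpr hc.symm.eq⟩)
  have h3 : 3 ∣ Nat.card S := by
    obtain ⟨i, -, hi⟩ := (Nat.dvd_prime_pow Nat.prime_three).mp (orderOf_dvd_of_pow_eq_one he)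
    refine hgen (IsPGroup.of_card (n := i) (by rw [Nat.card_zpowers, hi])) heB
      (fun z hz => (mem_centralizer_iff.mp heΦ z hz : Commute z e).symm)
      (fun a ha hc => hC ⟨ha, mem_centralizer_singleton_iff.mpr hc.symm.eq⟩)
  -- `S` is a union of cosets of `Φ`
  set T : Set (G ⧸ Φ) := QuotientGroup.mk '' S
  have hST : QuotientGroup.mk ⁻¹' T = S := by
    refine Set.Subset.antisymm ?_ (Set.subset_preimage_image _ _)
    rintro b ⟨a, ⟨ha, haΦ, hav⟩, hab⟩
    have hz : a⁻¹ * b ∈ Φ := QuotientGroup.eq.mp hab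
    obtain ⟨z, hz', rfl⟩ : ∃ z ∈ Φ, a * z = b := ⟨_, hz, mul_inv_cancel_left a b⟩
    refine ⟨mul_mem ha (phiSub_le B hz'), fun e1 => haΦ ?_, ?_⟩
    · have := mul_mem e1 (inv_mem hz'); rwa [mul_inv_cancel_right] at this
    · rw [(hcomm z hz' a ha).mul_mul_mul_comm, hS.sq_one z hz', mul_one, hav]
  have hcard : Nat.card S = Nat.card Φ * Nat.card T := by
    rw [← Nat.card_prod]
    exact Nat.card_congr ((Equiv.setCongr hST.symm).trans
      (QuotientGroup.preimageMkEquivSubgroupProdSet Φ T))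
  obtain ⟨i, hi⟩ := IsPGroup.iff_card.mp (hB.to_le (phiSub_le B))
  change Nat.card Φ = 2 ^ i at hi
  have h15 : 15 ∣ Nat.card T := by
    have h := Nat.Coprime.mul_dvd_of_dvd_of_dvd (by norm_num : Nat.Coprime 3 5) h3 h5
    rw [hcard, hi] at h
    exact ((by norm_num : Nat.Coprime 15 2).pow_right i).dvd_of_dvd_mul_left h
  have hT : 0 < Nat.card T :=
    haveI : Nonempty T := ⟨⟨_, a₀, ⟨ha₀, ha₀Φ, rfl⟩, rfl⟩⟩
    Nat.card_pos
  have hall : ∀ a ∈ B, a ∉ Φ → a * a = v := by
    intro a ha haΦ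
    have hsub : S ⊆ (B : Set G) \ (Φ : Set G) := fun b hb => ⟨hb.1, hb.2.1⟩
    have hd : ((B : Set G) \ (Φ : Set G)).ncard = 15 * Nat.card Φ := by
      rw [Set.ncard_diff (SetLike.coe_subset_coe.mpr (phiSub_le B) : (Φ : Set G) ⊆ B),
        ← Nat.card_coe_set_eq, ← Nat.card_coe_set_eq, SetLike.coe_sort_coe, SetLike.coe_sort_coe,
        hS.card_eq]
      change 16 * Nat.card Φ - Nat.card Φ = 15 * Nat.card Φ
      omega
    have he : S = (B : Set G) \ (Φ : Set G) := by
      refine Set.eq_of_subset_of_ncard_le hsub ?_ (Set.toFinite _)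
      rw [hd, ← Nat.card_coe_set_eq S, hcard, mul_comm]
      exact Nat.mul_le_mul_left _ (Nat.le_of_dvd hT h15)
    exact (he.ge ⟨ha, haΦ⟩ : a ∈ S).2.2
  -- so `Φ` has order at most two, and `B` is elementary
  have hsq : ∀ a ∈ B, a * a ∈ zpowers v := fun a ha => by
    by_cases haΦ : a ∈ Φ
    · rw [hS.sq_one a haΦ]; exact one_mem _
    · rw [hall a ha haΦ]; exact mem_zpowers v
  have hle : Φ ≤ zpowers v := by
    refine phiSub_le_of (zpowers_le.mpr (phiSub_le B hv)) (fun a ha b hb => ?_) hsq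
      fun b hb => LocalStructure.mem_normalizer_of_forall fun z hz => ?_
    · rw [show ⁅a, b⁆ = a * a * (a⁻¹ * b * (a⁻¹ * b)) * (b⁻¹ * b⁻¹) by
        rw [commutatorElement_def]; group]
      exact mul_mem (mul_mem (hsq a ha) (hsq _ (mul_mem (inv_mem ha) hb))) (hsq _ (inv_mem hb))
    · have hzc : Commute z b := hcomm z (zpowers_le.mpr hv hz) b hb
      rwa [hzc.symm.eq, mul_inv_cancel_right]
  have h2 : Nat.card Φ ≤ 2 := by
    refine (Nat.card_le_card_of_injective _ (inclusion_injective hle)).trans ?_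
    rw [Nat.card_zpowers]
    exact orderOf_le_of_pow_eq_one two_pos (by rw [pow_two]; exact hS.sq_one v hv)
  obtain ⟨f, hf, hfΦ, hff⟩ := exists_involution_outside hB hS h2
  have hsq1 : ∀ a ∈ B, a * a = 1 := fun a ha => by
    by_cases haΦ : a ∈ Φ
    · exact hS.sq_one a haΦ
    · rw [hall a ha haΦ, ← hall f hf hfΦ, hff]
  refine hlow ⟨B, le_rfl, ⟨⟨⟨fun a b => Subtype.ext (mul_comm_of_sq (hsq1 a a.2) (hsq1 b b.2)
    (hsq1 _ (mul_mem a.2 b.2)))⟩⟩, fun a ha => by rw [pow_two]; exact hsq1 a ha⟩, ?_⟩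
  rw [hS.card_eq]
  have : 0 < Nat.card Φ := Nat.card_pos
  change 2 ^ 3 ≤ 16 * Nat.card Φ
  omega

end CfsgLib.TwoGenSolv66
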