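import Cfsg.Agent.TwoGenSolv66.LowType
import Cfsg.Agent.TwoGenSolv66.FixLow
import Cfsg.Agent.LocalEven48.KlingerMason.Eight

/-!
# Low subgroups are typed at the prime three

* `Ctx.le_core'_of_fixed_normal` : an invariant `s`-group normalised by the fixed elements lies in
  `O_{p'}`.
* `Ctx.typed_of_low` : a maximal subgroup through `x` with a 2-object and no high group is typed at
  three (`p = 5`).
-/

set_option autoImplicit false
set_option linter.unusedSectionVars false
set_option linter.unusedVariables false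
set_option linter.style.haveILetI false

open scoped commutatorElement Pointwise

namespace CfsgLib.TwoGenSolv66

open Subgroup CfsgLib.SolvSig CfsgLib.Transitivity

universe u

variable {G : Type u} [Group G] [Finite G] {p : ℕ} [hp : Fact p.Prime] {x : G}

namespace Ctx

variable (h : Ctx G p x)
include h

/-- An invariant `s`-group normalised by the fixed elements lies in `O_{p'}`. -/
theorem le_core'_of_fixed_normal {s : ℕ} {H D : Subgroup G} (hs : s.Prime) (hne : s ≠ p)
    (hH : H ≠ ⊤) (hx : x ∈ H) (hD : IsPGroup s D) (hDH : D ≤ H) (hxD : x ∈ normalizer (D : Set G))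
    (hCD : H ⊓ centralizer ({x} : Set G) ≤ normalizer (D : Set G)) : D ≤ core' p H := by
  haveI := Fact.mk hs
  haveI := h.hyp.sub H hH
  set K := core' p H
  intro d hd
  let K' := Cfsg.pPrimeCore p ↥H
  let π := QuotientGroup.mk' K'
  set T := Cfsg.pCore p (↥H ⧸ K') with hT
  set d' : ↥H := ⟨d, hDH hd⟩
  set x' : ↥H := ⟨x, hx⟩
  have hdx : Commute (π d') (π x') := by
    rw [← commutatorElement_eq_one_iff_commute, ← map_commutatorElement]
    refine (QuotientGroup.eq_one_iff _).mpr ?_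
    obtain ⟨k, hk, hke⟩ : ⁅d, x⁆ ∈ K :=
      (h.commutator_le_core' hH hx hDH hxD (h.not_dvd_of_isPGroup hs hne hD))
        (commutator_mem_commutator hd (mem_zpowers x))
    have e : k = ⁅d', x'⁆ := Subtype.ext (by rw [← H.coe_subtype, hke]; simp [d', x', commutatorElement_def])
    exact e ▸ hk
  have hcopT : ∀ q : ↥H ⧸ K', q ∈ (D.subgroupOf H).map π → q ∈ T → q = 1 := fun q h1 h2 =>
    mem_bot.mp ((IsPGroup.disjoint_of_ne s p hne _ _
      (hD.comap_subtype.map π) (PLocal.isPGroup_pCore p _)).eq_bot.le ⟨h1, h2⟩)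
  haveI hTn : T.Normal := inferInstance
  have hfix : T ⊓ centralizer (zpowers (π x') : Set (↥H ⧸ K')) ≤
      centralizer (zpowers (π d') : Set (↥H ⧸ K')) := by
    rintro q ⟨hqT, hqx⟩
    obtain ⟨t, rfl⟩ := QuotientGroup.mk'_surjective K' q
    obtain ⟨c, hc, htc⟩ := Coprime.exists_fixed_mem_coset (A := zpowers x') (N := K') (k := t)
      (le_normalizer_of_normal) (by
        refine Nat.Coprime.coprime_dvd_left (k := p) ?_ (PLocal.coprime_card_pPrimeCore p ↥H).symm
        rw [Nat.card_zpowers]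
        exact orderOf_dvd_of_pow_eq_one (Subtype.ext h.pow_eq))
      (Or.inl (isSolvable_zpowers' x')) (fun a ha => (QuotientGroup.eq_one_iff _).mp (by
        have e : π a * π t = π t * π a := mem_centralizer_iff.mp hqx _ (by
          obtain ⟨i, rfl⟩ := mem_zpowers_iff.mp ha
          rw [map_zpow]; exact zpow_mem (mem_zpowers _) i)
        show π (t⁻¹ * (a * t * a⁻¹)) = 1
        rw [map_mul, map_mul, map_mul, map_inv, map_inv, e]; group))
    have htc' : π t = π c := by
      have : π (t⁻¹ * c) = 1 := (QuotientGroup.eq_one_iff _).mpr htc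
      rwa [map_mul, map_inv, inv_mul_eq_one] at this
    have hcx : (c : G) ∈ H ⊓ centralizer ({x} : Set G) := ⟨c.2,
      mem_centralizer_singleton_iff.mpr
        (congrArg Subtype.val (mem_centralizer_iff.mp hc x' (mem_zpowers x'))).symm⟩
    have hcomm : Commute (π c) (π d') := by
      rw [← commutatorElement_eq_one_iff_commute]
      refine hcopT _ ?_ ?_
      · rw [← map_commutatorElement]
        refine mem_map_of_mem π ?_
        show ((⁅c, d'⁆ : ↥H) : G) ∈ D
        rw [commutatorElement_def]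
        push_cast
        exact mul_mem ((mem_normalizer_iff.mp (hCD hcx) _).mp hd) (inv_mem hd)
      · rw [commutatorElement_def, mul_assoc (π c * π d'), ← htc', mul_assoc (π t)]
        exact mul_mem hqT (by
          have := hTn.conj_mem _ (inv_mem hqT) (π d'); rwa [mul_assoc] at this)
    rw [mem_centralizer_iff]
    intro z hz
    obtain ⟨i, rfl⟩ := mem_zpowers_iff.mp hz
    show π d' ^ i * π t = π t * π d' ^ i
    rw [htc']; exact ((hcomm.zpow_right i).symm).eq
  have hdc : π d' ∈ centralizer (T : Set (↥H ⧸ K')) := by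
    refine Coprime.le_centralizer_of_inf_centralizer_le (p := p) (U := T) (P := zpowers (π x'))
      (Q := zpowers (π d')) ?_ ?_ (PLocal.isPGroup_pCore p _) ?_
      le_normalizer_of_normal le_normalizer_of_normal hfix (mem_zpowers _)
    · rw [← MonoidHom.map_zpowers]; exact (h.isPGroup.comap_subtype.to_le (zpowers_le.mpr
        (show x' ∈ (zpowers x).subgroupOf H from mem_zpowers x))).map π
    · obtain ⟨k, hk⟩ := hD ⟨d, hd⟩
      refine Nat.Coprime.coprime_dvd_left (k := s ^ k) ?_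
        (((Nat.coprime_primes hs hp.out).mpr hne).pow_left k)
      rw [Nat.card_zpowers]
      exact orderOf_dvd_of_pow_eq_one (by
        rw [← map_pow, show d' ^ s ^ k = 1 from Subtype.ext (by simpa [d'] using congrArg Subtype.val hk), map_one])
    · rw [zpowers_le, mem_centralizer_iff]
      intro z hz
      obtain ⟨i, rfl⟩ := mem_zpowers_iff.mp hz
      exact (hdx.zpow_left i).eq
  have h1 : π d' = 1 := hcopT _ (mem_map_of_mem π hd) (PLocal.centralizer_pCore_le
    (PLocal.isPSolvable_quotient PLocal.isPSolvable_of_isSolvable _)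
    (PLocal.pPrimeCore_quotient_pPrimeCore_eq_bot p ↥H) hdc)
  exact ⟨d', (QuotientGroup.eq_one_iff _).mp h1, rfl⟩

variable (hp5 : p = 5)
include hp5

variable {M B : Subgroup G} (hM : IsCoatom M) (hx : x ∈ M) (hB : IsObj p x 2 B) (hBM : B ≤ M)
  (hlow : ¬ HighIn x M)
include hM hx hB hBM hlow

theorem typed_of_low : Typed p x 3 M := by
  haveI : Fact (Nat.Prime 2) := ⟨Nat.prime_two⟩
  haveI : Fact (Nat.Prime 3) := ⟨Nat.prime_three⟩
  haveI := h.hyp.sub M hM.1
  obtain ⟨hn, hself, hS, hlow₁⟩ := h.low_quotient hp5 hM.1 hx hB hBM hlow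
  set Q := Cfsg.pCore 3 ↥M
  set π := QuotientGroup.mk' Q
  set B' := B.subgroupOf M
  set B₁ := B'.map π
  set y := π ⟨x, hx⟩
  set K₁ := (Cfsg.pPrimeCore p ↥M).map π
  have hy5 : y ^ 5 = 1 := by
    rw [← map_pow, show (⟨x, hx⟩ : ↥M) ^ 5 = 1 from Subtype.ext (h.pow_five hp5), map_one]
  have hyp : y ^ p = 1 := hp5 ▸ hy5
  have h3p : 3 ≠ p := by omega
  have hB₁ : IsPGroup 2 B₁ := hB.isPGroup.comap_subtype.map π
  have hyB₁ : y ∈ normalizer (B₁ : Set (↥M ⧸ Q)) :=
    le_normalizer_of_normal (mem_top y)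
  have hinj : Function.Injective (π.comp B'.subtype) :=
    PLocal.injective_comp_subtype_of_coprime hB.isPGroup.comap_subtype (by
      rw [QuotientGroup.ker_mk']
      obtain ⟨k, hk⟩ := IsPGroup.iff_card.mp (PLocal.isPGroup_pCore 3 ↥M)
      rw [hk]
      exact (by norm_num : Nat.Coprime 3 2).pow_left k)
  -- 3-subgroups of `K₁` centralising `B₁` are trivial
  have hfaith : ∀ (E : Subgroup (↥M ⧸ Q)), IsPGroup 3 E → E ≤ K₁ → ∀ e ∈ E,
      e ∈ centralizer (B₁ : Set (↥M ⧸ Q)) → e = 1 := fun E hE hEK e he hec =>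
    mem_bot.mp ((IsPGroup.disjoint_of_ne 3 2 (by norm_num) E B₁ hE hB₁).eq_bot.le
      ⟨he, hself ⟨hec, hEK he⟩⟩)
  have hpart : ∀ D : Subgroup G, IsPGroup 3 D → D ≤ M → x ∈ normalizer (D : Set G) →
      ⁅D, zpowers x⁆ ≤ core 3 M := by
    intro D hD hDM hxD
    set A := ⁅D, zpowers x⁆
    have hAD : A ≤ D := Coprime.commutator_le_of_le_normalizer (zpowers_le.mpr hxD)
    have hAM : A ≤ M := hAD.trans hDM
    have hxA : x ∈ normalizer (A : Set G) := normalizer_commutator_ge_right D _ (mem_zpowers x)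
    have hAA : ⁅A, zpowers x⁆ = A := Coprime.commutator_commutator_eq (zpowers_le.mpr hxD)
      (h.coprime (h.not_dvd_of_isPGroup Nat.prime_three h3p hD))
    set A₁ := (A.subgroupOf M).map π
    have hA₁ : IsPGroup 3 A₁ := (hD.to_le hAD).comap_subtype.map π
    have hA₁K : A₁ ≤ K₁ := map_mono fun a ha => by
      obtain ⟨c, hc, hca⟩ :=
        h.commutator_le_core' hM.1 hx hDM hxD (h.not_dvd_of_isPGroup Nat.prime_three h3p hD) ha
      exact M.subtype_injective hca ▸ hc
    have hyA₁ : y ∈ normalizer (A₁ : Set (↥M ⧸ Q)) := le_normalizer_map π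
      ⟨⟨x, hx⟩, mem_normalizer_iff.mpr fun c => mem_normalizer_iff.mp hxA (c : G), rfl⟩
    have hAe : A₁ = ⁅A₁, zpowers y⁆ := by
      rw [show A₁ = (A.subgroupOf M).map π from rfl, ← MonoidHom.map_zpowers, ← map_commutator]
      congr 1
      apply map_injective M.subtype_injective
      rw [map_commutator, map_subgroupOf_eq_of_le hAM, MonoidHom.map_zpowers]
      exact hAA.symm
    by_cases hmv : y ∈ centralizer (A₁ : Set (↥M ⧸ Q))
    · have hbot : A₁ = ⊥ := by
        rw [hAe, commutator_comm, commutator_eq_bot_iff_le_centralizer, zpowers_le]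
        exact hmv
      intro a ha
      exact ⟨⟨a, hAM ha⟩, (QuotientGroup.eq_one_iff _).mp (mem_bot.mp (hbot.le
        ⟨⟨a, hAM ha⟩, ha, rfl⟩)), rfl⟩
    · exfalso
      obtain ⟨E, hEA, hEel, hE3⟩ := (hasRank3_of_moved (r := 3) h.five (by omega) hyp hA₁ hyA₁
        hmv).resolve_right (by norm_num)
      obtain ⟨V, hVB, hVel, hV8⟩ := LocalEven48.KlingerMason.exists_elem_eight (p := 3)
        (by norm_num) hB₁ hEel hE3 (le_normalizer_of_normal)
        fun e he hec => hfaith A₁ hA₁ hA₁K e (hEA he) hec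
      exact hlow₁ ⟨V, hVB, hVel, hV8⟩
  refine ⟨hM, hx, fun D hD hDM hxD => ?_, fun D hD hDM hxD hXD hCD => ?_⟩
  · rw [← Coprime.commutator_commutator_eq (zpowers_le.mpr hxD)
      (h.coprime (h.not_dvd_of_isPGroup Nat.prime_three h3p hD))]
    exact commutator_mono (hpart D hD hDM hxD) le_rfl
  have hDK := h.le_core'_of_fixed_normal Nat.prime_three h3p hM.1 hx hD hDM hxD hCD
  refine (Coprime.commutator_sup_centralizer (zpowers_le.mpr hxD)
    (h.coprime (h.not_dvd_of_isPGroup Nat.prime_three h3p hD))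
    (Or.inl (isSolvable_zpowers' x))).ge.trans (sup_le (hpart D hD hDM hxD) fun e he => ?_)
  have hex : Commute e x := (mem_centralizer_iff.mp he.2 x (mem_zpowers x)).symm
  set D₁ := (D.subgroupOf M).map π
  have hD₁ : IsPGroup 3 D₁ := hD.comap_subtype.map π
  set e' : ↥M := ⟨e, hDM he.1⟩
  have heD : π e' ∈ D₁ := ⟨e', he.1, rfl⟩
  have hey : Commute (π e') y := (show Commute e' ⟨x, hx⟩ from Subtype.ext hex.eq).map π
  obtain ⟨k, hk⟩ := hD₁ ⟨_, heD⟩
  have heΦ : π e' ∈ centralizer (phiSub B₁ : Set (↥M ⧸ Q)) := by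
    refine mem_centralizer_iff.mpr fun z hz => ?_
    obtain ⟨b, hb, rfl⟩ := phiSub_le B₁ hz
    have hbx : Commute (b : G) x := by
      have h1 : Commute (π b) y := mem_centralizer_singleton_iff.mp (hS.fixed hz)
      have h2 : π (⟨x, hx⟩ * b * (⟨x, hx⟩ : ↥M)⁻¹) = π b := by
        rw [map_mul, map_mul, map_inv, ← h1.eq, mul_inv_cancel_right]
      have hb' : ⟨x, hx⟩ * b * (⟨x, hx⟩ : ↥M)⁻¹ ∈ B' := (mem_normalizer_iff.mp hB.inv _).mp hb
      have h3 := congrArg Subtype.val (congrArg Subtype.val (@hinj ⟨_, hb'⟩ ⟨b, hb⟩ h2))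
      exact (mul_inv_eq_iff_eq_mul.mp h3).symm
    have hbD : (b : G) ∈ normalizer (D : Set G) :=
      hCD ⟨b.2, mem_centralizer_singleton_iff.mpr hbx.eq⟩
    have h4 : π ⁅b, e'⁆ ∈ D₁ := mem_map_of_mem π (show (⁅b, e'⁆ : ↥M) ∈ D.subgroupOf M by
      show (b : G) * e * (b : G)⁻¹ * e⁻¹ ∈ D
      exact mul_mem ((mem_normalizer_iff.mp hbD e).mp he.1) (inv_mem he.1))
    have h5 : π ⁅b, e'⁆ ∈ B₁ := by
      rw [map_commutatorElement, commutatorElement_def, mul_assoc (π b), mul_assoc (π b)]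
      refine mul_mem (mem_map_of_mem π hb) ?_
      try rw [← mul_assoc]
      exact hn.conj_mem _ (inv_mem (mem_map_of_mem π hb)) _
    have h6 := mem_bot.mp ((IsPGroup.disjoint_of_ne 3 2 (by norm_num) D₁ B₁ hD₁ hB₁).eq_bot.le
      ⟨h4, h5⟩)
    rw [map_commutatorElement] at h6
    exact commutatorElement_eq_one_iff_mul_comm.mp h6
  have h1 : π e' = 1 := hfaith D₁ hD₁ (map_mono fun c hc => by
      obtain ⟨d, hd, hdc⟩ := hDK hc
      exact M.subtype_injective hdc ▸ hd) _ heD
    (mem_centralizer_of_fixing hy5 hB₁ hlow₁ hyB₁ hS (k := k)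
      (congrArg Subtype.val hk) hey (le_normalizer_of_normal (mem_top _)) heΦ)
  exact ⟨e', (QuotientGroup.eq_one_iff _).mp h1, rfl⟩

end Ctx

end CfsgLib.TwoGenSolv66
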