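import Cfsg.Agent.TwoGenSolv66.Functor

/-!
# One member for a prime, and the count

* `Pinned J Y` : `J` is the only maximal subgroup over `N(Y)`.
* `Ctx.exists_pinned` : for `O_{s'}(J) = 1` a member is pinned by `fY` of a Sylow subgroup of `G`.
* `Ctx.functor_members_eq` : such members are equal.
* `Ctx.false_of_big_cover` : fewer than `p` big subgroups cannot contain all the members.
-/

set_option autoImplicit false
set_option linter.unusedSectionVars false
set_option linter.unusedVariables false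
set_option linter.style.haveILetI false

open scoped commutatorElement Pointwise

namespace CfsgLib.TwoGenSolv66

open Subgroup CfsgLib.SolvSig CfsgLib.Transitivity

universe u

/-- Every member has a hub. -/
def HubHyp {G : Type*} [Group G] (p : ℕ) (x : G) (s : ℕ) (F : Finset (Subgroup G)) : Prop :=
  ∀ M, Member p x s F M → ∃ J, IsHub p x s F (xPart s x M) J

/-- The only maximal subgroup over a normaliser. -/
def Pinned {G : Type*} [Group G] (J Y : Subgroup G) : Prop :=
  ∀ K : Subgroup G, IsCoatom K → normalizer (Y : Set G) ≤ K → K = J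

variable {G : Type u} [Group G] [Finite G] {p : ℕ} [hp : Fact p.Prime] {x : G} {s : ℕ}
  {F : Finset (Subgroup G)}

namespace Ctx

variable (h : Ctx G p x)
include h

/-- Members pinned by conjugate subgroups are equal. -/
theorem eq_of_pinned {J₁ J₂ Y : Subgroup G} (h₁ : Big x J₁) (h₂ : Big x J₂) (hp₁ : Pinned J₁ Y)
    {g : G} (hp₂ : Pinned J₂ (Y.map (MulAut.conj g).toMonoidHom))
    (hN : normalizer (Y : Set G) ≤ J₁) : J₁ = J₂ := by
  have hK : J₁.map (MulAut.conj g).toMonoidHom = J₂ := by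
    refine hp₂ _ ((OrderIso.isCoatom_iff (MulEquiv.mapSubgroup (MulAut.conj g)) J₁).mpr h₁.coatom) ?_
    exact (map_equiv_normalizer_eq Y (MulAut.conj g)).ge.trans (map_mono hN)
  have hgx : g * x * g⁻¹ ∈ J₂ := hK ▸ ⟨x, h₁.mem, rfl⟩
  have hg := h.mem_of_conj_mem_big h₂ hgx
  have : J₂.map (MulAut.conj g).toMonoidHom = J₂ :=
    mem_normalizer_iff_map_conj_eq.mp (le_normalizer hg)
  exact map_injective (MulAut.conj g).injective (hK.trans this.symm)

/-- Fewer than `p` big subgroups cannot contain all members. -/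
theorem false_of_big_cover (F : Finset (Subgroup G)) (hF : ∀ L ∈ F, Big x L) (hcard : F.card < p)
    (hall : ∀ M : Subgroup G, IsCoatom M → x ∈ M → ∀ r A, IsObj p x r A → A ≤ M → M ∈ F) :
    False := by
  have hmem : ∀ g : G, ¬ Commute (g * x * g⁻¹) x → ∃ M ∈ F, g ∈ M := by
    intro g hg
    obtain ⟨M, hM, hxM, hgM, hgx⟩ := h.exists_coatom_conj (c := (1 : G)) (one_mem _) g⁻¹
    obtain ⟨r, A, hA, hAM⟩ := h.exists_obj hM.1 hxM (y := g * x * g⁻¹)
      (isConj_iff.mpr ⟨g, rfl⟩) (by simpa using hgx) hg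
    exact ⟨M, hall M hM hxM r A hA hAM, by simpa using inv_mem hgM⟩
  obtain ⟨g₀, hg₀⟩ : ∃ g : G, ¬ Commute (g * x * g⁻¹) x := by
    by_contra! hh
    have hc : IsMulCommutative (Subgroup.closure (Group.conjugatesOfSet ({x} : Set G))) := by
      refine isMulCommutative_closure fun a ha b hb => ?_
      simp only [Group.conjugatesOfSet, Set.mem_iUnion, Set.mem_singleton_iff] at ha hb
      obtain ⟨a₀, rfl, ha⟩ := ha
      obtain ⟨b₀, rfl, hb⟩ := hb
      obtain ⟨g, rfl⟩ := isConj_iff.mp ha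
      obtain ⟨k, rfl⟩ := isConj_iff.mp hb
      have := (hh (k⁻¹ * g)).map (MulAut.conj k).toMonoidHom
      simpa [mul_assoc] using this.eq
    rcases h.hyp.simple _ (inferInstance : (Subgroup.normalClosure ({x} : Set G)).Normal) with e | e
    · exact h.ne_one (mem_bot.mp (e ▸ subset_normalClosure rfl))
    · exact h.hyp.not_solvable (Group.isSolvable_of_comm fun a b => congrArg Subtype.val
        (hc.is_comm.comm ⟨a, (e.ge (mem_top a) : _)⟩ ⟨b, (e.ge (mem_top b) : _)⟩))
  obtain ⟨M₀, hM₀, -⟩ := hmem g₀ hg₀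
  have hcov : (Set.univ : Set G) ⊆ ⋃ L ∈ F, (L : Set G) := fun g _ => by
    by_cases hg : Commute (g * x * g⁻¹) x
    · exact Set.mem_iUnion₂.mpr ⟨M₀, hM₀, (hF M₀ hM₀).carrier_le hg⟩
    · obtain ⟨M, hM, hgM⟩ := hmem g hg
      exact Set.mem_iUnion₂.mpr ⟨M, hM, hgM⟩
  have h1 := h.mul_ncard_biUnion_le F fun L hL => (hF L hL).coatom.1
  rw [Set.eq_univ_of_univ_subset hcov, Set.ncard_univ] at h1
  have := Nat.le_of_mul_le_mul_right h1 Nat.card_pos
  omega

variable (hS : Setup p x s F)
include hS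

/-- For a trivial prime, a member with a Sylow subgroup of rank three has `O_{s'} = 1`. -/
theorem core'_eq_bot_of_triv (ht : IsTriv s G) {J E : Subgroup G} (hJ : Member p x s F J)
    (hE : IsElem3 s E) (hEJ : E ≤ J) : core' s J = ⊥ := by
  haveI := Fact.mk hS.weak.prime
  have hne : core s J ≠ ⊥ := fun e => (h.xPart_avoids hS hJ).1.1.ne_bot
    (le_bot_iff.mp ((xPart_le hJ.2.1).trans e.le))
  have hN : normalizer (core s J : Set G) = J := by
    rcases hJ.1.le_iff.mp (le_normalizer_core s J) with e | e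
    · exact absurd e (h.hyp.normalizer_ne_top hne (h.hyp.ne_top_of_isPGroup (core_isPGroup s J)))
    · exact e
  have := h.hyp.core'_normalizer_eq_bot ht (core_isPGroup s J) hne hE
    (hEJ.trans (le_normalizer_core s J))
  rwa [hN] at this

variable (hH : HubHyp p x s F)
include hH

theorem member_big {M : Subgroup G} (hM : Member p x s F M) : Big x M := by
  obtain ⟨J, hJ⟩ := hH M hM
  rw [h.member_eq_hub hS hM hJ hM rfl]
  exact h.hub_big hS hM hJ

/-- Members sharing an avoiding group are equal. -/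
theorem member_eq {M M' T : Subgroup G} (hT : PureT p x s F T) (hM : Member p x s F M)
    (hTM : T ≤ M) (hM' : Member p x s F M') (hTM' : T ≤ M') : M' = M := by
  obtain ⟨J, hJ⟩ := hH M hM
  rw [h.member_eq_hub hS hM hJ hM rfl]
  exact h.member_eq_hub hS hM hJ hM'
    (h.xPart_eq hS hT hM'.1 hM'.2.1 hTM' hM.1 hM.2.1 hTM)

/-- A member with `O_{s'} = 1` is pinned by `fY` of a Sylow subgroup of `G`. -/
theorem exists_pinned {J : Subgroup G} (hJ : Member p x s F J) (hbot : core' s J = ⊥) :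
    ∃ S : Sylow s G, normalizer (fY s (S : Subgroup G) : Set G) ≤ J ∧
      Pinned J (fY s (S : Subgroup G)) := by
  haveI := Fact.mk hS.weak.prime
  obtain ⟨R, hR, hRJ, hind, hcR, hxY, hRY⟩ :=
    h.hyp.exists_functor hJ.1.1 hJ.2.1 h.pow_eq h.five hS.weak.small hbot
  have hT : PureT p x s F (xPart s x J) := h.pureT_xPart hS hJ
  have hXR : xPart s x J ≤ R := (xPart_le hJ.2.1).trans hcR
  have hpin : Pinned J (fY s R) := fun K hK hle =>
    h.member_eq hS hH hT hJ (h.xPart_avoids hS hJ).2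
      ⟨hK, hle hxY, _, (h.xPart_avoids hS hJ).1, (hXR.trans hRY).trans hle⟩
      ((hXR.trans hRY).trans hle)
  have hne : R ≠ ⊥ := fun e =>
    (h.xPart_avoids hS hJ).1.1.ne_bot (le_bot_iff.mp (hXR.trans e.le))
  obtain ⟨K, hK, hle⟩ := h.hyp.exists_maximal (h.hyp.normalizer_ne_top (fY_ne_bot hR hne)
    (h.hyp.ne_top_of_isPGroup (hR.to_le (fY_le R))))
  have hNJ : normalizer (fY s R : Set G) ≤ J := hpin K hK hle ▸ hle
  obtain ⟨S, hS'⟩ :=
    exists_sylow_of_normalizer_le hR hRJ hind ((normalizer_le_normalizer_fY R).trans hNJ)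
  exact ⟨S, hS'.symm ▸ hNJ, hS'.symm ▸ hpin⟩

/-- Members with `O_{s'} = 1` are equal. -/
theorem functor_members_eq {J J' : Subgroup G} (hJ : Member p x s F J) (hb : core' s J = ⊥)
    (hJ' : Member p x s F J') (hb' : core' s J' = ⊥) : J = J' := by
  haveI := Fact.mk hS.weak.prime
  obtain ⟨S, hN, hpin⟩ := h.exists_pinned hS hH hJ hb
  obtain ⟨S', hN', hpin'⟩ := h.exists_pinned hS hH hJ' hb'
  obtain ⟨g, hg⟩ := MulAction.exists_smul_eq G S S'
  refine h.eq_of_pinned (h.member_big hS hH hJ) (h.member_big hS hH hJ') hpin (g := g) ?_ hN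
  rw [map_fY (MulAut.conj g).injective]
  rw [← hg, Sylow.coe_subgroup_smul] at hpin'
  exact hpin'

end Ctx

end CfsgLib.TwoGenSolv66
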