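import Cfsg.Agent.TwoGenSolv66.HiBig
import Cfsg.Agent.TwoGenSolv66.TypedLow
import Cfsg.Agent.TwoGenSolv66.HighMixed
import Cfsg.Agent.TwoGenSolv66.Unique

/-!
# The kinds of maximal subgroups through `x`

* `bigSet p x` : the strong and the high maximal subgroups; all are big, and there are few.
* outside it, a maximal subgroup with objects at two and at three is low (`p = 5`), and any other has
  objects at one prime only.
* `Ctx.setup_three` : the setup at three.
-/

set_option autoImplicit false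
set_option linter.unusedSectionVars false
set_option linter.unusedVariables false
set_option linter.style.haveILetI false

open scoped commutatorElement Pointwise

namespace CfsgLib.TwoGenSolv66

open Subgroup CfsgLib.SolvSig CfsgLib.Transitivity

universe u

/-- The strong and the high maximal subgroups. -/
noncomputable def bigSet {G : Type*} [Group G] [Finite G] (p : ℕ) (x : G) : Finset (Subgroup G) :=
  (Set.toFinite {L : Subgroup G | IsStrongMember p x L ∨ IsHi x L}).toFinset

variable {G : Type u} [Group G] [Finite G] {p : ℕ} [hp : Fact p.Prime] {x : G}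

theorem mem_bigSet {L : Subgroup G} : L ∈ bigSet p x ↔ IsStrongMember p x L ∨ IsHi x L :=
  Set.Finite.mem_toFinset _

namespace Ctx

variable (h : Ctx G p x)
include h

/-- A high member is strong unless `p = 5`. -/
theorem strong_of_hi (hp5 : p ≠ 5) {L : Subgroup G} (hL : IsHi x L) : IsStrongMember p x L := by
  haveI : Fact (Nat.Prime 2) := ⟨Nat.prime_two⟩
  obtain ⟨R, hR, hRL, hxR, hmv, -⟩ := hL.high
  obtain ⟨hA, hAR⟩ := h.obj_of_moved Nat.prime_two h.two_ne hR hxR hmv
  exact ⟨hL.coatom, hL.mem, 2, _, hA, ⟨Or.inr hL.ntriv, fun e => hp5 e.2⟩, hAR.trans hRL⟩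

theorem big_of_mem_bigSet {L : Subgroup G} (hL : L ∈ bigSet p x) : Big x L := by
  rcases mem_bigSet.mp hL with hs | hh
  · exact ⟨hs.1, h.carrier_subset hs⟩
  by_cases hp5 : p = 5
  · exact h.hi_big hp5 hh
  · exact ⟨hh.coatom, h.carrier_subset (h.strong_of_hi hp5 hh)⟩

/-- For `p = 5` strong members come from the prime three. -/
theorem strong_three (hp5 : p = 5) {L : Subgroup G} (hL : IsStrongMember p x L) :
    ¬ IsTriv 3 G ∧ ∃ A, IsObj p x 3 A ∧ A ≤ L := by
  obtain ⟨-, -, r, A, hA, ⟨hs1, hs2⟩, hAL⟩ := hL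
  have hr := h.obj_lt hA
  have h2 := hA.prime.two_le
  have h4 : r ≠ 4 := fun e => by have := hA.prime; subst e; norm_num at this
  have hr3 : r = 3 := by
    have hne : r ≠ 2 := fun e => hs2 ⟨e, hp5⟩
    omega
  subst hr3
  exact ⟨hs1.resolve_left (by norm_num), A, hA, hAL⟩

theorem strong_five_unique (hp5 : p = 5) {L L' : Subgroup G} (hL : IsStrongMember p x L)
    (hL' : IsStrongMember p x L') : L = L' := by
  obtain ⟨hn, A, hA, hAL⟩ := h.strong_three hp5 hL
  obtain ⟨-, A', hA', hAL'⟩ := h.strong_three hp5 hL'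
  exact h.strong_unique ⟨Or.inr hn, fun e => by norm_num at e⟩ hA hL.1 hL.2.1 hAL hA' hL'.1 hL'.2.1
    hAL'

theorem two_mul_card_bigSet_lt (hp5 : p ≠ 5) : 2 * (bigSet p x).card < p :=
  h.two_mul_card_strong_lt _ fun L hL => (mem_bigSet.mp hL).elim id (h.strong_of_hi hp5)

theorem card_bigSet_le_two (hp5 : p = 5) : (bigSet p x).card ≤ 2 := by
  classical
  have h1 : ((bigSet p x).filter (IsStrongMember p x)).card ≤ 1 := Finset.card_le_one.mpr
    fun a ha b hb => h.strong_five_unique hp5 (Finset.mem_filter.mp ha).2 (Finset.mem_filter.mp hb).2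
  have h2 : ((bigSet p x).filter (IsHi x)).card ≤ 1 := Finset.card_le_one.mpr
    fun a ha b hb => h.hi_unique hp5 (Finset.mem_filter.mp ha).2 (Finset.mem_filter.mp hb).2
  calc (bigSet p x).card ≤ ((bigSet p x).filter (IsStrongMember p x) ∪
        (bigSet p x).filter (IsHi x)).card := Finset.card_le_card fun L hL => by
          rcases mem_bigSet.mp hL with e | e
          · exact Finset.mem_union_left _ (Finset.mem_filter.mpr ⟨hL, e⟩)
          · exact Finset.mem_union_right _ (Finset.mem_filter.mpr ⟨hL, e⟩)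
    _ ≤ _ := Finset.card_union_le _ _
    _ ≤ 2 := by omega

/-- With trivial cores at three there is at most one such subgroup for `p = 5`. -/
theorem hi_of_mem_bigSet (hp5 : p = 5) (ht : IsTriv 3 G) {L : Subgroup G} (hL : L ∈ bigSet p x) :
    IsHi x L :=
  (mem_bigSet.mp hL).resolve_left fun hs => (h.strong_three hp5 hs).1 ht

theorem card_bigSet_le : (bigSet p x).card ≤ p := by
  by_cases hp5 : p = 5
  · have := h.card_bigSet_le_two hp5; omega
  · have := h.two_mul_card_bigSet_lt hp5; omega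

/-- Objects outside the strong members. -/
theorem obj_cases {M : Subgroup G} (hM : IsCoatom M) (hx : x ∈ M) (hns : ¬ IsStrongMember p x M)
    {t : ℕ} {B : Subgroup G} (hB : IsObj p x t B) (hBM : B ≤ M) :
    (t = 2 ∨ t = 3) ∧ Weak p t G := by
  have hns' : ¬ Strong p t G := fun hs => hns ⟨hM, hx, t, B, hB, hs, hBM⟩
  have h2 := hB.prime.two_le
  have h4 : t ≠ 4 := fun e => by have := hB.prime; subst e; norm_num at this
  by_cases h25 : t = 2 ∧ p = 5
  · exact ⟨Or.inl h25.1, hB.prime, hB.ne, by omega, Or.inr h25⟩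
  have h1 : ¬ (5 ≤ t ∨ ¬ IsTriv t G) := fun e => hns' ⟨e, h25⟩
  push Not at h1
  exact ⟨by omega, hB.prime, hB.ne, by omega, Or.inl h1.2⟩

/-- Objects only at two and three make `O_2` or `O_3` nontrivial. -/
theorem core_ne_bot_of_objs {M A : Subgroup G} (hM : IsCoatom M) (hx : x ∈ M)
    (hA : IsObj p x 3 A) (hAM : A ≤ M)
    (hobjs : ∀ t B, IsObj p x t B → B ≤ M → t = 2 ∨ t = 3) : core 2 M ≠ ⊥ ∨ core 3 M ≠ ⊥ := by
  by_contra hno
  push Not at hno
  set K := core' p M
  have hKp : ¬ p ∣ Nat.card K := PLocal.not_dvd_iff_coprime.mp (card_core'_coprime p M)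
  have hn : M ≤ normalizer (K : Set G) := le_normalizer.trans (normalizer_le_normalizer_core' p M)
  refine obj_moved hA (centralizer_le (SetLike.coe_subset_coe.mpr (h.obj_le_core' hA hM.1 hx hAM))
    (le_centralizer_of_cores (isSolvable_of_comm_le (h.hyp.sub M hM.1) (core'_le p M))
      (zpowers_le.mpr (hn hx)) (h.coprime hKp) (fun t ht => ?_) (mem_zpowers x)))
  have hle : core t K ≤ core t M := le_core ((core_le t K).trans (core'_le p M))
    (hn.trans (normalizer_le_normalizer_core t K)) (core_isPGroup t K)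
  rw [zpowers_le]
  rcases eq_or_ne t p with rfl | htp
  · have hbot : core t K = ⊥ := eq_bot_of_card_eq _ <| Nat.eq_one_of_dvd_coprimes
      (a := Nat.card K) (b := Nat.card (core t K)) (by
        obtain ⟨k, hk⟩ := IsPGroup.iff_card.mp (core_isPGroup t K)
        rw [hk]; exact (card_core'_coprime t M).pow_right k) (card_dvd_of_le (core_le t K)) dvd_rfl
    rw [hbot]
    exact mem_centralizer_iff.mpr fun z hz => by rw [mem_bot.mp hz, one_mul, mul_one]
  · by_contra hmv
    obtain ⟨hobj, hle'⟩ := h.obj_of_moved ht htp (core_isPGroup t K)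
      (normalizer_le_normalizer_core t K (hn hx)) hmv
    rcases hobjs t _ hobj ((hle'.trans hle).trans (core_le t M)) with rfl | rfl
    · exact hobj.ne_bot (le_bot_iff.mp ((hle'.trans hle).trans hno.1.le))
    · exact hobj.ne_bot (le_bot_iff.mp ((hle'.trans hle).trans hno.2.le))

variable {M : Subgroup G} (hM : IsCoatom M) (hx : x ∈ M) (hb : M ∉ bigSet p x)
include hM hx hb

/-- Outside `bigSet`, objects at two and three force a low subgroup. -/
theorem mixed_low {A B : Subgroup G} (hA : IsObj p x 3 A) (hAM : A ≤ M) (hB : IsObj p x 2 B)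
    (hBM : B ≤ M) : p = 5 ∧ ¬ HighIn x M ∧ IsTriv 3 G := by
  have hns : ¬ IsStrongMember p x M := fun e => hb (mem_bigSet.mpr (Or.inl e))
  have ht3 : IsTriv 3 G := (h.obj_cases hM hx hns hA hAM).2.case.resolve_right fun e => by
    norm_num at e
  have hlow : ¬ HighIn x M := fun hh => by
    by_cases ht2 : IsTriv 2 G
    · exact h.false_of_high_mixed_core ht2 ht3 hM hx hA hAM hh
        (h.core_ne_bot_of_objs hM hx hA hAM fun t C hC hCM => (h.obj_cases hM hx hns hC hCM).1)
    · exact hb (mem_bigSet.mpr (Or.inr ⟨hM, hx, ht2, hh⟩))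
  refine ⟨?_, hlow, ht3⟩
  by_contra hp5
  haveI : Fact (Nat.Prime 2) := ⟨Nat.prime_two⟩
  exact hlow ⟨B, hB.isPGroup, hBM, hB.inv, obj_moved hB, h.obj_rank hB fun e => hp5 e.2⟩

/-- Without objects at the other prime it is single. -/
theorem single_of_no_other {s o : ℕ} (hso : s = 2 ∧ o = 3 ∨ s = 3 ∧ o = 2) {A : Subgroup G}
    (hA : IsObj p x s A) (hAM : A ≤ M) (hno : ∀ B, IsObj p x o B → ¬ B ≤ M) :
    Single p x s M := by
  have hns : ¬ IsStrongMember p x M := fun e => hb (mem_bigSet.mpr (Or.inl e))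
  refine ⟨hM, hx, (h.obj_cases hM hx hns hA hAM).2, ⟨A, hA, hAM⟩, fun t B hB hBM => ?_⟩
  rcases (h.obj_cases hM hx hns hB hBM).1 with e | e <;> subst e <;>
    rcases hso with ⟨rfl, rfl⟩ | ⟨rfl, rfl⟩
  all_goals first
    | rfl
    | exact absurd hBM (hno B hB)

omit hM hx hb in
/-- The setup at three. -/
theorem setup_three (ht : IsTriv 3 G) : Setup p x 3 (bigSet p x) := by
  refine ⟨⟨Nat.prime_three, by have := h.five; omega, by norm_num, Or.inl ht⟩,
    fun L hL => h.big_of_mem_bigSet hL, h.card_bigSet_le, fun A hA _ => ht, ?_⟩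
  rintro M hM hx ⟨A, hA, hAM⟩
  have hb : M ∉ bigSet p x := fun e => hA.2 M e hAM
  by_cases hB : ∃ B, IsObj p x 2 B ∧ B ≤ M
  · obtain ⟨B, hB, hBM⟩ := hB
    obtain ⟨hp5, hlow, -⟩ := h.mixed_low hM hx hb hA.1 hAM hB hBM
    exact h.typed_of_low hp5 hM hx hB hBM hlow
  · push Not at hB
    exact h.single_typed (h.single_of_no_other hM hx hb (Or.inr ⟨rfl, rfl⟩) hA.1 hAM hB)

end Ctx

end CfsgLib.TwoGenSolv66
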