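import Cfsg.Agent.TwoGenSolv66.FaithfulTools
import Cfsg.Agent.OddOrder.BG1Stab

/-!
# Moved two-groups acting faithfully on at most `3 ^ 4` points: the moved minimal subgroup

* the prime is 5 or 13 and the fixed points on the module are small;
* a minimal moved subgroup has squares and commutators in its fixed subgroup, which is its centre.
-/

set_option autoImplicit false
set_option linter.unusedSectionVars false
set_option linter.unusedVariables false
set_option linter.style.haveILetI false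

open scoped commutatorElement

namespace CfsgLib.TwoGenSolv66.Faithful

open Subgroup CfsgLib.SolvSig CfsgLib.Transitivity

variable {G : Type*} [Group G] [Finite G]

/-- The plane of a point under an element whose square inverts. -/
theorem plane_spec {U : Subgroup G} (hU : Cfsg.IsElementaryAbelian 3 U) {c : G}
    (hc : c ∈ normalizer (U : Set G)) (hc2 : ∀ v ∈ U, c * c * v * (c * c)⁻¹ = v⁻¹) {u : G}
    (hu : u ∈ U) (hu1 : u ≠ 1) :
    zpowers u ⊔ zpowers (c * u * c⁻¹) ≤ U ∧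
      Nat.card ↥(zpowers u ⊔ zpowers (c * u * c⁻¹)) = 9 ∧
      ∀ x ∈ zpowers u ⊔ zpowers (c * u * c⁻¹), c * x * c⁻¹ ∈ zpowers u ⊔ zpowers (c * u * c⁻¹) := by
  haveI : Fact (Nat.Prime 3) := ⟨Nat.prime_three⟩
  set w := c * u * c⁻¹ with hw
  have hwU : w ∈ U := (mem_normalizer_iff.mp hc u).mp hu
  have hw1 : w ≠ 1 := fun h => hu1 (by simpa [hw] using h)
  have hou : orderOf u = 3 := orderOf_eq_prime (hU.2 u hu) hu1
  have how : orderOf w = 3 := orderOf_eq_prime (hU.2 w hwU) hw1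
  have hcw : c * w * c⁻¹ = u⁻¹ := by
    rw [← hc2 u hu, hw]; group
  have hdis : zpowers u ⊓ zpowers w = ⊥ := by
    rw [eq_bot_iff]
    rintro x ⟨hxu, hxw⟩
    rw [mem_bot]
    by_contra hx1
    have hwu : w ∈ zpowers u := by
      have h1 : zpowers x = zpowers w := eq_of_le_of_card_ge (zpowers_le.mpr hxw) (by
        rw [Nat.card_zpowers, Nat.card_zpowers, how, orderOf_eq_prime (hU.2 x ((zpowers_le.mpr hu) hxu)) hx1])
      exact (zpowers_le.mpr hxu) (h1.ge (mem_zpowers w))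
    obtain ⟨i, hi⟩ := mem_zpowers_iff.mp hwu
    have h2 : c * w * c⁻¹ = u ^ (i * i) := by
      rw [← hi, ← conj_zpow, ← hw, ← hi, ← zpow_mul]
    rw [hcw, eq_comm, ← mul_eq_one_iff_eq_inv, ← zpow_add_one, ← orderOf_dvd_iff_zpow_eq_one,
      hou, Int.dvd_iff_emod_eq_zero, Int.add_emod, Int.mul_emod] at h2
    have h4 := Int.emod_nonneg i (show (3 : ℤ) ≠ 0 by norm_num)
    have h5 := Int.emod_lt_of_pos i (show (0 : ℤ) < 3 by norm_num)
    push_cast at h2
    generalize i % 3 = r at h2 h4 h5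
    interval_cases r <;> norm_num at h2
  have hle : zpowers u ⊔ zpowers w ≤ U := sup_le (zpowers_le.mpr hu) (zpowers_le.mpr hwU)
  have hn : zpowers w ≤ normalizer ((zpowers u : Subgroup G) : Set G) := by
    rw [zpowers_le]
    refine centralizer_le_normalizer _ ?_
    rw [← centralizer_singleton_eq]
    exact mem_centralizer_singleton_iff.mpr (commute_of_mem hU.1 hwU hu).eq
  refine ⟨hle, by rw [Coprime.card_sup_eq hn hdis, Nat.card_zpowers, Nat.card_zpowers, hou, how], ?_⟩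
  intro x hx
  obtain ⟨_, ⟨i, rfl⟩, _, ⟨j, rfl⟩, rfl⟩ := Coprime.exists_mul_of_mem_sup hn hx
  rw [show c * (u ^ i * w ^ j) * c⁻¹ = (c * u ^ i * c⁻¹) * (c * w ^ j * c⁻¹) by group, ← conj_zpow,
    ← conj_zpow, ← hw, hcw]
  exact mul_mem (mem_sup_right (zpow_mem (mem_zpowers w) i))
    (mem_sup_left (zpow_mem (inv_mem (mem_zpowers u)) j))

/-- A 2-group acting faithfully on at most `3 ^ 4` points and moved by an element of order `p ≥ 5`. -/
structure Data (p : ℕ) (y : G) (V R : Subgroup G) : Prop where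
  hp5 : 5 ≤ p
  hy : y ^ p = 1
  hV : Cfsg.IsElementaryAbelian 3 V
  hV4 : Nat.card V ≤ 3 ^ 4
  hR : IsPGroup 2 R
  hRV : R ≤ normalizer (V : Set G)
  hyV : y ∈ normalizer (V : Set G)
  hyR : y ∈ normalizer (R : Set G)
  hf : R ⊓ centralizer (V : Set G) = ⊥
  hmv : y ∉ centralizer (R : Set G)

variable {p : ℕ} [hp : Fact p.Prime] {y : G} {V R : Subgroup G}

section
variable (h : Data p y V R)
include h

theorem Data.eq_one {r : G} (hr : r ∈ R) (hfix : ∀ v ∈ V, r * v * r⁻¹ = v) : r = 1 := by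
  have : r ∈ R ⊓ centralizer (V : Set G) :=
    ⟨hr, mem_centralizer_iff.mpr fun v hv => (mul_inv_eq_iff_eq_mul.mp (hfix v hv)).symm⟩
  rwa [h.hf, mem_bot] at this

theorem Data.inv_unique {s t : G} (hs : s ∈ R) (ht : t ∈ R) (hs' : ∀ v ∈ V, s * v * s⁻¹ = v⁻¹)
    (ht' : ∀ v ∈ V, t * v * t⁻¹ = v⁻¹) : s = t := by
  refine (inv_mul_eq_one.mp (h.eq_one (mul_mem (inv_mem ht) hs) fun v hv => ?_)).symm
  rw [show t⁻¹ * s * v * (t⁻¹ * s)⁻¹ = t⁻¹ * (s * v * s⁻¹) * t by group, hs' v hv, ← ht' v hv]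
  group

theorem Data.ne_two : 2 ≠ p := fun e => by have := h.hp5; omega

theorem Data.ne_three : 3 ≠ p := fun e => by have := h.hp5; omega

theorem Data.moved_V : y ∉ centralizer (V : Set G) := by
  intro hc
  refine h.hmv (mem_centralizer_iff.mpr fun r hr => ?_)
  refine (commutatorElement_eq_one_iff_mul_comm.mp (h.eq_one ?_ fun v hv => ?_)).symm
  · rw [commutatorElement_def]
    exact mul_mem ((mem_normalizer_iff.mp h.hyR r).mp hr) (inv_mem hr)
  · have hfix : ∀ x ∈ V, y * x * y⁻¹ = x := fun x hx =>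
      mul_inv_eq_iff_eq_mul.mpr (mem_centralizer_iff.mp hc x hx).symm
    have hfix' : ∀ x ∈ V, y⁻¹ * x * y = x := fun x hx => by
      conv_lhs => rw [← hfix x hx]
      group
    have hw : r⁻¹ * v * r ∈ V := by
      simpa using (mem_normalizer_iff.mp (inv_mem (h.hRV hr)) v).mp hv
    have e1 : ⁅y, r⁆ * v * ⁅y, r⁆⁻¹ = y * (r * (y⁻¹ * (r⁻¹ * v * r) * y) * r⁻¹) * y⁻¹ := by
      rw [commutatorElement_def]; group
    rw [e1, hfix' _ hw, show r * (r⁻¹ * v * r) * r⁻¹ = v by group, hfix v hv]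

/-- The prime is 5 or 13, and the fixed points are few. -/
theorem Data.cases :
    (p = 5 ∧ Nat.card V = 81 ∧ V ⊓ centralizer ({y} : Set G) = ⊥) ∨
      (p = 13 ∧ Nat.card V = 27 * Nat.card ↥(V ⊓ centralizer ({y} : Set G)) ∧
        Nat.card ↥(V ⊓ centralizer ({y} : Set G)) ≤ 3) := by
  haveI : Fact (Nat.Prime 3) := ⟨Nat.prime_three⟩
  obtain ⟨n, j, hn, hj, hlt, hd⟩ := exists_dvd_pow_sub_one h.hy h.ne_three (isPGroup_of_elab h.hV)
    h.hyV h.moved_V
  have hn4 : n ≤ 4 := (Nat.pow_le_pow_iff_right (by norm_num)).mp (hn ▸ h.hV4)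
  have hp5 := h.hp5
  obtain ⟨m, hm, rfl⟩ : ∃ m, 0 < m ∧ n = j + m := ⟨n - j, by omega, by omega⟩
  rw [Nat.add_sub_cancel_left] at hd
  have hm4 : m ≤ 4 := by omega
  interval_cases m
  · have := Nat.le_of_dvd (by norm_num) hd; norm_num at this; omega
  · have h1 := Nat.le_of_dvd (by norm_num) hd; norm_num at h1
    interval_cases p <;> first | (apply absurd hd; norm_num; done) | (apply absurd hp.out; decide)
  · right
    have h1 := Nat.le_of_dvd (by norm_num) hd; norm_num at h1 hd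
    have hp13 : p = 13 := by
      interval_cases p <;> first | rfl | (apply absurd hd; norm_num; done) | (apply absurd hp.out; decide)
    subst hp13
    refine ⟨rfl, by rw [hn, hj, pow_add, mul_comm]; norm_num, ?_⟩
    rw [hj]
    exact Nat.le_trans (Nat.pow_le_pow_right (by norm_num) (show j ≤ 1 by omega)) (by norm_num)
  · left
    have h1 := Nat.le_of_dvd (by norm_num) hd; norm_num at h1 hd
    have hj0 : j = 0 := by omega
    have hp' : p = 5 := by
      have hd' : p ∣ 2 ^ 4 * 5 := by norm_num; exact hd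
      rcases hp.out.dvd_mul.mp hd' with h' | h'
      · have := Nat.le_of_dvd (by norm_num) (hp.out.dvd_of_dvd_pow h'); omega
      · exact (Nat.prime_dvd_prime_iff_eq hp.out (by norm_num)).mp h'
    subst hp'
    exact ⟨rfl, by rw [hn, hj0]; norm_num, card_eq_one.mp (by rw [hj, hj0, pow_zero])⟩

/-- A fixed-point-free invariant part is zero or of full size. -/
theorem Data.invariant_card {W : Subgroup G} (hW : W ≤ V) (hn : y ∈ normalizer (W : Set G))
    (h0 : W ⊓ centralizer ({y} : Set G) = ⊥) {m : ℕ}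
    (hm : ∀ k, 0 < k → k ≤ 4 → p ∣ 3 ^ k - 1 → k = m) : W = ⊥ ∨ Nat.card W = 3 ^ m := by
  haveI : Fact (Nat.Prime 3) := ⟨Nat.prime_three⟩
  have hp3 : IsPGroup 3 W := (isPGroup_of_elab h.hV).to_le hW
  by_cases hmv : y ∈ centralizer (W : Set G)
  · left
    refine le_antisymm (le_trans (le_inf le_rfl fun w hw => ?_) h0.le) bot_le
    exact mem_centralizer_singleton_iff.mpr (mem_centralizer_iff.mp hmv w hw)
  · right
    obtain ⟨n, j, hn', hj, hlt, hd⟩ := exists_dvd_pow_sub_one h.hy h.ne_three hp3 hn hmv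
    rw [h0, card_bot] at hj
    obtain rfl : j = 0 := (Nat.pow_eq_one.mp hj.symm).resolve_left (by norm_num)
    rw [Nat.sub_zero] at hd
    have hn4 : n ≤ 4 := (Nat.pow_le_pow_iff_right (by norm_num)).mp
      (hn' ▸ (Subgroup.card_le_of_le hW).trans h.hV4)
    rw [hn', hm n hlt hn4 hd]

/-- With `p = 5` the module is irreducible. -/
theorem Data.irreducible (h5 : p = 5) {W : Subgroup G} (hW : W ≤ V)
    (hn : y ∈ normalizer (W : Set G)) : W = ⊥ ∨ W = V := by
  subst h5
  obtain ⟨-, hV, h0⟩ | ⟨h13, -⟩ := h.cases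
  · have h0' : W ⊓ centralizer ({y} : Set G) = ⊥ := eq_bot_iff.mpr
      (le_trans (inf_le_inf_right _ hW) h0.le)
    refine (h.invariant_card hW hn h0' (m := 4) ?_).imp id fun h1 =>
      eq_of_le_of_card_ge hW (by rw [h1, hV]; norm_num)
    intro k hk hk4 hd
    interval_cases k <;> first | rfl | (apply absurd hd; norm_num; done)
  · norm_num at h13

theorem Data.inverts_of_five (h5 : p = 5) {s : G} (hs : s ∈ R) (hs2 : s * s = 1) (hsy : Commute s y)
    (hs1 : s ≠ 1) : ∀ v ∈ V, s * v * s⁻¹ = v⁻¹ := by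
  have hn : y ∈ normalizer ((V ⊓ centralizer ({s} : Set G) : Subgroup G) : Set G) :=
    LocalStructure.mem_normalizer_of_forall fun x hx => mem_inf.mpr
      ⟨(mem_normalizer_iff.mp h.hyV x).mp hx.1, by
        rw [mem_centralizer_singleton_iff]
        have h1 : Commute x s := mem_centralizer_singleton_iff.mp hx.2
        exact ((hsy.symm.mul_left h1).mul_left hsy.symm.inv_left).eq⟩
  rcases h.irreducible h5 inf_le_left hn with h0 | h0
  · intro v hv
    obtain ⟨w, hw, u, hu, rfl⟩ := involution_split h.hV hs2 (h.hRV hs) hv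
    rw [h0, mem_bot] at hw
    rw [hw, one_mul]
    exact hu.2
  · exact absurd (h.eq_one hs fun v hv => mem_fix.mp (h0.ge hv).2) hs1

/-- An invariant elementary abelian subgroup is centralised. -/
theorem Data.elem_fixed {B : Subgroup G} (hB : B ≤ R) (hBe : Cfsg.IsElementaryAbelian 2 B)
    (hn : y ∈ normalizer (B : Set G)) : y ∈ centralizer (B : Set G) := by
  haveI : Fact (Nat.Prime 2) := ⟨Nat.prime_two⟩
  by_contra hmv
  have hf : B ⊓ centralizer (V : Set G) = ⊥ := eq_bot_iff.mpr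
    (le_trans (inf_le_inf_right _ hB) h.hf.le)
  have h16 := elem_card_le_sixteen h.hV h.hV4 hBe (hB.trans h.hRV) hf
  obtain ⟨n, j, hn', hj, hlt, hd⟩ := exists_dvd_pow_sub_one h.hy h.ne_two (h.hR.to_le hB) hn hmv
  have hn4 : n ≤ 4 := (Nat.pow_le_pow_iff_right (by norm_num : 1 < 2)).mp
    (show 2 ^ n ≤ 2 ^ 4 by rw [← hn']; exact h16)
  have hp' : p = 5 ∨ p = 13 := h.cases.imp (fun x => x.1) fun x => x.1
  have hnj : n = 4 ∧ j = 0 := by
    have : ∀ m, 0 < m → m ≤ 4 → p ∣ 2 ^ m - 1 → m = 4 := by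
      intro m hm hm4 hdm
      rcases hp' with rfl | rfl <;> interval_cases m <;> first | rfl | (apply absurd hdm; norm_num; done)
    have := this (n - j) (by omega) (by omega) hd
    omega
  obtain ⟨e, he, hinv⟩ := exists_inverting h.hV h.hV4 hBe (hB.trans h.hRV) hf
    (by rw [hn', hnj.1]; norm_num)
  have hye : y * e * y⁻¹ = e := by
    refine h.inv_unique ((mem_normalizer_iff.mp h.hyR e).mp (hB he)) (hB he) (fun v hv => ?_) hinv
    have hw : y⁻¹ * v * y ∈ V := by
      simpa using (mem_normalizer_iff.mp (inv_mem h.hyV) v).mp hv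
    rw [show y * e * y⁻¹ * v * (y * e * y⁻¹)⁻¹ = y * (e * (y⁻¹ * v * y) * e⁻¹) * y⁻¹ by group,
      hinv _ hw]
    group
  have he1 : e = 1 := by
    have hm : e ∈ B ⊓ centralizer ({y} : Set G) := ⟨he, mem_fix.mpr hye⟩
    rwa [card_eq_one.mp (show Nat.card ↥(B ⊓ centralizer ({y} : Set G)) = 1 by
      rw [hj, hnj.2, pow_zero]), mem_bot] at hm
  refine h.moved_V (mem_centralizer_iff.mpr fun v hv => ?_)
  have h1 := hinv v hv
  rw [he1, one_mul, inv_one, mul_one] at h1
  have hv1 : v = 1 := eq_one_of_inv_eq h.hV hv (by nth_rewrite 1 [h1]; exact inv_mul_cancel v)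
  rw [hv1, one_mul, mul_one]

end

/-- A minimal moved subgroup. -/
structure MinMoved (p : ℕ) (y : G) (V R Q : Subgroup G) : Prop where
  data : Data p y V R
  le : Q ≤ R
  inv : y ∈ normalizer (Q : Set G)
  moved : y ∉ centralizer (Q : Set G)
  min : ∀ S : Subgroup G, S < Q → y ∈ normalizer (S : Set G) → y ∈ centralizer (S : Set G)

theorem Data.exists_minMoved (h : Data p y V R) : ∃ Q, MinMoved p y V R Q := by
  obtain ⟨Q, hQ, hmin⟩ := Set.Finite.exists_minimal
    (s := {Q : Subgroup G | Q ≤ R ∧ y ∈ normalizer (Q : Set G) ∧ y ∉ centralizer (Q : Set G)})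
    (Set.toFinite _) ⟨R, le_rfl, h.hyR, h.hmv⟩
  refine ⟨Q, h, hQ.1, hQ.2.1, hQ.2.2, fun S hS hn => ?_⟩
  by_contra hc
  exact hS.not_ge (hmin ⟨hS.le.trans hQ.1, hn, hc⟩ hS.le)

namespace MinMoved

variable {Q : Subgroup G} (m : MinMoved p y V R Q)
include m

theorem isPGroup : IsPGroup 2 Q := m.data.hR.to_le m.le

theorem conj_mem {x : G} (hx : x ∈ Q) : y * x * y⁻¹ ∈ Q := (mem_normalizer_iff.mp m.inv x).mp hx

/-- An invariant subgroup containing the commutators with `y` is everything. -/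
theorem eq_of_comm_mem {S : Subgroup G} (hS : S ≤ Q) (hn : y ∈ normalizer (S : Set G))
    (hc : ∀ x ∈ Q, ⁅y, x⁆ ∈ S) : S = Q := by
  by_contra hne
  haveI : Fact (Nat.Prime 2) := ⟨Nat.prime_two⟩
  have hfix := m.min S (lt_of_le_of_ne hS hne) hn
  exact m.moved (mem_centralizer_of_stab m.data.hy m.data.ne_two m.isPGroup m.inv fun x hx =>
    (mem_centralizer_iff.mp hfix _ (hc x hx)).symm)

theorem not_comm : ∃ a ∈ Q, ∃ b ∈ Q, ⁅a, b⁆ ≠ 1 := by
  by_contra! hall
  have hab : ∀ a ∈ Q, ∀ b ∈ Q, Commute a b := fun a ha b hb =>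
    commutatorElement_eq_one_iff_commute.mp (hall a ha b hb)
  let B : Subgroup G :=
    { carrier := {x | x ∈ Q ∧ x * x = 1}
      one_mem' := ⟨one_mem _, one_mul 1⟩
      mul_mem' := fun {a b} ha hb => ⟨mul_mem ha.1 hb.1, by
        rw [(hab b hb.1 a ha.1).mul_mul_mul_comm, ha.2, hb.2, one_mul]⟩
      inv_mem' := fun {a} ha => ⟨inv_mem ha.1, by rw [← mul_inv_rev, ha.2, inv_one]⟩ }
  have hBe : Cfsg.IsElementaryAbelian 2 B := ⟨⟨⟨fun a b => Subtype.ext (hab a a.2.1 b b.2.1).eq⟩⟩,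
    fun a ha => by rw [pow_two]; exact ha.2⟩
  have hfix := m.data.elem_fixed (fun x (hx : x ∈ B) => m.le hx.1) hBe
    (LocalStructure.mem_normalizer_of_forall fun x hx => ⟨m.conj_mem hx.1, by
      rw [show y * x * y⁻¹ * (y * x * y⁻¹) = y * (x * x) * y⁻¹ by group, hx.2]; group⟩)
  haveI : Fact (Nat.Prime 2) := ⟨Nat.prime_two⟩
  haveI : IsMulCommutative Q := ⟨⟨fun a b => Subtype.ext (hab a a.2 b b.2).eq⟩⟩
  refine m.moved (Coprime.le_centralizer_of_forall_prime_order (zpowers_le.mpr m.inv)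
    (coprime_zpowers m.data.hy m.data.ne_two m.isPGroup) (fun v hv hpr => ?_) (mem_zpowers y))
  obtain ⟨k, hk⟩ := m.isPGroup.exists_orderOf_eq_pow ⟨v, hv⟩
  rw [Subgroup.orderOf_mk] at hk
  have hv2 : orderOf v = 2 :=
    (Nat.prime_dvd_prime_iff_eq hpr Nat.prime_two).mp (hpr.dvd_of_dvd_pow hk.dvd)
  rw [← centralizer_singleton_eq]
  exact mem_centralizer_singleton_iff.mpr (mem_centralizer_iff.mp hfix v
    ⟨hv, by rw [← pow_two, ← hv2, pow_orderOf_eq_one]⟩)

/-- Squares and commutators are fixed. -/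
theorem frattini_fixed {a b : G} (ha : a ∈ Q) (hb : b ∈ Q) :
    a * a ∈ centralizer ({y} : Set G) ∧ ⁅a, b⁆ ∈ centralizer ({y} : Set G) := by
  haveI : Fact (Nat.Prime 2) := ⟨Nat.prime_two⟩
  haveI : Nontrivial Q := by
    obtain ⟨c, hc, d, hd, hne⟩ := m.not_comm
    exact ⟨⟨⟨⁅c, d⁆, by
      rw [commutatorElement_def]; exact mul_mem (mul_mem (mul_mem hc hd) (inv_mem hc)) (inv_mem hd)⟩,
      1, fun e => hne (congrArg Subtype.val e)⟩⟩
  obtain ⟨hcm, hpw, hne⟩ := OddOrder.Stab.frattini_facts (P := Q) (p := 2) m.isPGroup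
  set F := (frattini Q).map Q.subtype
  have hlt : F < Q := lt_of_le_of_ne (map_subtype_le _) fun e => hne inferInstance (by
    rw [eq_top_iff]
    intro x _
    obtain ⟨x', hx', hxe⟩ := e.ge x.2
    rwa [← Subtype.ext (a1 := x') (a2 := x) hxe])
  have hfix := m.min F hlt (Components.normalizer_le_normalizer_map_subtype Q (frattini Q) m.inv)
  exact ⟨mem_centralizer_singleton_iff.mpr (mem_centralizer_iff.mp hfix _
      ⟨⟨a, ha⟩ ^ 2, hpw _, by simp [pow_two]⟩),
    mem_centralizer_singleton_iff.mpr (mem_centralizer_iff.mp hfix _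
      ⟨⁅(⟨a, ha⟩ : Q), ⟨b, hb⟩⁆, hcm _ _, rfl⟩)⟩

/-- The fixed points are central. -/
theorem fixed_central {d : G} (hd : d ∈ Q) (hdy : d ∈ centralizer ({y} : Set G)) {x : G}
    (hx : x ∈ Q) : Commute d x := by
  have hS : Q ⊓ centralizer ({d} : Set G) = Q := by
    refine m.eq_of_comm_mem inf_le_left (LocalStructure.mem_normalizer_of_forall fun w hw => mem_inf.mpr
      ⟨m.conj_mem hw.1, ?_⟩) fun w hw => mem_inf.mpr ⟨?_, ?_⟩
    · rw [mem_centralizer_singleton_iff]
      have h1 : Commute w d := mem_centralizer_singleton_iff.mp hw.2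
      have h2 : Commute d y := mem_centralizer_singleton_iff.mp hdy
      exact ((h2.symm.mul_left h1).mul_left h2.symm.inv_left).eq
    · rw [commutatorElement_def]
      exact mul_mem (m.conj_mem hw) (inv_mem hw)
    · have h1 : w⁻¹ * d * w ∈ centralizer ({y} : Set G) := by
        have h2 : ⁅w⁻¹, d⁆ * d = w⁻¹ * d * w := by rw [commutatorElement_def]; group
        rw [← h2]
        exact mul_mem (m.frattini_fixed (inv_mem hw) hd).2 hdy
      have h3 := mem_fix.mp h1
      have h4 := mem_fix.mp hdy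
      rw [mem_fix, commutatorElement_def]
      -- `d` commutes with `y w y⁻¹ w⁻¹`
      have h5 : (y * w * y⁻¹)⁻¹ * d * (y * w * y⁻¹) = w⁻¹ * d * w := by
        conv_rhs => rw [← h3]
        conv_lhs => rw [← h4]
        group
      rw [mul_inv_eq_iff_eq_mul]
      calc d * (y * w * y⁻¹ * w⁻¹)
          = (y * w * y⁻¹) * ((y * w * y⁻¹)⁻¹ * d * (y * w * y⁻¹)) * w⁻¹ := by group
        _ = _ := by rw [h5]; group
  exact (mem_centralizer_singleton_iff.mp (hS.ge hx).2).symm

/-- The centre is fixed. -/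
theorem central_fixed {d : G} (hd : d ∈ Q) (hc : ∀ x ∈ Q, Commute d x) :
    d ∈ centralizer ({y} : Set G) := by
  set Z := Q ⊓ centralizer (Q : Set G)
  have hlt : Z < Q := lt_of_le_of_ne inf_le_left fun e => by
    obtain ⟨a, ha, b, hb, hne⟩ := m.not_comm
    exact hne (commutatorElement_eq_one_iff_mul_comm.mpr (mem_centralizer_iff.mp (e.ge hb).2 a ha))
  have hn : y ∈ normalizer (Z : Set G) :=
    ((le_inf le_rfl (CharPLocal.normalizer_le_normalizer_centralizer Q)).trans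
      inf_normalizer_le_normalizer_inf) m.inv
  exact mem_centralizer_singleton_iff.mpr (mem_centralizer_iff.mp (m.min Z hlt hn) d
    ⟨hd, mem_centralizer_iff.mpr fun x hx => (hc x hx).eq.symm⟩)

theorem comm_sq {a b : G} (ha : a ∈ Q) (hb : b ∈ Q) : ⁅a, b⁆ * ⁅a, b⁆ = 1 := by
  have hab : ⁅a, b⁆ ∈ Q := by
    rw [commutatorElement_def]; exact mul_mem (mul_mem (mul_mem ha hb) (inv_mem ha)) (inv_mem hb)
  have h1 := m.fixed_central hab (m.frattini_fixed ha hb).2 ha
  rw [← commutatorElement_mul_left_of_central h1.symm]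
  exact commutatorElement_eq_one_iff_commute.mpr
    (m.fixed_central (mul_mem ha ha) (m.frattini_fixed ha ha).1 hb)

/-- The order of the quotient by the fixed points. -/
theorem card_exponents : ∃ n j : ℕ, Nat.card Q = 2 ^ n ∧
    Nat.card ↥(Q ⊓ centralizer ({y} : Set G)) = 2 ^ j ∧ j < n ∧ p ∣ 2 ^ (n - j) - 1 := by
  haveI : Fact (Nat.Prime 2) := ⟨Nat.prime_two⟩
  exact exists_dvd_pow_sub_one m.data.hy m.data.ne_two m.isPGroup m.inv m.moved

/-- Over the fixed points an abelian subgroup of index two is impossible. -/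
theorem false_of_abelian_index_two {A : Subgroup G} (hAQ : A ≤ Q)
    (hab : ∀ a ∈ A, ∀ b ∈ A, Commute a b) (hidx : Nat.card Q ≤ 2 * Nat.card A)
    (hbig : 16 * Nat.card ↥(Q ⊓ centralizer ({y} : Set G)) ≤ Nat.card Q)
    {Z : Subgroup G} (hZ2 : Nat.card Z ≤ 2) (hZ : Z ≤ Q ⊓ centralizer ({y} : Set G))
    (hcm : ∀ a ∈ Q, ∀ b ∈ Q, ⁅a, b⁆ ∈ Z) : False := by
  haveI : Fact (Nat.Prime 2) := ⟨Nat.prime_two⟩
  set A' := A ⊔ Z
  have hA'Q : A' ≤ Q := sup_le hAQ (hZ.trans inf_le_left)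
  have hZc : ∀ z ∈ Z, ∀ x ∈ Q, Commute z x := fun z hz x hx => m.fixed_central (hZ hz).1 (hZ hz).2 hx
  have hn : Z ≤ normalizer (A : Set G) := fun z hz => centralizer_le_normalizer _
    (mem_centralizer_iff.mpr fun a ha => (hZc z hz a (hAQ ha)).symm.eq)
  have hab' : ∀ a ∈ A', ∀ b ∈ A', Commute a b := by
    intro x hx w hw
    obtain ⟨a, ha, z, hz, rfl⟩ := Coprime.exists_mul_of_mem_sup hn hx
    obtain ⟨b, hb, z', hz', rfl⟩ := Coprime.exists_mul_of_mem_sup hn hw
    exact ((hab a ha b hb).mul_right (hZc z' hz' a (hAQ ha)).symm).mul_left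
      ((hZc z hz b (hAQ hb)).mul_right (hZc z hz z' (hZ hz').1))
  by_cases hfull : Q ≤ A'
  · obtain ⟨a, ha, b, hb, hne⟩ := m.not_comm
    exact hne (commutatorElement_eq_one_iff_commute.mpr (hab' a (hfull ha) b (hfull hb)))
  obtain ⟨q, hq, hqA⟩ := SetLike.not_le_iff_exists.mp hfull
  have h1 := card_le_of_commutator (C := A') (V := Z) (b := q) le_sup_right
    (fun x hx => mem_centralizer_iff.mpr fun z hz => (hZc z hz x (hA'Q hx)).eq)
    fun c hc => hcm c (hA'Q hc) q hq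
  have hgen : A' ⊔ zpowers q = Q := by
    refine eq_of_le_of_card_ge (sup_le hA'Q (zpowers_le.mpr hq)) ?_
    obtain ⟨i, hi⟩ := IsPGroup.iff_card.mp (m.isPGroup.to_le hA'Q)
    obtain ⟨k, hk⟩ := IsPGroup.iff_card.mp (m.isPGroup.to_le
      (sup_le hA'Q (zpowers_le.mpr hq) : A' ⊔ zpowers q ≤ Q))
    have hlt : Nat.card A' < Nat.card ↥(A' ⊔ zpowers q) := Set.ncard_lt_ncard
      (SetLike.coe_ssubset_coe.mpr (lt_of_le_of_ne le_sup_left fun e =>
        hqA (e.ge (mem_sup_right (mem_zpowers q))))) (Set.toFinite _)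
    rw [hi, hk] at hlt
    have hik := (Nat.pow_lt_pow_iff_right (by norm_num : 1 < 2)).mp hlt
    calc Nat.card Q ≤ 2 * Nat.card A' :=
          hidx.trans (Nat.mul_le_mul_left 2 (Subgroup.card_le_of_le le_sup_left))
      _ = 2 ^ (i + 1) := by rw [hi, pow_succ, mul_comm]
      _ ≤ _ := hk ▸ Nat.pow_le_pow_right (by norm_num) hik
  have h2 : A' ⊓ centralizer ({q} : Set G) ≤ Q ⊓ centralizer ({y} : Set G) := by
    rintro c ⟨hcA, hcq⟩
    refine ⟨hA'Q hcA, m.central_fixed (hA'Q hcA) fun x hx => ?_⟩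
    have hle : A' ⊔ zpowers q ≤ centralizer ({c} : Set G) := sup_le
      (fun a ha => mem_centralizer_singleton_iff.mpr (hab' a ha c hcA).eq)
      (zpowers_le.mpr (mem_centralizer_singleton_iff.mpr (mem_centralizer_singleton_iff.mp hcq).symm))
    exact (mem_centralizer_singleton_iff.mp (hle (hgen.ge hx))).symm
  have h3 : Nat.card A ≤ Nat.card A' := Subgroup.card_le_of_le (le_sup_left : A ≤ A')
  have h4 := Subgroup.card_le_of_le h2
  have h5 : Nat.card ↥(A' ⊓ centralizer ({q} : Set G)) * Nat.card Z ≤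
      Nat.card ↥(Q ⊓ centralizer ({y} : Set G)) * 2 := Nat.mul_le_mul h4 hZ2
  have : 0 < Nat.card ↥(Q ⊓ centralizer ({y} : Set G)) := Nat.card_pos
  omega

end MinMoved

end CfsgLib.TwoGenSolv66.Faithful
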