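import Cfsg.Agent.TwoGenSolv66.FaithfulCore

/-!
# Moved two-groups acting faithfully on at most `3 ^ 4` points: no element of order 13
-/

set_option autoImplicit false
set_option linter.unusedSectionVars false
set_option linter.unusedVariables false
set_option linter.style.haveILetI false

open scoped commutatorElement

namespace CfsgLib.TwoGenSolv66.Faithful

open Subgroup CfsgLib.SolvSig CfsgLib.Transitivity

variable {G : Type*} [Group G] [Finite G]

/-- An element acting on a group of order at most three. -/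
theorem conj_eq_or_inv {K : Subgroup G} (hK : Cfsg.IsElementaryAbelian 3 K)
    (hK3 : Nat.card K ≤ 3) {a k : G} (hk : k ∈ K) (hak : a * k * a⁻¹ ∈ K) :
    a * k * a⁻¹ = k ∨ a * k * a⁻¹ = k⁻¹ := by
  haveI : Fact (Nat.Prime 3) := ⟨Nat.prime_three⟩
  by_cases hk1 : k = 1
  · left; simp [hk1]
  have hle : zpowers k ≤ K := zpowers_le.mpr hk
  have heq : zpowers k = K := eq_of_le_of_card_ge hle (by
    rw [Nat.card_zpowers, orderOf_eq_prime (hK.2 k hk) hk1]; exact hK3)
  rw [← heq] at hak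
  obtain ⟨i, hi⟩ := mem_zpowers_iff.mp hak
  have hmod : k ^ i = k ^ (i % 3) := by
    rw [← zpow_mod_orderOf k i, orderOf_eq_prime (hK.2 k hk) hk1]
    norm_num
  rw [← hi, hmod]
  have h4 := Int.emod_nonneg i (show (3 : ℤ) ≠ 0 by norm_num)
  have h5 := Int.emod_lt_of_pos i (show (0 : ℤ) < 3 by norm_num)
  have hne : i % 3 ≠ 0 := fun h0 => hk1 (by
    rw [hmod, h0, zpow_zero] at hi
    have : a * k * a⁻¹ = 1 := hi.symm
    simpa using this)
  rcases (show i % 3 = 1 ∨ i % 3 = 2 by omega) with h | h <;> rw [h]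
  · left; exact zpow_one k
  · right
    rw [zpow_two, eq_inv_iff_mul_eq_one]
    exact cube_eq_one hK hk

variable {p : ℕ} [hp : Fact p.Prime] {y : G} {V R : Subgroup G}

/-- A `2`-group commuting with `y` has order at most four. -/
theorem Data.card_fixed_le_four (h : Data p y V R) (h13 : p = 13) {T : Subgroup G} (hT : T ≤ R)
    (hTy : T ≤ centralizer ({y} : Set G)) :
    Nat.card T ≤ 4 ∧
      ∀ t ∈ T, (∀ k ∈ V ⊓ centralizer ({y} : Set G), t * k * t⁻¹ = k) →
        ∀ u ∈ T, (∀ k ∈ V ⊓ centralizer ({y} : Set G), u * k * u⁻¹ = k) →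
          t ≠ 1 → u ≠ 1 → t = u := by
  classical
  subst h13
  haveI : Fact (Nat.Prime 2) := ⟨Nat.prime_two⟩
  haveI : Fact (Nat.Prime 3) := ⟨Nat.prime_three⟩
  obtain ⟨h5, -⟩ | ⟨-, hVK, hK3⟩ := h.cases
  · norm_num at h5
  set K := V ⊓ centralizer ({y} : Set G) with hKd
  have hKe : Cfsg.IsElementaryAbelian 3 K :=
    ⟨⟨⟨fun a b => Subtype.ext (commute_of_mem h.hV.1 a.2.1 b.2.1)⟩⟩, fun a ha => h.hV.2 a ha.1⟩
  have hyconj : ∀ v ∈ V, y * v * y⁻¹ ∈ V := fun v hv => (mem_normalizer_iff.mp h.hyV v).mp hv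
  let φ : V →* G :=
    { toFun := fun v => ⁅y, (v : G)⁆
      map_one' := by simp
      map_mul' := fun a b => by
        have hc : Commute (a : G) (⁅y, (b : G)⁆) := commute_of_mem h.hV.1 a.2 (by
          rw [commutatorElement_def]; exact mul_mem (hyconj b b.2) (inv_mem b.2))
        show ⁅y, (a : G) * b⁆ = ⁅y, (a : G)⁆ * ⁅y, (b : G)⁆
        rw [commutatorElement_mul_right_eq_mul_conj, mul_assoc ⁅y, (a : G)⁆, mul_assoc ⁅y, (a : G)⁆,
          hc.eq, mul_assoc, mul_inv_cancel, mul_one] }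
  set U := φ.range with hUd
  have hUV : U ≤ V := by
    rintro _ ⟨v, rfl⟩
    show ⁅y, (v : G)⁆ ∈ V
    rw [commutatorElement_def]
    exact mul_mem (hyconj v v.2) (inv_mem v.2)
  have hUe : Cfsg.IsElementaryAbelian 3 U :=
    ⟨⟨⟨fun a b => Subtype.ext (commute_of_mem h.hV.1 (hUV a.2) (hUV b.2))⟩⟩,
      fun a ha => h.hV.2 a (hUV ha)⟩
  have hker : φ.ker = K.subgroupOf V := by
    ext v
    rw [MonoidHom.mem_ker, mem_subgroupOf, hKd, mem_inf]
    show ⁅y, (v : G)⁆ = 1 ↔ _
    rw [commutatorElement_eq_one_iff_mul_comm, mem_centralizer_singleton_iff]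
    exact ⟨fun e => ⟨v.2, e.symm⟩, fun e => e.2.symm⟩
  have hUc : Nat.card U = 27 := by
    have h1 := φ.ker.card_mul_index
    rw [Subgroup.index_ker, hker, Nat.card_congr (subgroupOfEquivOfLe (inf_le_left : K ≤ V)).toEquiv,
      hVK, mul_comm 27] at h1
    exact Nat.eq_of_mul_eq_mul_left Nat.card_pos h1
  have hyU : y ∈ normalizer (U : Set G) := LocalStructure.mem_normalizer_of_forall fun x hx => by
    obtain ⟨v, rfl⟩ := hx
    refine ⟨⟨y * v * y⁻¹, hyconj v v.2⟩, ?_⟩
    show ⁅y, y * (v : G) * y⁻¹⁆ = y * ⁅y, (v : G)⁆ * y⁻¹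
    simp only [commutatorElement_def]
    group
  have hcase : ∀ k, 0 < k → k ≤ 4 → 13 ∣ 3 ^ k - 1 → k = 3 := fun k hk hk4 hd => by
    interval_cases k <;> first | rfl | (apply absurd hd; norm_num; done)
  have hU0 : U ⊓ centralizer ({y} : Set G) = ⊥ := by
    have hmv : y ∉ centralizer (U : Set G) := fun hc => by
      have : U ≤ K := fun x hx => ⟨hUV hx,
        mem_centralizer_singleton_iff.mpr (mem_centralizer_iff.mp hc x hx)⟩
      have := Subgroup.card_le_of_le this
      omega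
    obtain ⟨n, j, hn, hj, hlt, hd⟩ :=
      exists_dvd_pow_sub_one h.hy h.ne_three ((isPGroup_of_elab h.hV).to_le hUV) hyU hmv
    have hn3 : n = 3 := Nat.pow_right_injective (le_refl 2 |>.trans (by norm_num)) (hn.symm.trans hUc)
    have := hcase (n - j) (by omega) (by omega) hd
    exact card_eq_one.mp (by rw [hj, show j = 0 by omega, pow_zero])
  have hdis : K ⊓ U = ⊥ := eq_bot_iff.mpr fun x hx => hU0.le ⟨hx.2, hx.1.2⟩
  have hKU : K ⊔ U = V := by
    refine eq_of_le_of_card_ge (sup_le inf_le_left hUV) ?_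
    rw [Coprime.card_sup_eq (fun u hu => centralizer_le_normalizer _
      (mem_centralizer_iff.mpr fun k (hk : k ∈ K) => (commute_of_mem h.hV.1 (mem_inf.mp hk).1 (hUV hu)).eq)) hdis, hUc, hVK,
      mul_comm]
  -- elements commuting with `y` act on both parts
  have hTK : ∀ t ∈ T, ∀ k ∈ K, t * k * t⁻¹ ∈ K := fun t ht k hk => by
    refine ⟨(mem_normalizer_iff.mp (h.hRV (hT ht)) k).mp hk.1, mem_fix.mpr ?_⟩
    have hty : t * y = y * t := mem_centralizer_singleton_iff.mp (hTy ht)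
    calc y * (t * k * t⁻¹) * y⁻¹ = (y * t) * k * (y * t)⁻¹ := by group
      _ = (t * y) * k * (t * y)⁻¹ := by rw [hty]
      _ = t * (y * k * y⁻¹) * t⁻¹ := by group
      _ = _ := by rw [mem_fix.mp hk.2]
  have hTU : ∀ t ∈ T, t ∈ normalizer (U : Set G) := fun t ht =>
    LocalStructure.mem_normalizer_of_forall fun x hx => by
      obtain ⟨v, rfl⟩ := hx
      refine ⟨⟨t * v * t⁻¹, (mem_normalizer_iff.mp (h.hRV (hT ht)) v).mp v.2⟩, ?_⟩
      show ⁅y, t * (v : G) * t⁻¹⁆ = t * ⁅y, (v : G)⁆ * t⁻¹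
      have hty : t * y = y * t := mem_centralizer_singleton_iff.mp (hTy ht)
      have hy' : t⁻¹ * y = y * t⁻¹ := ((show Commute t y from hty).inv_left).eq
      calc ⁅y, t * (v : G) * t⁻¹⁆ = (y * t) * v * (t⁻¹ * y⁻¹) * t * (v : G)⁻¹ * t⁻¹ := by
            rw [commutatorElement_def]; group
        _ = (t * y) * v * (y⁻¹ * t⁻¹) * t * (v : G)⁻¹ * t⁻¹ := by
            rw [← hty, ((show Commute t y from hty).inv_left.inv_right).eq]
        _ = _ := by rw [commutatorElement_def]; group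
  -- the subgroup fixing `K`
  let T₁ : Subgroup G :=
    { carrier := {t | t ∈ T ∧ ∀ k ∈ K, t * k * t⁻¹ = k}
      one_mem' := ⟨one_mem _, fun k _ => by simp⟩
      mul_mem' := fun {a b} ha hb => ⟨mul_mem ha.1 hb.1, fun k hk => by
        rw [show a * b * k * (a * b)⁻¹ = a * (b * k * b⁻¹) * a⁻¹ by group, hb.2 k hk, ha.2 k hk]⟩
      inv_mem' := fun {a} ha => ⟨inv_mem ha.1, fun k hk => by
        conv_lhs => rw [← ha.2 k hk]
        group⟩ }
  -- an involution of `T₁` inverts `U`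
  have hinv : ∀ t ∈ T₁, t * t = 1 → t ≠ 1 → ∀ u ∈ U, t * u * t⁻¹ = u⁻¹ := by
    intro t ht ht2 ht1
    have hW : U ⊓ centralizer ({t} : Set G) ≤ U := inf_le_left
    have hn : y ∈ normalizer ((U ⊓ centralizer ({t} : Set G) : Subgroup G) : Set G) :=
      LocalStructure.mem_normalizer_of_forall fun x hx => mem_inf.mpr
        ⟨(mem_normalizer_iff.mp hyU x).mp hx.1, by
          rw [mem_centralizer_singleton_iff]
          have h1 : Commute x t := mem_centralizer_singleton_iff.mp hx.2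
          have h2 : Commute t y := mem_centralizer_singleton_iff.mp (hTy ht.1)
          exact ((h2.symm.mul_left h1).mul_left h2.symm.inv_left).eq⟩
    have h0 : U ⊓ centralizer ({t} : Set G) ⊓ centralizer ({y} : Set G) = ⊥ :=
      eq_bot_iff.mpr fun x hx => hU0.le ⟨hx.1.1, hx.2⟩
    rcases h.invariant_card (hW.trans hUV) hn h0 hcase with h1 | h1
    · intro u hu
      obtain ⟨w, hw, u', hu', rfl⟩ := involution_split hUe ht2 (hTU t ht.1) hu
      rw [h1, mem_bot] at hw
      rw [hw, one_mul]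
      exact hu'.2
    · exfalso
      have h2 : U ⊓ centralizer ({t} : Set G) = U := eq_of_le_of_card_ge hW (by rw [h1, hUc]; norm_num)
      refine ht1 (h.eq_one (hT ht.1) fun v hv => ?_)
      have hle : K ⊔ U ≤ centralizer ({t} : Set G) := sup_le
        (fun k hk => mem_fix.mpr (ht.2 k hk)) fun u hu => (h2.ge hu).2
      exact mem_fix.mp (hle (hKU.ge hv))
  have hsq : ∀ t ∈ T₁, t * t = 1 := by
    intro t ht
    obtain ⟨k, hk⟩ := IsPGroup.iff_orderOf.mp (h.hR.to_le hT) ⟨t, ht.1⟩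
    rw [Subgroup.orderOf_mk] at hk
    by_contra hne
    have hk2 : 2 ≤ k := by
      by_contra hlt
      refine hne ?_
      rw [← pow_two, ← orderOf_dvd_iff_pow_eq_one, hk]
      exact (pow_dvd_pow 2 (show k ≤ 1 by omega)).trans (by norm_num)
    set c := t ^ 2 ^ (k - 2)
    have hcT : c ∈ T₁ := pow_mem ht _
    have hoc : orderOf c = 4 := by
      rw [orderOf_pow, hk, Nat.gcd_eq_right (pow_dvd_pow 2 (by omega)),
        Nat.pow_div (by omega) (by norm_num), show k - (k - 2) = 2 by omega]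
    have hc2 : c * c * (c * c) = 1 := by
      rw [show c * c * (c * c) = c ^ 4 by simp [pow_succ, mul_assoc], ← hoc, pow_orderOf_eq_one]
    have hc1 : c * c ≠ 1 := fun e => by
      rw [← pow_two, ← orderOf_dvd_iff_pow_eq_one, hoc] at e
      norm_num at e
    have hcc := hinv _ (mul_mem hcT hcT) hc2 hc1
    have hplane := @plane_spec G _ _ U hUe c (hTU c hcT.1) hcc
    obtain ⟨u, hu, hu1⟩ : ∃ u ∈ U, u ≠ 1 := by
      by_contra! hall
      rw [show U = ⊥ from eq_bot_iff.mpr fun x hx => mem_bot.mpr (hall x hx), card_bot] at hUc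
      norm_num at hUc
    obtain ⟨hP1, hP2, hP3⟩ := hplane hu hu1
    set P := zpowers u ⊔ zpowers (c * u * c⁻¹)
    obtain ⟨u', hu', hu'P⟩ : ∃ u' ∈ U, u' ∉ P := by
      by_contra! hall
      have := Subgroup.card_le_of_le (show U ≤ P from hall)
      omega
    have hu'1 : u' ≠ 1 := fun e => hu'P (e ▸ one_mem _)
    obtain ⟨hP1', hP2', hP3'⟩ := hplane hu' hu'1
    set P' := zpowers u' ⊔ zpowers (c * u' * c⁻¹)
    have hPP : P ⊓ P' = ⊥ := by
      rw [eq_bot_iff]
      intro w hw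
      rw [mem_bot]
      by_contra hw1
      obtain ⟨-, hP2w, -⟩ := hplane (hP1 hw.1) hw1
      have e1 : zpowers w ⊔ zpowers (c * w * c⁻¹) = P := eq_of_le_of_card_ge
        (sup_le (zpowers_le.mpr hw.1) (zpowers_le.mpr (hP3 w hw.1))) (by rw [hP2, hP2w])
      have e2 : zpowers w ⊔ zpowers (c * w * c⁻¹) = P' := eq_of_le_of_card_ge
        (sup_le (zpowers_le.mpr hw.2) (zpowers_le.mpr (hP3' w hw.2))) (by rw [hP2', hP2w])
      rw [← e1, e2] at hu'P
      exact hu'P (mem_sup_left (mem_zpowers u'))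
    have hn : P' ≤ normalizer (P : Set G) := fun a ha => centralizer_le_normalizer _
      (mem_centralizer_iff.mpr fun b hb => (commute_of_mem hUe.1 (hP1 hb) (hP1' ha)).eq)
    have h81 := Coprime.card_sup_eq hn hPP
    rw [hP2, hP2'] at h81
    have := Subgroup.card_le_of_le (sup_le hP1 hP1')
    omega
  have huniq : ∀ s ∈ T₁, ∀ t ∈ T₁, s ≠ 1 → t ≠ 1 → s = t := fun s hs t ht hs1 ht1 => by
    refine (inv_mul_eq_one.mp (h.eq_one (mul_mem (inv_mem (hT ht.1)) (hT hs.1)) fun v hv => ?_)).symm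
    have hle : K ⊔ U ≤ centralizer ({t⁻¹ * s} : Set G) := sup_le
      (fun k hk => mem_fix.mpr ((mul_mem (inv_mem ht) hs : t⁻¹ * s ∈ T₁).2 k hk))
      fun u hu => mem_fix.mpr (by
        rw [show t⁻¹ * s * u * (t⁻¹ * s)⁻¹ = t⁻¹ * (s * u * s⁻¹) * t by group,
          hinv s hs (hsq s hs) hs1 u hu, ← hinv t ht (hsq t ht) ht1 u hu]
        group)
    exact mem_fix.mp (hle (hKU.ge hv))
  refine ⟨?_, fun t ht ht' u hu hu' ht1 hu1 => huniq t ⟨ht, ht'⟩ u ⟨hu, hu'⟩ ht1 hu1⟩
  have h2 : Nat.card T₁ ≤ 2 := by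
    have hinj : Function.Injective fun t : T₁ => decide ((t : G) = 1) := by
      intro a b hab
      simp only [decide_eq_decide] at hab
      refine Subtype.ext ?_
      by_cases ha : (a : G) = 1
      · rw [ha, hab.mp ha]
      · exact huniq a a.2 b b.2 ha fun e => ha (hab.mpr e)
    have := Nat.card_le_card_of_injective _ hinj
    simpa using this
  have h3 : Nat.card T ≤ 2 * Nat.card T₁ := by
    by_cases hall : T ≤ T₁
    · exact (Subgroup.card_le_of_le hall).trans (by omega)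
    obtain ⟨t₀, ht₀, ht₀'⟩ := SetLike.not_le_iff_exists.mp hall
    have hflip : ∀ t ∈ T, t ∉ T₁ → ∀ k ∈ K, t * k * t⁻¹ = k⁻¹ := by
      intro t ht ht' k hk
      obtain ⟨k₀, hk₀, hk₀'⟩ : ∃ k₀ ∈ K, t * k₀ * t⁻¹ ≠ k₀ := by
        by_contra! hc
        exact ht' ⟨ht, hc⟩
      have h0 := (conj_eq_or_inv hKe hK3 hk₀ (hTK t ht k₀ hk₀)).resolve_left hk₀'
      have hk₀1 : k₀ ≠ 1 := fun e => hk₀' (by simp [e])
      have heq : zpowers k₀ = K := eq_of_le_of_card_ge (zpowers_le.mpr hk₀) (by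
        rw [Nat.card_zpowers, orderOf_eq_prime (hKe.2 k₀ hk₀) hk₀1]; exact hK3)
      obtain ⟨i, rfl⟩ := mem_zpowers_iff.mp (heq.ge hk)
      rw [← conj_zpow, h0, inv_zpow]
    have hmem : ∀ t : T, (t : G) ∉ T₁ → t₀ * t ∈ T₁ := fun t ht => ⟨mul_mem ht₀ t.2, fun k hk => by
      rw [show t₀ * (t : G) * k * (t₀ * t)⁻¹ = t₀ * ((t : G) * k * (t : G)⁻¹) * t₀⁻¹ by group,
        hflip t t.2 ht k hk, hflip t₀ ht₀ ht₀' _ (inv_mem hk), inv_inv]⟩
    have hinj : Function.Injective fun t : T =>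
        (if ht : (t : G) ∈ T₁ then (false, (⟨t, ht⟩ : T₁)) else (true, ⟨t₀ * t, hmem t ht⟩) :
          Bool × T₁) := by
      intro a b hab
      by_cases ha : (a : G) ∈ T₁ <;> by_cases hb : (b : G) ∈ T₁ <;> simp [ha, hb] at hab
      all_goals first | exact hab | exact Subtype.ext hab
    have := Nat.card_le_card_of_injective _ hinj
    rwa [Nat.card_prod, Nat.card_eq_fintype_card (α := Bool), Fintype.card_bool] at this
  omega

/-- No element of order 13 moves a faithful 2-group. -/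
theorem MinMoved.false_of_thirteen {Q : Subgroup G} (m : MinMoved p y V R Q) (h13 : p = 13) :
    False := by
  subst h13
  haveI : Fact (Nat.Prime 2) := ⟨Nat.prime_two⟩
  obtain ⟨h5, -⟩ | ⟨-, hVK, hK3⟩ := m.data.cases
  · norm_num at h5
  set h := m.data
  set D := Q ⊓ centralizer ({y} : Set G)
  obtain ⟨hD4, hDuniq⟩ := h.card_fixed_le_four rfl ((inf_le_left : D ≤ Q).trans m.le) inf_le_right
  set K := V ⊓ centralizer ({y} : Set G) with hKd
  have hKe : Cfsg.IsElementaryAbelian 3 K :=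
    ⟨⟨⟨fun a b => Subtype.ext (commute_of_mem h.hV.1 a.2.1 b.2.1)⟩⟩, fun a ha => h.hV.2 a ha.1⟩
  have hcD : ∀ a ∈ Q, ∀ b ∈ Q, ⁅a, b⁆ ∈ D := fun a ha b hb => mem_inf.mpr ⟨by
    rw [commutatorElement_def]; exact mul_mem (mul_mem (mul_mem ha hb) (inv_mem ha)) (inv_mem hb),
    (m.frattini_fixed ha hb).2⟩
  have hDc : ∀ d ∈ D, ∀ x ∈ Q, Commute d x := fun d hd x hx => m.fixed_central hd.1 hd.2 hx
  -- all nontrivial commutators agree
  have hone : ∀ a ∈ Q, ∀ b ∈ Q, ⁅a, b⁆ ≠ 1 → ∀ a' ∈ Q, ∀ b' ∈ Q, ⁅a', b'⁆ ≠ 1 → ⁅a, b⁆ = ⁅a', b'⁆ := by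
    by_cases hKinv : ∀ x ∈ Q, ∀ k ∈ K, x * k * x⁻¹ ∈ K
    · intro a ha b hb hne a' ha' b' hb' hne'
      have hfixK : ∀ a ∈ Q, ∀ b ∈ Q, ∀ k ∈ K, ⁅a, b⁆ * k * ⁅a, b⁆⁻¹ = k := by
        intro a ha b hb k hk
        have hk1 := hKinv b⁻¹ (inv_mem hb) k hk
        have hk2 := hKinv a⁻¹ (inv_mem ha) _ hk1
        have hk3 := hKinv b hb _ hk2
        have e : ∀ z ∈ Q, ∀ w ∈ Q, ∀ j ∈ K,
            z * (w * j * w⁻¹) * z⁻¹ = w * (z * j * z⁻¹) * w⁻¹ := by
          intro z hz w hw j hj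
          rcases conj_eq_or_inv hKe hK3 hj (hKinv w hw j hj) with e1 | e1 <;>
            rcases conj_eq_or_inv hKe hK3 hj (hKinv z hz j hj) with e2 | e2
          · rw [e1, e2, e1]
          · rw [e1, e2, ← conj_inv, e1]
          · rw [e1, e2, ← conj_inv, e2, e1]
          · rw [e1, e2, ← conj_inv, e2, ← conj_inv, e1]
        have e3 := e a⁻¹ (inv_mem ha) b hb (b⁻¹ * k * (b⁻¹)⁻¹) hk1
        rw [commutatorElement_def,
          show a * b * a⁻¹ * b⁻¹ * k * (a * b * a⁻¹ * b⁻¹)⁻¹ =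
            a * (b * (a⁻¹ * (b⁻¹ * k * (b⁻¹)⁻¹) * (a⁻¹)⁻¹) * b⁻¹) * a⁻¹ by group, ← e3]
        group
      exact hDuniq _ (hcD a ha b hb) (hfixK a ha b hb) _ (hcD a' ha' b' hb') (hfixK a' ha' b' hb') hne hne'
    · -- every nontrivial commutator inverts everything
      push Not at hKinv
      obtain ⟨x₀, hx₀, k₀, hk₀, hout⟩ := hKinv
      have hinvV : ∀ a ∈ Q, ∀ b ∈ Q, ⁅a, b⁆ ≠ 1 → ∀ v ∈ V, ⁅a, b⁆ * v * ⁅a, b⁆⁻¹ = v⁻¹ := by
        intro a ha b hb hne
        set d := ⁅a, b⁆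
        have hd := hcD a ha b hb
        have hd2 : d * d = 1 := m.comm_sq ha hb
        have hdV : d ∈ normalizer (V : Set G) := h.hRV (m.le hd.1)
        set W := V ⊓ centralizer ({d} : Set G)
        by_cases hW : W = ⊥
        · intro v hv
          obtain ⟨w, hw, u, hu, rfl⟩ := involution_split h.hV hd2 hdV hv
          replace hw : w ∈ W := hw
          rw [hW, mem_bot] at hw
          rw [hw, one_mul]
          exact hu.2
        exfalso
        have hWne : W ≠ V := fun e => hne (h.eq_one (m.le hd.1) fun v hv => mem_fix.mp (e.ge hv).2)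
        set I := invPart h.hV.1 d
        have hcard := card_split h.hV hd2 hdV
        have hdy : Commute d y := mem_centralizer_singleton_iff.mp hd.2
        have hyd : ∀ v, d * (y * v * y⁻¹) * d⁻¹ = y * (d * v * d⁻¹) * y⁻¹ := fun v => by
          calc d * (y * v * y⁻¹) * d⁻¹ = (d * y) * v * (d * y)⁻¹ := by group
            _ = (y * d) * v * (y * d)⁻¹ := by rw [hdy.eq]
            _ = _ := by group
        have hWn : y ∈ normalizer (W : Set G) := LocalStructure.mem_normalizer_of_forall fun v hv =>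
          mem_inf.mpr ⟨(mem_normalizer_iff.mp h.hyV v).mp hv.1,
            mem_fix.mpr (by rw [hyd, mem_fix.mp hv.2])⟩
        have hIn : y ∈ normalizer (I : Set G) := LocalStructure.mem_normalizer_of_forall fun v hv =>
          ⟨(mem_normalizer_iff.mp h.hyV v).mp hv.1, by rw [hyd, hv.2]; group⟩
        have hQW : ∀ x ∈ Q, ∀ v, d * (x * v * x⁻¹) * d⁻¹ = x * (d * v * d⁻¹) * x⁻¹ := fun x hx v => by
          calc d * (x * v * x⁻¹) * d⁻¹ = (d * x) * v * (d * x)⁻¹ := by group
            _ = (x * d) * v * (x * d)⁻¹ := by rw [(hDc d hd x hx).eq]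
            _ = _ := by group
        -- one of the parts is the fixed part of `y`
        have hpart : ∀ X : Subgroup G, X ≤ V → y ∈ normalizer (X : Set G) → X ≠ ⊥ →
            Nat.card X < 27 → X = K := by
          intro X hX hXn hX0 hX27
          haveI : Fact (Nat.Prime 3) := ⟨Nat.prime_three⟩
          have hfix : y ∈ centralizer (X : Set G) := by
            by_contra hmv
            obtain ⟨n, j, hn, -, hlt, hdv⟩ := exists_dvd_pow_sub_one h.hy h.ne_three
              ((isPGroup_of_elab h.hV).to_le hX) hXn hmv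
            rw [hn] at hX27
            have hn3 : n < 3 :=
              (Nat.pow_lt_pow_iff_right (by norm_num : 1 < 3)).mp (by simpa using hX27)
            have hnj : n - j = 1 ∨ n - j = 2 := by omega
            rcases hnj with e | e <;> rw [e] at hdv <;> norm_num at hdv
          have hXK : X ≤ K := fun w hw => ⟨hX hw,
            mem_centralizer_singleton_iff.mpr (mem_centralizer_iff.mp hfix w hw)⟩
          refine eq_of_le_of_card_ge hXK (hK3.trans ?_)
          obtain ⟨i, hi⟩ := IsPGroup.iff_card.mp ((isPGroup_of_elab h.hV).to_le hX)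
          rw [hi]
          refine Nat.le_self_pow (fun e => hX0 (card_eq_one.mp (by rw [hi, e, pow_zero]))) 3
        have hI0 : I ≠ ⊥ := fun e => hWne (eq_of_le_of_card_ge inf_le_left (by
          replace hcard : Nat.card W * Nat.card I = Nat.card V := hcard
          rw [e, card_bot, mul_one] at hcard; rw [hcard]))
        have hsmall : Nat.card W < 27 ∨ Nat.card I < 27 := by
          by_contra! hb
          have := Nat.mul_le_mul hb.1 hb.2
          rw [hcard] at this
          have := h.hV4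
          omega
        rcases hsmall with hs | hs
        · have hK := hpart W inf_le_left hWn hW hs
          refine hout ?_
          rw [← hK] at hk₀ ⊢
          exact ⟨(mem_normalizer_iff.mp (h.hRV (m.le hx₀)) k₀).mp hk₀.1,
            mem_fix.mpr (by rw [hQW x₀ hx₀, mem_fix.mp hk₀.2])⟩
        · have hK := hpart I (invPart_le _ _) hIn hI0 hs
          refine hout ?_
          rw [← hK] at hk₀ ⊢
          exact ⟨(mem_normalizer_iff.mp (h.hRV (m.le hx₀)) k₀).mp hk₀.1,
            by rw [hQW x₀ hx₀, hk₀.2]; group⟩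
      intro a ha b hb hne a' ha' b' hb' hne'
      exact h.inv_unique (m.le (hcD a ha b hb).1) (m.le (hcD a' ha' b' hb').1) (hinvV a ha b hb hne)
        (hinvV a' ha' b' hb' hne')
  obtain ⟨a₁, ha₁, b₁, hb₁, hne₁⟩ := m.not_comm
  set Z := zpowers ⁅a₁, b₁⁆
  have hZ2 : Nat.card Z = 2 := by
    rw [Nat.card_zpowers]
    exact orderOf_eq_prime (by rw [pow_two]; exact m.comm_sq ha₁ hb₁) hne₁
  have hZD : Z ≤ D := zpowers_le.mpr (hcD a₁ ha₁ b₁ hb₁)
  have hcm : ∀ a ∈ Q, ∀ b ∈ Q, ⁅a, b⁆ ∈ Z := fun a ha b hb => by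
    by_cases hne : ⁅a, b⁆ = 1
    · rw [hne]; exact one_mem _
    · rw [hone a ha b hb hne a₁ ha₁ b₁ hb₁ hne₁]; exact mem_zpowers _
  -- a maximal abelian subgroup above the fixed points
  obtain ⟨A, hA, hmax⟩ := Set.Finite.exists_maximal
    (s := {A : Subgroup G | D ≤ A ∧ A ≤ Q ∧ ∀ a ∈ A, ∀ b ∈ A, Commute a b}) (Set.toFinite _)
    ⟨D, le_rfl, inf_le_left, fun a ha b hb => hDc a ha b hb.1⟩
  obtain ⟨hDA, hAQ, hAab⟩ := hA
  have hself : Q ⊓ centralizer (A : Set G) ≤ A := fun x hx => by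
    have hn : zpowers x ≤ normalizer (A : Set G) :=
      (zpowers_le.mpr hx.2).trans (centralizer_le_normalizer _)
    have hxa : ∀ a ∈ A, Commute a x := fun a ha => mem_centralizer_iff.mp hx.2 a ha
    refine (hmax ⟨hDA.trans le_sup_left, sup_le hAQ (zpowers_le.mpr hx.1), ?_⟩ le_sup_left)
      (mem_sup_right (mem_zpowers x))
    intro u hu w hw
    obtain ⟨a, ha, _, ⟨i, rfl⟩, rfl⟩ := Coprime.exists_mul_of_mem_sup hn hu
    obtain ⟨b, hb, _, ⟨j, rfl⟩, rfl⟩ := Coprime.exists_mul_of_mem_sup hn hw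
    exact ((hAab a ha b hb).mul_right ((hxa a ha).zpow_right j)).mul_left
      (((hxa b hb).zpow_right i).symm.mul_right ((Commute.refl x).zpow_zpow i j))
  have hA64 : Nat.card A ≤ 64 := by
    let φ : A →* D :=
      { toFun := fun a => ⟨(a : G) * a, mul_mem (hAQ a.2) (hAQ a.2),
          (m.frattini_fixed (hAQ a.2) (hAQ a.2)).1⟩
        map_one' := Subtype.ext (one_mul 1)
        map_mul' := fun a b => Subtype.ext ((hAab b b.2 a a.2).mul_mul_mul_comm a b) }
    have h1 := φ.ker.card_mul_index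
    rw [Subgroup.index_ker] at h1
    set E := φ.ker.map A.subtype
    have hEA : E ≤ A := map_subtype_le _
    have hEe : Cfsg.IsElementaryAbelian 2 E :=
      ⟨⟨⟨fun a b => Subtype.ext (hAab a (hEA a.2) b (hEA b.2)).eq⟩⟩, by
        rintro _ ⟨a, ha, rfl⟩
        rw [pow_two]
        exact congrArg Subtype.val ha⟩
    have hER : E ≤ R := hEA.trans (hAQ.trans m.le)
    have h2 := elem_card_le_sixteen h.hV h.hV4 hEe (hER.trans h.hRV)
      (eq_bot_iff.mpr (le_trans (inf_le_inf_right _ hER) h.hf.le))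
    rw [Nat.card_congr (φ.ker.equivMapOfInjective A.subtype A.subtype_injective).symm.toEquiv] at h2
    have h3 := (Subgroup.card_le_card_group φ.range).trans hD4
    rw [← h1]
    exact (Nat.mul_le_mul h2 h3).trans (by norm_num)
  have hQA := card_le_centralizer_mul (N := Q) (S := A) (hZD.trans inf_le_left) (hZD.trans hDA)
    (fun x hx => mem_centralizer_iff.mpr fun z hz => (hDc z (hZD hz) x hx).eq) hZ2
    (m.isPGroup.to_le hAQ) (fun n hn s hs => hcm n hn s (hAQ hs))
    (fun x hx => mem_centralizer_iff.mpr fun z hz => (hDc z (hZD hz) x (hAQ hx)).eq)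
  have hQA' := hQA.trans (Nat.mul_le_mul ((Subgroup.card_le_of_le hself).trans hA64) hA64)
  obtain ⟨n, j, hn, hj, hlt, hd⟩ := m.card_exponents
  have hnj : 12 ≤ n - j := by
    by_contra! hb
    interval_cases hk : n - j <;> (try norm_num at hd) <;> omega
  rw [hn] at hQA'
  have : 2 ^ 12 ≤ 2 ^ n := Nat.pow_le_pow_right (by norm_num) (by omega)
  omega

end CfsgLib.TwoGenSolv66.Faithful
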