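import Cfsg.Agent.TwoGenSolv66.Rank
import Cfsg.Agent.Classification.SymplecticFour

/-!
# Two-groups acting on small 3-groups: tools

* an elementary abelian 2-group acting faithfully on a group of order `3 ^ n` has order `≤ 2 ^ n`;
* `exists_fixed_cube`: three involutions acting on `3 ^ 5` fix `3 ^ 3` points;
* counting lemmas.
-/

set_option autoImplicit false
set_option linter.unusedSectionVars false
set_option linter.unusedVariables false
set_option linter.style.haveILetI false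

open scoped commutatorElement

namespace CfsgLib.TwoGenSolv66

open Subgroup CfsgLib.SolvSig CfsgLib.Transitivity

variable {G : Type*} [Group G] [Finite G]

namespace Faithful

/-- Commuting inside a commutative subgroup. -/
theorem commute_of_mem {A : Subgroup G} (hA : IsMulCommutative A) {a b : G} (ha : a ∈ A)
    (hb : b ∈ A) : Commute a b :=
  congrArg Subtype.val (hA.is_comm.comm ⟨a, ha⟩ ⟨b, hb⟩)

/-- `|A| |B| ≤ |A ∩ B| |E|` for `A, B ≤ E`. -/
theorem card_mul_card_le {A B E : Subgroup G} (hA : A ≤ E) (hB : B ≤ E) :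
    Nat.card A * Nat.card B ≤ Nat.card ↥(A ⊓ B) * Nat.card E := by
  have h1 : Nat.card ↥(A ⊓ B) * A.relIndex B = Nat.card B := by
    have h := (A.subgroupOf B).card_mul_index
    rwa [← inf_subgroupOf_right, Nat.card_congr (subgroupOfEquivOfLe inf_le_right).toEquiv,
      inf_subgroupOf_right] at h
  have h2 : Nat.card A * A.relIndex E = Nat.card E := by
    have h := (A.subgroupOf E).card_mul_index
    rwa [Nat.card_congr (subgroupOfEquivOfLe hA).toEquiv] at h
  have h3 : A.relIndex B ≤ A.relIndex E := relIndex_le_of_le_right hB index_ne_zero_of_finite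
  rw [← h1, ← h2]
  calc Nat.card A * (Nat.card ↥(A ⊓ B) * A.relIndex B)
      = Nat.card ↥(A ⊓ B) * (Nat.card A * A.relIndex B) := by ring
    _ ≤ _ := Nat.mul_le_mul_left _ (Nat.mul_le_mul_left _ h3)

theorem solve_add {M : Type*} [AddCommGroup M] {w x y : M} (h1 : w + w + x + -y = 0)
    (h2 : -w + -y + (-w + -y) + x + -y = 0) (h3 : -w + -x + (-w + -x) + x + -y = 0) :
    x + x + -(y + y + y + y) = 0 ∧ -(y + y) = 0 := by
  constructor
  · calc x + x + -(y + y + y + y) = (w + w + x + -y) + (-w + -y + (-w + -y) + x + -y) := by abel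
      _ = 0 := by rw [h1, h2, add_zero]
  · calc -(y + y) = (w + w + x + -y) + (-w + -x + (-w + -x) + x + -y) := by abel
      _ = 0 := by rw [h1, h3, add_zero]

theorem solve_mul {M : Type*} [CommGroup M] {w x y : M} (h1 : w * w * x * y⁻¹ = 1)
    (h2 : w⁻¹ * y⁻¹ * (w⁻¹ * y⁻¹) * x * y⁻¹ = 1) (h3 : w⁻¹ * x⁻¹ * (w⁻¹ * x⁻¹) * x * y⁻¹ = 1) :
    x * x * (y * y * y * y)⁻¹ = 1 ∧ (y * y)⁻¹ = 1 :=
  solve_add (M := Additive M) h1 h2 h3

variable {V : Subgroup G}

theorem cube_eq_one (hV : Cfsg.IsElementaryAbelian 3 V) {v : G} (hv : v ∈ V) : v * v * v = 1 := by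
  rw [← hV.2 v hv, pow_succ, pow_two]

theorem eq_one_of_inv_eq (hV : Cfsg.IsElementaryAbelian 3 V) {v : G} (hv : v ∈ V)
    (h : v * v = 1) : v = 1 := by
  have := cube_eq_one hV hv
  rwa [h, one_mul] at this

/-- The points inverted by an element. -/
def invPart (hV : IsMulCommutative V) (e : G) : Subgroup G where
  carrier := {v | v ∈ V ∧ e * v * e⁻¹ = v⁻¹}
  one_mem' := ⟨one_mem _, by group⟩
  mul_mem' := by
    rintro a b ⟨ha, ha'⟩ ⟨hb, hb'⟩
    refine ⟨mul_mem ha hb, ?_⟩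
    rw [show e * (a * b) * e⁻¹ = (e * a * e⁻¹) * (e * b * e⁻¹) by group, ha', hb', mul_inv_rev]
    exact ((commute_of_mem hV hb ha).inv_inv).eq.symm
  inv_mem' := by
    rintro a ⟨ha, ha'⟩
    exact ⟨inv_mem ha, by rw [show e * a⁻¹ * e⁻¹ = (e * a * e⁻¹)⁻¹ by group, ha']⟩

theorem invPart_le (hV : IsMulCommutative V) (e : G) : invPart hV e ≤ V := fun _ h => h.1

theorem mem_fix {e v : G} : v ∈ centralizer ({e} : Set G) ↔ e * v * e⁻¹ = v := by
  rw [mem_centralizer_singleton_iff, mul_inv_eq_iff_eq_mul]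
  exact eq_comm

/-- The halves of an involution acting on a group of exponent three. -/
theorem involution_split (hV : Cfsg.IsElementaryAbelian 3 V) {e : G} (he : e * e = 1)
    (hn : e ∈ normalizer (V : Set G)) {v : G} (hv : v ∈ V) :
    ∃ w ∈ V ⊓ centralizer ({e} : Set G), ∃ u ∈ invPart hV.1 e, w * u = v := by
  have hinv : e⁻¹ = e := inv_eq_of_mul_eq_one_right he
  set a := e * v * e⁻¹ with ha'
  have ha : a ∈ V := (mem_normalizer_iff.mp hn v).mp hv
  have hea : e * a * e⁻¹ = v := by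
    rw [ha', hinv, show e * (e * v * e) * e = (e * e) * v * (e * e) by group, he, one_mul, mul_one]
  have hc : Commute v a := commute_of_mem hV.1 hv ha
  refine ⟨(v * a) * (v * a), mem_inf.mpr ⟨mul_mem (mul_mem hv ha) (mul_mem hv ha), mem_fix.mpr ?_⟩,
    (v * a⁻¹) * (v * a⁻¹), ⟨mul_mem (mul_mem hv (inv_mem ha)) (mul_mem hv (inv_mem ha)), ?_⟩, ?_⟩
  · rw [show e * (v * a * (v * a)) * e⁻¹ =
      (e * v * e⁻¹) * (e * a * e⁻¹) * ((e * v * e⁻¹) * (e * a * e⁻¹)) by group, ← ha', hea, hc.eq]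
  · rw [show e * (v * a⁻¹ * (v * a⁻¹)) * e⁻¹ =
      (e * v * e⁻¹) * (e * a * e⁻¹)⁻¹ * ((e * v * e⁻¹) * (e * a * e⁻¹)⁻¹) by group, ← ha', hea]
    group
  · have e1 : (v * a) * (v * a) = (v * v) * (a * a) := hc.symm.mul_mul_mul_comm v a
    have e2 : (v * a⁻¹) * (v * a⁻¹) = (v * v) * (a⁻¹ * a⁻¹) := hc.inv_right.symm.mul_mul_mul_comm v a⁻¹
    have h3 : Commute (a * a) (v * v) := (hc.symm.mul_left hc.symm).mul_right (hc.symm.mul_left hc.symm)
    rw [e1, e2, mul_assoc (v * v), ← mul_assoc (a * a), h3.eq,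
      show v * v * (v * v * (a * a) * (a⁻¹ * a⁻¹)) = v * v * v * v by group, cube_eq_one hV hv, one_mul]

theorem card_split (hV : Cfsg.IsElementaryAbelian 3 V) {e : G} (he : e * e = 1)
    (hn : e ∈ normalizer (V : Set G)) :
    Nat.card ↥(V ⊓ centralizer ({e} : Set G)) * Nat.card (invPart hV.1 e) = Nat.card V := by
  rw [← Nat.card_prod]
  refine Nat.card_congr (Equiv.ofBijective
    (fun q => (⟨q.1 * q.2, mul_mem q.1.2.1 q.2.2.1⟩ : V)) ⟨?_, ?_⟩)
  · rintro ⟨⟨w, hw⟩, ⟨u, hu⟩⟩ ⟨⟨w', hw'⟩, ⟨u', hu'⟩⟩ h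
    have h1 : w * u = w' * u' := congrArg Subtype.val h
    have h2 : w'⁻¹ * w = u' * u⁻¹ := by
      rw [inv_mul_eq_iff_eq_mul, ← mul_assoc, ← h1]; group
    have h3 : w'⁻¹ * w ∈ V ⊓ centralizer ({e} : Set G) := mul_mem (inv_mem hw') hw
    have h4 : w'⁻¹ * w ∈ invPart hV.1 e := h2 ▸ mul_mem hu' (inv_mem hu)
    have h5 := mem_fix.mp h3.2
    rw [h4.2] at h5
    have h6 : w'⁻¹ * w = 1 := eq_one_of_inv_eq hV h4.1 (by
      nth_rewrite 1 [← h5]
      exact inv_mul_cancel _)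
    have hw2 : w = w' := (inv_mul_eq_one.mp h6).symm
    subst hw2
    have hu2 : u = u' := mul_left_cancel h1
    subst hu2
    rfl
  · rintro ⟨v, hv⟩
    obtain ⟨w, hw, u, hu, h⟩ := involution_split hV he hn hv
    exact ⟨⟨⟨w, hw⟩, ⟨u, hu⟩⟩, Subtype.ext h⟩

/-- An elementary abelian 2-group acts on a group of order `3 ^ n` through at most `2 ^ n`. -/
theorem elem_card_le : ∀ (n : ℕ) {V E : Subgroup G}, Cfsg.IsElementaryAbelian 3 V →
    Cfsg.IsElementaryAbelian 2 E → E ≤ normalizer (V : Set G) → Nat.card V = 3 ^ n →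
    Nat.card E ≤ 2 ^ n * Nat.card ↥(E ⊓ centralizer (V : Set G)) ∧
      (Nat.card E = 2 ^ n * Nat.card ↥(E ⊓ centralizer (V : Set G)) →
        ∃ e ∈ E, ∀ v ∈ V, e * v * e⁻¹ = v⁻¹) := by
  intro n
  induction n using Nat.strong_induction_on with
  | _ n ih =>
  intro V E hV hE hEV hn
  have hsq : ∀ e ∈ E, e * e = 1 := fun e he => by rw [← pow_two]; exact hE.2 e he
  by_cases hsplit : ∃ e ∈ E, V ⊓ centralizer ({e} : Set G) ≠ ⊥ ∧ V ⊓ centralizer ({e} : Set G) ≠ V
  · obtain ⟨e, he, hW1, hW2⟩ := hsplit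
    set W := V ⊓ centralizer ({e} : Set G)
    set U := invPart hV.1 e
    have hcomm : ∀ f ∈ E, ∀ x : G, e * (f * x * f⁻¹) * e⁻¹ = f * (e * x * e⁻¹) * f⁻¹ := by
      intro f hf x
      have h1 : e * f = f * e := commute_of_mem hE.1 he hf
      calc e * (f * x * f⁻¹) * e⁻¹ = (e * f) * x * (e * f)⁻¹ := by group
        _ = (f * e) * x * (f * e)⁻¹ := by rw [h1]
        _ = _ := by group
    have hEW : E ≤ normalizer (W : Set G) := fun f hf =>
      LocalStructure.mem_normalizer_of_forall fun x hx => mem_inf.mpr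
        ⟨(mem_normalizer_iff.mp (hEV hf) x).mp hx.1, mem_fix.mpr (by
          rw [hcomm f hf, mem_fix.mp hx.2])⟩
    have hEU : E ≤ normalizer (U : Set G) := fun f hf =>
      LocalStructure.mem_normalizer_of_forall fun x hx =>
        ⟨(mem_normalizer_iff.mp (hEV hf) x).mp hx.1, by
          rw [hcomm f hf, hx.2]; group⟩
    have hWe : Cfsg.IsElementaryAbelian 3 W :=
      ⟨⟨⟨fun a b => Subtype.ext (commute_of_mem hV.1 a.2.1 b.2.1)⟩⟩, fun a ha => hV.2 a ha.1⟩
    have hUe : Cfsg.IsElementaryAbelian 3 U :=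
      ⟨⟨⟨fun a b => Subtype.ext (commute_of_mem hV.1 a.2.1 b.2.1)⟩⟩, fun a ha => hV.2 a ha.1⟩
    haveI : Fact (Nat.Prime 3) := ⟨Nat.prime_three⟩
    have hVp : IsPGroup 3 V := isPGroup_of_elab hV
    obtain ⟨a, ha⟩ := IsPGroup.iff_card.mp (hVp.to_le (inf_le_left : W ≤ V))
    obtain ⟨b, hb⟩ := IsPGroup.iff_card.mp (hVp.to_le (invPart_le hV.1 e))
    have hab : a + b = n := by
      have := card_split hV (hsq e he) (hEV he)
      rw [ha, hb, hn, ← pow_add] at this
      exact Nat.pow_right_injective (by norm_num) this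
    have ha0 : a ≠ 0 := fun h => hW1 (card_eq_one.mp (by rw [ha, h, pow_zero]))
    have hb0 : b ≠ 0 := fun h => hW2 (eq_of_le_of_card_ge inf_le_left (by
      rw [ha, hn, ← hab, h, add_zero]))
    have h1 := (ih a (by omega) hWe hE hEW ha).1
    have h2 := (ih b (by omega) hUe hE hEU hb).1
    have h3 : E ⊓ centralizer (W : Set G) ⊓ (E ⊓ centralizer (U : Set G)) ≤
        E ⊓ centralizer (V : Set G) := by
      rintro x ⟨⟨hxE, hxW⟩, -, hxU⟩
      refine ⟨hxE, mem_centralizer_iff.mpr fun v hv => ?_⟩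
      obtain ⟨w, hw, u, hu, rfl⟩ := involution_split hV (hsq e he) (hEV he) hv
      have c1 : Commute w x := mem_centralizer_iff.mp hxW w hw
      have c2 : Commute u x := mem_centralizer_iff.mp hxU u hu
      exact (c1.mul_left c2).eq
    have h4 := card_mul_card_le (inf_le_left : E ⊓ centralizer (W : Set G) ≤ E)
      (inf_le_left : E ⊓ centralizer (U : Set G) ≤ E)
    have h5 := Subgroup.card_le_of_le h3
    have h6 : Nat.card E * Nat.card E ≤
        2 ^ n * Nat.card ↥(E ⊓ centralizer (V : Set G)) * Nat.card E := by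
      refine (Nat.mul_le_mul h1 h2).trans ?_
      calc 2 ^ a * Nat.card ↥(E ⊓ centralizer (W : Set G)) *
            (2 ^ b * Nat.card ↥(E ⊓ centralizer (U : Set G)))
          = 2 ^ n * (Nat.card ↥(E ⊓ centralizer (W : Set G)) *
            Nat.card ↥(E ⊓ centralizer (U : Set G))) := by rw [← hab, pow_add]; ring
        _ ≤ 2 ^ n * (Nat.card ↥(E ⊓ centralizer (V : Set G)) * Nat.card E) :=
            Nat.mul_le_mul_left _ (h4.trans (Nat.mul_le_mul_right _ h5))
        _ = _ := by ring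
    refine ⟨Nat.le_of_mul_le_mul_right h6 Nat.card_pos, fun heq => ?_⟩
    -- in the case of equality each half has an inverting element
    have hsub : ∀ {X Y : Subgroup G} (c d : ℕ), Cfsg.IsElementaryAbelian 3 X → c < n → c + d = n →
        Nat.card X = 3 ^ c → E ≤ normalizer (X : Set G) →
        Nat.card E ≤ 2 ^ d * Nat.card ↥(E ⊓ centralizer (Y : Set G)) →
        (∀ x, x ∈ E ⊓ centralizer (Y : Set G) → x ∈ centralizer (X : Set G) →
          x ∈ E ⊓ centralizer (V : Set G)) →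
        ∃ e ∈ E, (∀ v ∈ X, e * v * e⁻¹ = v⁻¹) ∧ ∀ v ∈ Y, e * v * e⁻¹ = v := by
      intro X Y c d hXe hcn hcd hX hEX hY hXY
      set B := E ⊓ centralizer (Y : Set G)
      have hBe : Cfsg.IsElementaryAbelian 2 B :=
        ⟨⟨⟨fun a b => Subtype.ext (commute_of_mem hE.1 a.2.1 b.2.1)⟩⟩, fun a ha => hE.2 a ha.1⟩
      obtain ⟨k1, k2⟩ := ih c hcn hXe hBe (inf_le_left.trans hEX) hX
      have hC : Nat.card ↥(B ⊓ centralizer (X : Set G)) ≤ Nat.card ↥(E ⊓ centralizer (V : Set G)) :=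
        Subgroup.card_le_of_le fun x hx => hXY x hx.1 hx.2
      have k3 : 2 ^ c * Nat.card ↥(B ⊓ centralizer (X : Set G)) ≤ Nat.card B := by
        refine Nat.le_of_mul_le_mul_left ?_ (pow_pos (show 0 < 2 by norm_num) d)
        refine le_trans ?_ hY
        rw [heq, ← mul_assoc, ← pow_add, Nat.add_comm, hcd]
        exact Nat.mul_le_mul_left _ hC
      obtain ⟨e, he, heX⟩ := k2 (le_antisymm k1 k3)
      exact ⟨e, he.1, heX, fun v hv => mul_inv_eq_iff_eq_mul.mpr (mem_centralizer_iff.mp he.2 v hv).symm⟩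
    obtain ⟨e1, he1, h1W, h1U⟩ := hsub (X := W) (Y := U) a b hWe (by omega) hab ha hEW h2
      fun x hxU hxW => h3 ⟨⟨hxU.1, hxW⟩, hxU⟩
    obtain ⟨e2, he2, h2U, h2W⟩ := hsub (X := U) (Y := W) b a hUe (by omega) (by omega) hb hEU h1
      fun x hxW hxU => h3 ⟨hxW, hxW.1, hxU⟩
    refine ⟨e1 * e2, mul_mem he1 he2, fun v hv => ?_⟩
    obtain ⟨w, hw, u, hu, rfl⟩ := involution_split hV (hsq e he) (hEV he) hv
    rw [show e1 * e2 * (w * u) * (e1 * e2)⁻¹ =
        (e1 * (e2 * w * e2⁻¹) * e1⁻¹) * (e1 * (e2 * u * e2⁻¹) * e1⁻¹) by group,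
      h2W w hw, h1W w hw, h2U u hu, h1U _ (inv_mem hu), mul_inv_rev]
    exact (commute_of_mem hV.1 (inv_mem hw.1) (inv_mem hu.1)).eq
  · push Not at hsplit
    set C := E ⊓ centralizer (V : Set G)
    by_cases hall : E ≤ centralizer (V : Set G)
    · rw [show C = E from inf_eq_left.mpr hall]
      refine ⟨Nat.le_mul_of_pos_left _ (by positivity), fun heq => ⟨1, one_mem _, fun v hv => ?_⟩⟩
      have hpow : 2 ^ n = 1 := Nat.eq_of_mul_eq_mul_right Nat.card_pos (by rw [one_mul, ← heq])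
      have hV1 : V = ⊥ := card_eq_one.mp (by
        rw [hn, (Nat.pow_eq_one.mp hpow).resolve_left (by norm_num), pow_zero])
      rw [hV1, mem_bot] at hv
      simp [hv]
    obtain ⟨e₀, he₀, he₀V⟩ := SetLike.not_le_iff_exists.mp hall
    have hinv : ∀ e ∈ E, e ∉ centralizer (V : Set G) → ∀ v ∈ V, e * v * e⁻¹ = v⁻¹ := by
      intro e he heV v hv
      have hW : V ⊓ centralizer ({e} : Set G) = ⊥ := by
        by_contra hne
        refine heV (mem_centralizer_iff.mpr fun x hx => ?_)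
        exact mem_centralizer_singleton_iff.mp ((hsplit e he hne).ge hx).2
      obtain ⟨w, hw, u, hu, rfl⟩ := involution_split hV (hsq e he) (hEV he) hv
      rw [hW, mem_bot] at hw
      rw [hw, one_mul]
      exact hu.2
    have hn0 : n ≠ 0 := fun h => he₀V (mem_centralizer_iff.mpr fun x hx => by
      have hV1 : V = ⊥ := card_eq_one.mp (by rw [hn, h, pow_zero])
      have : x ∈ V := hx
      rw [hV1, mem_bot] at this
      rw [this, one_mul, mul_one])
    refine ⟨le_trans (b := 2 * Nat.card C) ?_ (Nat.mul_le_mul_right _ (Nat.le_self_pow hn0 2)),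
      fun _ => ⟨e₀, he₀, hinv e₀ he₀ he₀V⟩⟩
    classical
    have hmem : ∀ e : E, (e : G) ∉ centralizer (V : Set G) → e₀ * e ∈ C := fun e he => by
      refine ⟨mul_mem he₀ e.2, mem_centralizer_iff.mpr fun v hv => ?_⟩
      have h1 := hinv e e.2 he v hv
      have h2 := hinv e₀ he₀ he₀V _ (inv_mem hv)
      have h3 : e₀ * e * v * (e₀ * e)⁻¹ = v := by
        rw [show e₀ * e * v * (e₀ * e)⁻¹ = e₀ * ((e : G) * v * (e : G)⁻¹) * e₀⁻¹ by group, h1, h2,
          inv_inv]
      exact (mul_inv_eq_iff_eq_mul.mp h3).symm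
    have hinj : Function.Injective fun e : E =>
        (if he : (e : G) ∈ centralizer (V : Set G) then (false, (⟨e, e.2, he⟩ : C))
          else (true, ⟨e₀ * e, hmem e he⟩) : Bool × C) := by
      intro x y h
      by_cases hx : (x : G) ∈ centralizer (V : Set G) <;>
        by_cases hy : (y : G) ∈ centralizer (V : Set G) <;> simp [hx, hy] at h
      · exact Subtype.ext (congrArg (fun t : C => (t : G)) h)
      · exact h
    have := Nat.card_le_card_of_injective _ hinj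
    rwa [Nat.card_prod, Nat.card_eq_fintype_card (α := Bool), Fintype.card_bool] at this

/-- A faithful elementary abelian 2-group on at most `3 ^ 4` points has order at most sixteen. -/
theorem elem_card_le_sixteen {V E : Subgroup G} (hV : Cfsg.IsElementaryAbelian 3 V)
    (hV4 : Nat.card V ≤ 3 ^ 4) (hE : Cfsg.IsElementaryAbelian 2 E)
    (hEV : E ≤ normalizer (V : Set G)) (hf : E ⊓ centralizer (V : Set G) = ⊥) : Nat.card E ≤ 16 := by
  haveI : Fact (Nat.Prime 3) := ⟨Nat.prime_three⟩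
  obtain ⟨n, hn⟩ := IsPGroup.iff_card.mp (isPGroup_of_elab hV)
  have h := (elem_card_le n hV hE hEV hn).1
  rw [hf, card_bot, mul_one] at h
  rw [hn] at hV4
  have : n ≤ 4 := (Nat.pow_le_pow_iff_right (by norm_num)).mp hV4
  exact h.trans (Nat.pow_le_pow_right (by norm_num) this)

/-- A faithful group of order sixteen on at most `3 ^ 4` points contains an inverting element. -/
theorem exists_inverting {V E : Subgroup G} (hV : Cfsg.IsElementaryAbelian 3 V)
    (hV4 : Nat.card V ≤ 3 ^ 4) (hE : Cfsg.IsElementaryAbelian 2 E)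
    (hEV : E ≤ normalizer (V : Set G)) (hf : E ⊓ centralizer (V : Set G) = ⊥)
    (h16 : Nat.card E = 16) : ∃ e ∈ E, ∀ v ∈ V, e * v * e⁻¹ = v⁻¹ := by
  haveI : Fact (Nat.Prime 3) := ⟨Nat.prime_three⟩
  obtain ⟨n, hn⟩ := IsPGroup.iff_card.mp (isPGroup_of_elab hV)
  obtain ⟨h1, h2⟩ := elem_card_le n hV hE hEV hn
  rw [hf, card_bot, mul_one, h16] at h1 h2
  rw [hn] at hV4
  have h4 : n ≤ 4 := (Nat.pow_le_pow_iff_right (by norm_num)).mp hV4
  refine h2 ?_
  have h5 : 2 ^ 4 ≤ 2 ^ n := h1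
  have : 4 ≤ n := (Nat.pow_le_pow_iff_right (by norm_num)).mp h5
  rw [show n = 4 by omega]
  norm_num

/-- If the commutators of `N` with `S` lie in a central subgroup of order two, then
`|N : C_N(S)| ≤ |S| / 2`. -/
theorem card_le_centralizer_mul {N S Z : Subgroup G} (hZN : Z ≤ N) (hZS : Z ≤ S)
    (hNZ : N ≤ centralizer (Z : Set G)) (hZ2 : Nat.card Z = 2) (hS : IsPGroup 2 S)
    (hc : ∀ n ∈ N, ∀ s ∈ S, ⁅n, s⁆ ∈ Z) (hZc : S ≤ centralizer (Z : Set G)) :
    2 * Nat.card N ≤ Nat.card ↥(N ⊓ centralizer (S : Set G)) * Nat.card S := by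
  classical
  obtain ⟨T, hT, hmax⟩ := Set.Finite.exists_maximal
    (s := {T : Subgroup G | Z ≤ T ∧ T ≤ S ∧
      2 * Nat.card N ≤ Nat.card ↥(N ⊓ centralizer (T : Set G)) * Nat.card T}) (Set.toFinite _)
    ⟨Z, le_rfl, hZS, by rw [inf_eq_left.mpr hNZ, hZ2, mul_comm]⟩
  obtain ⟨hZT, hTS, hcard⟩ := hT
  rcases eq_or_lt_of_le hTS with rfl | hlt
  · exact hcard
  exfalso
  obtain ⟨x, hxS, hxT⟩ := SetLike.exists_of_lt hlt
  set T' := T ⊔ zpowers x
  have hT'S : T' ≤ S := sup_le hTS (zpowers_le.mpr hxS)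
  haveI : Fact (Nat.Prime 2) := ⟨Nat.prime_two⟩
  have h2 : 2 * Nat.card T ≤ Nat.card T' := by
    obtain ⟨i, hi⟩ := IsPGroup.iff_card.mp (hS.to_le hTS)
    obtain ⟨j, hj⟩ := IsPGroup.iff_card.mp (hS.to_le hT'S)
    have hgt : Nat.card T < Nat.card T' := Set.ncard_lt_ncard (SetLike.coe_ssubset_coe.mpr
      (lt_of_le_of_ne le_sup_left fun e => hxT (e.ge (mem_sup_right (mem_zpowers x))))) (Set.toFinite _)
    rw [hi, hj] at hgt ⊢
    have := (Nat.pow_lt_pow_iff_right (by norm_num : 1 < 2)).mp hgt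
    calc 2 * 2 ^ i = 2 ^ (i + 1) := by rw [pow_succ, mul_comm]
      _ ≤ _ := Nat.pow_le_pow_right (by norm_num) this
  set C := N ⊓ centralizer (T : Set G)
  have hZC : Z ≤ C := le_inf hZN ((le_centralizer_iff.mp hZc).trans
    (centralizer_le (SetLike.coe_subset_coe.mpr hTS)))
  have h3 := card_le_of_commutator (b := x) hZC (inf_le_left.trans hNZ) fun c hcC => hc c hcC.1 x hxS
  have h4 : C ⊓ centralizer ({x} : Set G) ≤ N ⊓ centralizer (T' : Set G) := by
    rintro c ⟨⟨hcN, hcT⟩, hcx⟩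
    refine ⟨hcN, ?_⟩
    have hle : T' ≤ centralizer ({c} : Set G) := sup_le
      (fun t ht => mem_centralizer_singleton_iff.mpr (mem_centralizer_iff.mp hcT t ht))
      (zpowers_le.mpr (mem_centralizer_singleton_iff.mpr (mem_centralizer_singleton_iff.mp hcx).symm))
    exact mem_centralizer_iff.mpr fun t ht => mem_centralizer_singleton_iff.mp (hle ht)
  rw [hZ2] at h3
  have hmem : T' ∈ {T : Subgroup G | Z ≤ T ∧ T ≤ S ∧
      2 * Nat.card N ≤ Nat.card ↥(N ⊓ centralizer (T : Set G)) * Nat.card T} := by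
    refine ⟨hZT.trans le_sup_left, hT'S, hcard.trans ?_⟩
    calc Nat.card C * Nat.card T ≤ Nat.card ↥(C ⊓ centralizer ({x} : Set G)) * 2 * Nat.card T :=
          Nat.mul_le_mul_right _ h3
      _ = Nat.card ↥(C ⊓ centralizer ({x} : Set G)) * (2 * Nat.card T) := mul_assoc _ _ _
      _ ≤ _ := Nat.mul_le_mul (Subgroup.card_le_of_le h4) h2
  exact hxT ((hmax hmem le_sup_left) (mem_sup_right (mem_zpowers x)))

end Faithful

open Faithful

/-- Some involution of a faithful elementary group of order eight fixes `3 ^ 3` points of a group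
of order at least `3 ^ 5`. -/
theorem exists_fixed_cube {V A : Subgroup G} (hV : Cfsg.IsElementaryAbelian 3 V)
    (hV5 : 3 ^ 5 ≤ Nat.card V) (hA : Cfsg.IsElementaryAbelian 2 A) (hA3 : 2 ^ 3 ≤ Nat.card A)
    (hn : A ≤ normalizer (V : Set G)) (hf : A ⊓ centralizer (V : Set G) = ⊥) :
    ∃ a ∈ A, a ≠ 1 ∧ 3 ^ 3 ≤ Nat.card ↥(V ⊓ centralizer ({a} : Set G)) := by
  haveI : Fact (Nat.Prime 2) := ⟨Nat.prime_two⟩
  haveI : Fact (Nat.Prime 3) := ⟨Nat.prime_three⟩
  obtain ⟨n, hnV⟩ := IsPGroup.iff_card.mp (isPGroup_of_elab hV)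
  have hV2 : ¬ 2 ∣ Nat.card V := fun h => by
    rw [hnV] at h
    exact absurd (Nat.prime_two.dvd_of_dvd_pow h) (by norm_num)
  have hV1 : ¬ V ≤ (⊥ : Subgroup G) := fun h => by
    rw [le_bot_iff] at h
    rw [h, card_bot] at hV5
    norm_num at hV5
  obtain ⟨B, hBA, hB, hBV⟩ := Transitivity.exists_hyperplane_not_le (p := 2) hA hn hV2 hV1
  obtain ⟨a, ha, ha1⟩ : ∃ a ∈ B, a ≠ 1 := by
    by_contra! h
    have : B = ⊥ := eq_bot_iff.mpr fun x hx => mem_bot.mpr (h x hx)
    rw [this, card_bot] at hB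
    omega
  obtain ⟨b, hb, hba⟩ : ∃ b ∈ B, b ∉ zpowers a := by
    by_contra! h
    have h1 := Subgroup.card_le_of_le (show B ≤ zpowers a from h)
    rw [Nat.card_zpowers] at h1
    have h2 := Nat.le_of_dvd (by norm_num) (orderOf_dvd_of_pow_eq_one (hA.2 a (hBA ha)))
    omega
  have hsq : ∀ e ∈ A, e * e = 1 := fun e he => by rw [← pow_two]; exact hA.2 e he
  have hb1 : b ≠ 1 := fun h => hba (h ▸ one_mem _)
  have hab1 : a * b ≠ 1 := fun h => hba (by
    rw [eq_inv_of_mul_eq_one_right h]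
    exact inv_mem (mem_zpowers a))
  set C := V ⊓ centralizer (B : Set G)
  obtain ⟨j, hj⟩ := IsPGroup.iff_card.mp ((isPGroup_of_elab hV).to_le (inf_le_left : C ≤ V))
  have hC3 : 3 ≤ Nat.card C := by
    have hj0 : j ≠ 0 := fun h => hBV (by
      rw [le_bot_iff]
      exact card_eq_one.mp (by rw [hj, h, pow_zero]))
    rw [hj]
    exact Nat.le_self_pow hj0 3
  have hab : Commute a b := commute_of_mem hA.1 (hBA ha) (hBA hb)
  have hnV' : ∀ e ∈ A, ∀ v ∈ V, e * v * e⁻¹ ∈ V := fun e he v hv => (mem_normalizer_iff.mp (hn he) v).mp hv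
  have hin : ∀ e ∈ A, ∀ v ∈ V, v * (e * v * e⁻¹) ∈ V ⊓ centralizer ({e} : Set G) := by
    intro e he v hv
    refine ⟨mul_mem hv (hnV' e he v hv), mem_fix.mpr ?_⟩
    rw [show e * (v * (e * v * e⁻¹)) * e⁻¹ = (e * v * e⁻¹) * ((e * e) * v * (e * e)⁻¹) by group,
      hsq e he]
    simpa using (commute_of_mem hV.1 hv (hnV' e he v hv)).eq.symm
  have hCin : ∀ e ∈ B, ∀ c ∈ C, c ∈ V ⊓ centralizer ({e} : Set G) := fun e he c hc =>
    ⟨hc.1, mem_centralizer_singleton_iff.mpr (mem_centralizer_iff.mp hc.2 e he).symm⟩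
  let Ψ : V × C × C → (↥(V ⊓ centralizer ({a} : Set G)) × ↥(V ⊓ centralizer ({b} : Set G)) ×
      ↥(V ⊓ centralizer ({a * b} : Set G))) := fun q =>
    (⟨q.1 * (a * q.1 * a⁻¹) * q.2.1, mul_mem (hin a (hBA ha) _ q.1.2) (hCin a ha _ q.2.1.2)⟩,
      ⟨q.1 * (b * q.1 * b⁻¹) * q.2.2, mul_mem (hin b (hBA hb) _ q.1.2) (hCin b hb _ q.2.2.2)⟩,
      ⟨q.1 * (a * b * q.1 * (a * b)⁻¹), hin _ (mul_mem (hBA ha) (hBA hb)) _ q.1.2⟩)
  haveI := hV.1
  -- work in the commutative group `V`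
  have hΨ : Function.Injective Ψ := by
    rintro ⟨v, c, d⟩ ⟨v', c', d'⟩ h
    simp only [Ψ, Prod.mk.injEq, Subtype.mk.injEq] at h
    obtain ⟨h1, h2, h3⟩ := h
    let act : ∀ e ∈ A, V →* V := fun e he =>
      { toFun := fun x => ⟨e * x * e⁻¹, hnV' e he x x.2⟩
        map_one' := Subtype.ext (by simp)
        map_mul' := fun x y => Subtype.ext (by simp [mul_assoc]) }
    letI : CommGroup V := { (inferInstance : Group V) with mul_comm := fun x y => hV.1.is_comm.comm x y }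
    set α := act a (hBA ha)
    set β := act b (hBA hb)
    set w : V := v / v'
    set g1 : V := ⟨c, c.2.1⟩ / ⟨c', c'.2.1⟩
    set g2 : V := ⟨d, d.2.1⟩ / ⟨d', d'.2.1⟩
    have e1 : w * α w * g1 = 1 := by
      rw [map_div, div_mul_div_comm, div_mul_div_comm, div_eq_one]
      exact Subtype.ext h1
    have e2 : w * β w * g2 = 1 := by
      rw [map_div, div_mul_div_comm, div_mul_div_comm, div_eq_one]
      exact Subtype.ext h2
    have hαβ : ∀ x : V, α (β x) = act (a * b) (mul_mem (hBA ha) (hBA hb)) x := fun x =>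
      Subtype.ext (by show a * (b * x * b⁻¹) * a⁻¹ = a * b * x * (a * b)⁻¹; group)
    have e3 : w * α (β w) = 1 := by
      rw [map_div, map_div, div_mul_div_comm, div_eq_one, hαβ, hαβ]
      exact Subtype.ext h3
    have hg : ∀ e (he : e ∈ B) (x : C), act e (hBA he) ⟨x, x.2.1⟩ = ⟨x, x.2.1⟩ := fun e he x =>
      Subtype.ext (mem_fix.mp (hCin e he x x.2).2)
    have hβg1 : β g1 = g1 := by rw [map_div, hg _ hb, hg _ hb]
    have hαg1 : α g1 = g1 := by rw [map_div, hg _ ha, hg _ ha]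
    have hαg2 : α g2 = g2 := by rw [map_div, hg _ ha, hg _ ha]
    have hβg2 : β g2 = g2 := by rw [map_div, hg _ hb, hg _ hb]
    have hαw : α w = w⁻¹ * g1⁻¹ := by
      rw [eq_inv_mul_iff_mul_eq, eq_inv_iff_mul_eq_one]
      exact e1
    have hβw : β w = w⁻¹ * g2⁻¹ := by
      rw [eq_inv_mul_iff_mul_eq, eq_inv_iff_mul_eq_one]
      exact e2
    rw [hβw, map_mul, map_inv, map_inv, hαw, hαg2] at e3
    have h3' : ∀ x : V, x * x * x = 1 := fun x => Subtype.ext (cube_eq_one hV x.2)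
    have k3 : w * w * g1 * g2⁻¹ = 1 := by
      rw [← e3]; simp [mul_comm, mul_left_comm, mul_assoc]
    have kβ := congrArg β k3
    simp only [map_mul, map_inv, hβw, hβg1, hβg2, map_one] at kβ
    have kα := congrArg α k3
    simp only [map_mul, map_inv, hαw, hαg1, hαg2, map_one] at kα
    obtain ⟨k4, k5⟩ := solve_mul k3 kβ kα
    have two : ∀ x : V, x * x = 1 → x = 1 := fun x hx => by
      have := h3' x; rwa [hx, one_mul] at this
    have hg2 : g2 = 1 := two _ (inv_eq_one.mp k5)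
    rw [hg2] at k4
    have hg1 : g1 = 1 := two _ (by simpa using k4)
    rw [hg1, hg2] at k3
    have hw : w = 1 := two _ (by simpa using k3)
    have hv : v = v' := div_eq_one.mp hw
    have hc' : (⟨(c : G), c.2.1⟩ : V) = ⟨(c' : G), c'.2.1⟩ := div_eq_one.mp hg1
    have hd' : (⟨(d : G), d.2.1⟩ : V) = ⟨(d' : G), d'.2.1⟩ := div_eq_one.mp hg2
    have hc : c = c' := Subtype.ext (congrArg Subtype.val hc' :)
    have hd : d = d' := Subtype.ext (congrArg Subtype.val hd' :)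
    rw [hv, hc, hd]
  have hle := Nat.card_le_card_of_injective Ψ hΨ
  simp only [Nat.card_prod] at hle
  by_contra hcon
  push Not at hcon
  have hlt : ∀ e ∈ A, e ≠ 1 → Nat.card ↥(V ⊓ centralizer ({e} : Set G)) ≤ 9 := by
    intro e he he1
    obtain ⟨i, hi⟩ := IsPGroup.iff_card.mp
      ((isPGroup_of_elab hV).to_le (inf_le_left : V ⊓ centralizer ({e} : Set G) ≤ V))
    have := hcon e he he1
    rw [hi] at this ⊢
    have : i < 3 := (Nat.pow_lt_pow_iff_right (by norm_num)).mp this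
    interval_cases i <;> norm_num
  have hprod := Nat.mul_le_mul (hlt a (hBA ha) ha1)
    (Nat.mul_le_mul (hlt b (hBA hb) hb1) (hlt _ (mul_mem (hBA ha) (hBA hb)) hab1))
  have : 3 ^ 5 * (3 * 3) ≤ 9 * (9 * 9) :=
    ((Nat.mul_le_mul hV5 (Nat.mul_le_mul hC3 hC3)).trans hle).trans hprod
  norm_num at this

end CfsgLib.TwoGenSolv66
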