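import Cfsg.Agent.TwoGenSolv66.Objects
import Cfsg.Agent.FrobComp.Complement

/-!
# Uniqueness is contradictory

If every object lies in a unique maximal subgroup through `x`, then these maximal subgroups cover
`G` and meet pairwise in one malnormal subgroup, so `G` is a Frobenius group.
-/

set_option autoImplicit false
set_option linter.unusedSectionVars false
set_option linter.unusedVariables false
set_option linter.style.haveILetI false

open scoped commutatorElement Pointwise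

namespace CfsgLib.TwoGenSolv66

open Subgroup CfsgLib.SolvSig CfsgLib.Transitivity

universe u

variable {G : Type u} [Group G] [Finite G]

/-- A simple group is not covered by subgroups meeting pairwise in a fixed one, the subgroups and
the intersection being proper and the intersection nontrivial. -/
theorem false_of_cover (hs : ∀ N : Subgroup G, N.Normal → N = ⊥ ∨ N = ⊤) {ℱ : Set (Subgroup G)}
    {I : Subgroup G} (hI1 : I ≠ ⊥) (hItop : ∀ M ∈ ℱ, M ≠ ⊤) (hIM : ∀ M ∈ ℱ, I ≤ M)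
    (hcov : ∀ g ∉ I, ∃ M ∈ ℱ, g ∈ M) (hne : ℱ.Nonempty)
    (hinf : ∀ M ∈ ℱ, ∀ M' ∈ ℱ, M ≠ M' → M ⊓ M' ≤ I) : False := by
  obtain ⟨Mne, hMne⟩ := hne
  have hIne : I ≠ ⊤ := fun e => hItop Mne hMne (top_le_iff.mp (e ▸ hIM Mne hMne))
  have key : ∀ g ∉ I, ∀ h ∈ I, g⁻¹ * h * g ∈ I → h = 1 := by
    intro g hg h hh hgh
    obtain ⟨M₀, hM₀, hgM₀⟩ := hcov g hg
    have step : ∀ k ∉ M₀, k⁻¹ * h * k ∈ I := by
      intro k hk
      have hkI : k ∉ I := fun e => hk (hIM M₀ hM₀ e)
      obtain ⟨M₁, hM₁, hkM₁⟩ := hcov k hkI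
      have hgk : g⁻¹ * k ∉ I := fun e => hk (by
        have := mul_mem hgM₀ (hIM M₀ hM₀ e); rwa [mul_inv_cancel_left] at this)
      obtain ⟨M₂, hM₂, hgkM₂⟩ := hcov _ hgk
      have hne12 : M₁ ≠ M₂ := by
        rintro rfl
        have hgM : g ∈ M₁ := by
          have := mul_mem hkM₁ (inv_mem hgkM₂)
          rwa [mul_inv_rev, inv_inv, ← mul_assoc, mul_inv_cancel, one_mul] at this
        rcases eq_or_ne M₁ M₀ with rfl | hne
        · exact hk hkM₁
        · exact hg (hinf M₁ hM₁ M₀ hM₀ hne (mem_inf.2 ⟨hgM, hgM₀⟩))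
      refine hinf M₁ hM₁ M₂ hM₂ hne12 (mem_inf.2 ⟨?_, ?_⟩)
      · exact mul_mem (mul_mem (inv_mem hkM₁) (hIM M₁ hM₁ hh)) hkM₁
      · have := mul_mem (mul_mem (inv_mem hgkM₂) (hIM M₂ hM₂ hgh)) hgkM₂
        simpa [mul_assoc] using this
    obtain ⟨k₁, hk₁⟩ : ∃ k₁, k₁ ∉ M₀ := by
      by_contra! hh'
      exact hItop M₀ hM₀ (eq_top_iff.mpr fun y _ => hh' y)
    obtain ⟨M₁, hM₁, hk₁M₁⟩ := hcov k₁ fun e => hk₁ (hIM M₀ hM₀ e)
    have hne01 : M₁ ≠ M₀ := fun e => hk₁ (e ▸ hk₁M₁)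
    have hall : ∀ k : G, k⁻¹ * h * k ∈ I := by
      intro k
      by_cases hkI : k ∈ I
      · exact mul_mem (mul_mem (inv_mem hkI) hh) hkI
      by_cases hkM₀ : k ∈ M₀
      · have hkM₁ : k ∉ M₁ := fun e => hkI (hinf M₁ hM₁ M₀ hM₀ hne01 (mem_inf.2 ⟨e, hkM₀⟩))
        -- the same argument with base point `k₁`
        obtain ⟨M₂, hM₂, hM₂k⟩ := hcov (k₁⁻¹ * k) (fun e => hkM₁ (by
          have := mul_mem hk₁M₁ (hIM M₁ hM₁ e); rwa [mul_inv_cancel_left] at this))
        have hne02 : M₀ ≠ M₂ := by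
          rintro rfl
          refine hk₁ ?_
          have := mul_mem hkM₀ (inv_mem hM₂k)
          rwa [mul_inv_rev, inv_inv, ← mul_assoc, mul_inv_cancel, one_mul] at this
        refine hinf M₀ hM₀ M₂ hM₂ hne02 (mem_inf.2 ⟨?_, ?_⟩)
        · exact mul_mem (mul_mem (inv_mem hkM₀) (hIM M₀ hM₀ hh)) hkM₀
        · have := mul_mem (mul_mem (inv_mem hM₂k) (hIM M₂ hM₂ (step k₁ hk₁))) hM₂k
          simpa [mul_assoc] using this
      · exact step k hkM₀
    have hcore : I.normalCore = ⊥ := (hs _ inferInstance).resolve_right fun e =>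
      hIne (top_le_iff.mp (e ▸ normalCore_le I))
    have : h ∈ I.normalCore := fun b => by simpa using hall b⁻¹
    rwa [hcore, mem_bot] at this
  have hfrob : Cfsg.IsFrobeniusComplement I := by
    refine ⟨hI1, hIne, fun g hg => (Subgroup.eq_bot_iff_forall _).mpr fun z hz => ?_⟩
    obtain ⟨hzI, hzg⟩ := hz
    replace hzg : z ∈ MulAut.conj g • I := hzg
    rw [Coprime.mem_conj_smul] at hzg
    exact key g hg z hzI (by simpa [mul_assoc] using hzg)
  obtain ⟨N, hN, hc, -⟩ := FrobComp.exists_kernel hfrob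
  rcases hs N hN with rfl | rfl
  · exact hIne (isComplement'_bot_left.mp hc)
  · exact hI1 (isComplement'_top_left.mp hc)

variable {p : ℕ} [hp : Fact p.Prime] {x : G}

namespace Ctx

variable (h : Ctx G p x)
include h

/-- The normaliser of `⟨x⟩` lies in the maximal subgroup of a uniquely covered object. -/
theorem normalizer_zpowers_le {r : ℕ} {A L : Subgroup G} (hU : UniqueObj p x) (hA : IsObj p x r A)
    (hL : IsCoatom L) (hxL : x ∈ L) (hAL : A ≤ L) :
    normalizer ((zpowers x : Subgroup G) : Set G) ≤ L := by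
  intro c hc
  obtain ⟨d, hd, hdx⟩ : ∃ d ∈ A, ¬ Commute d x := by
    by_contra! hh
    exact obj_moved hA (mem_centralizer_iff.mpr fun d hd => (hh d hd).eq)
  obtain ⟨M, hM, hxM, hcM, hJ⟩ := h.exists_coatom_commutator hA.inv
    (h.not_dvd_of_isPGroup hA.prime hA.ne hA.isPGroup) hd hc
  have hD : x ∈ normalizer ((M ⊓ A : Subgroup G) : Set G) :=
    inf_normalizer_le_normalizer_inf ⟨le_normalizer hxM, hA.inv⟩
  have hmem : x⁻¹ * (d⁻¹ * x * d) ∈ M ⊓ A := by
    refine mem_inf.2 ⟨mul_mem (inv_mem hxM) (hJ (subset_closure (Set.mem_insert_of_mem _ rfl))), ?_⟩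
    rw [show x⁻¹ * (d⁻¹ * x * d) = x⁻¹ * d⁻¹ * x * d by group]
    refine mul_mem ?_ hd
    have := (mem_normalizer_iff.mp (inv_mem hA.inv) d⁻¹).mp (inv_mem hd)
    simpa using this
  have hmv : x ∉ centralizer ((M ⊓ A : Subgroup G) : Set G) := by
    intro hcen
    -- `[A,x,x] = [A,x]` for the coprime action
    have h1 := mem_centralizer_iff.mp hcen _ hmem
    haveI := Fact.mk hA.prime
    apply hdx
    set u := x⁻¹ * (d⁻¹ * x * d) with hu
    have hxu : d⁻¹ * x * d = x * u := by rw [hu, mul_inv_cancel_left]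
    have hup : u ^ p = 1 := by
      have h2 : (x * u) ^ p = 1 := by
        rw [← hxu, show d⁻¹ * x * d = MulAut.conj d⁻¹ x by simp, ← map_pow, h.pow_eq, map_one]
      rw [(show Commute x u from h1.symm).mul_pow, h.pow_eq, one_mul] at h2
      exact h2
    obtain ⟨k, hk⟩ := hA.isPGroup ⟨u, hmem.2⟩
    have hu1 : u = 1 := orderOf_eq_one_iff.mp (Nat.eq_one_of_dvd_coprimes
      (((Nat.coprime_primes hA.prime hp.out).mpr hA.ne).pow_left k)
      (orderOf_dvd_of_pow_eq_one (congrArg Subtype.val hk)) (orderOf_dvd_of_pow_eq_one hup))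
    rw [hu1, mul_one, mul_assoc, inv_mul_eq_iff_eq_mul] at hxu
    exact hxu.symm
  obtain ⟨hobj, hle⟩ := h.obj_of_moved hA.prime hA.ne (hA.isPGroup.to_le inf_le_right) hD hmv
  exact (hU r _ hobj L M hL hxL (hle.trans (inf_le_right.trans hAL)) hM hxM
    (hle.trans inf_le_left)).symm ▸ hcM

/-- An element carrying `x` into its centraliser lies in every such maximal subgroup. -/
theorem mem_of_commute_conj {r : ℕ} {A L : Subgroup G} (hU : UniqueObj p x) (hA : IsObj p x r A)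
    (hL : IsCoatom L) (hxL : x ∈ L) (hAL : A ≤ L) {n : G} (hn : Commute (n * x * n⁻¹) x) :
    n ∈ L := by
  set y := n * x * n⁻¹ with hy
  have hCx : centralizer ({x} : Set G) ≤ L := by
    rw [centralizer_singleton_eq]
    exact (centralizer_le_normalizer _).trans (h.normalizer_zpowers_le hU hA hL hxL hAL)
  have hyL : y ∈ L := hCx (mem_centralizer_singleton_iff.mpr hn.eq)
  by_cases hall : ∀ e ∈ A, Commute (e * y * e⁻¹) x
  · -- `y` centralises `A`
    have hAy : A ≤ centralizer ({y} : Set G) := by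
      rw [← hA.eq, commutator_le]
      intro e he g hg
      obtain ⟨k, rfl⟩ := mem_zpowers_iff.mp hg
      have h1 : Commute y (e⁻¹ * x * e) := by
        have := (hall e he).map (MulAut.conj e⁻¹).toMonoidHom
        simpa [mul_assoc] using this
      have h2 : Commute y (e * x ^ k * e⁻¹) := by
        have h3 := (hall e⁻¹ (inv_mem he)).map (MulAut.conj e).toMonoidHom
        simp only [MulEquiv.coe_toMonoidHom, MulAut.conj_apply, inv_inv] at h3
        rw [show e * (e⁻¹ * y * e) * e⁻¹ = y by group] at h3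
        have := h3.zpow_right k
        rwa [conj_zpow] at this
      refine mem_centralizer_singleton_iff.mpr ?_
      rw [commutatorElement_def]
      exact (h2.mul_right (hn.zpow_right k).inv_right).symm.eq
    have hL1 : centralizer ({y} : Set G) ≤ L.map (MulAut.conj n).toMonoidHom := by
      intro c hc
      refine ⟨n⁻¹ * c * n, hCx (mem_centralizer_singleton_iff.mpr ?_), by simp [mul_assoc]⟩
      have := (show Commute c y from mem_centralizer_singleton_iff.mp hc).map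
        (MulAut.conj n⁻¹).toMonoidHom
      rw [hy] at this
      simp only [MulEquiv.coe_toMonoidHom, MulAut.conj_apply, inv_inv] at this
      rw [show n⁻¹ * (n * x * n⁻¹) * n = x by group] at this
      exact this.eq
    have hco : IsCoatom (L.map (MulAut.conj n).toMonoidHom) :=
      (OrderIso.isCoatom_iff (MulEquiv.mapSubgroup (MulAut.conj n)) L).mpr hL
    have hxL1 : x ∈ L.map (MulAut.conj n).toMonoidHom :=
      hL1 (mem_centralizer_singleton_iff.mpr hn.symm.eq)
    have he := hU r A hA L _ hL hxL hAL hco hxL1 (hAy.trans hL1)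
    exact (h.coatom_normalizer_eq hL hxL).le
      (mem_normalizer_iff_map_conj_eq.mpr he.symm)
  · push Not at hall
    obtain ⟨e, he, hne⟩ := hall
    obtain ⟨M, hM, hxM, hgM, hgxM⟩ := h.exists_coatom_conj
      (c := (1 : G)) (one_mem _) (e * n)⁻¹
    have heyM : e * y * e⁻¹ ∈ M := by
      rw [inv_inv] at hgxM
      simpa [hy, mul_assoc] using hgxM
    have hML : M ⊓ L ≠ ⊤ := fun e' => hL.1 (top_le_iff.mp (e' ▸ inf_le_right))
    obtain ⟨r', A', hA', hA'le⟩ := h.exists_obj hML (mem_inf.2 ⟨hxM, hxL⟩ : x ∈ M ⊓ L)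
      (y := e * y * e⁻¹) (isConj_iff.mpr ⟨e * n, by rw [hy]; group⟩)
      (mem_inf.2 ⟨heyM, mul_mem (mul_mem (hAL he) hyL) (inv_mem (hAL he))⟩) hne
    have := hU r' A' hA' M L hM hxM (hA'le.trans inf_le_left) hL hxL (hA'le.trans inf_le_right)
    have h2 : e * n ∈ L := by
      rw [← this]
      simpa using inv_mem hgM
    have h3 := mul_mem (inv_mem (hAL he)) h2
    rwa [inv_mul_cancel_left] at h3

/-- Uniqueness is contradictory. -/
theorem false_of_uniqueObj (hU : UniqueObj p x) : False := by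
  let ℱ : Set (Subgroup G) := {M | IsCoatom M ∧ x ∈ M ∧ ∃ r A, IsObj p x r A ∧ A ≤ M}
  have hmem : ∀ g : G, ¬ Commute (g * x * g⁻¹) x → ∃ M ∈ ℱ, g ∈ M := by
    intro g hg
    obtain ⟨M, hM, hxM, hgM, hgx⟩ := h.exists_coatom_conj (c := (1 : G)) (one_mem _) g⁻¹
    obtain ⟨r, A, hA, hAM⟩ := h.exists_obj hM.1 hxM (y := g * x * g⁻¹)
      (isConj_iff.mpr ⟨g, rfl⟩) (by simpa using hgx) hg
    exact ⟨M, ⟨hM, hxM, r, A, hA, hAM⟩, by simpa using inv_mem hgM⟩
  have hI : ∀ M ∈ ℱ, ∀ n : G, Commute (n * x * n⁻¹) x → n ∈ M := by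
    rintro M ⟨hM, hxM, r, A, hA, hAM⟩ n hn
    exact h.mem_of_commute_conj hU hA hM hxM hAM hn
  obtain ⟨g₀, hg₀⟩ : ∃ g : G, ¬ Commute (g * x * g⁻¹) x := by
    by_contra! hh
    -- the conjugates of `x` generate an abelian normal subgroup
    set S : Set G := {y | IsConj x y}
    haveI : (Subgroup.normalClosure ({x} : Set G)).Normal := inferInstance
    have hab : ∀ a ∈ Subgroup.normalClosure ({x} : Set G), ∀ b ∈ Subgroup.normalClosure ({x} : Set G),
        a * b = b * a := by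
      have hc : IsMulCommutative (Subgroup.closure (Group.conjugatesOfSet ({x} : Set G))) := by
        refine isMulCommutative_closure fun a ha b hb => ?_
        simp only [Group.conjugatesOfSet, Set.mem_iUnion, Set.mem_singleton_iff] at ha hb
        obtain ⟨a₀, rfl, ha⟩ := ha
        obtain ⟨b₀, rfl, hb⟩ := hb
        obtain ⟨g, rfl⟩ := isConj_iff.mp ha
        obtain ⟨k, rfl⟩ := isConj_iff.mp hb
        have := (hh (k⁻¹ * g)).map (MulAut.conj k).toMonoidHom
        simpa [mul_assoc] using this.eq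
      exact fun a ha b hb => congrArg Subtype.val (hc.is_comm.comm ⟨a, ha⟩ ⟨b, hb⟩)
    rcases h.hyp.simple _ (inferInstance : (Subgroup.normalClosure ({x} : Set G)).Normal) with e | e
    · exact h.ne_one (mem_bot.mp (e ▸ subset_normalClosure rfl))
    · exact h.hyp.not_solvable (Group.isSolvable_of_comm fun a b =>
        hab a (e ▸ mem_top a) b (e ▸ mem_top b))
  obtain ⟨M₁, hM₁, hg₀M₁⟩ := hmem g₀ hg₀
  by_cases hone : ∀ M ∈ ℱ, M = M₁
  · refine hM₁.1.1 (eq_top_iff.mpr fun g _ => ?_)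
    by_cases hg : Commute (g * x * g⁻¹) x
    · exact hI M₁ hM₁ g hg
    · obtain ⟨M, hM, hgM⟩ := hmem g hg
      exact hone M hM ▸ hgM
  push Not at hone
  obtain ⟨M₂, hM₂, hne⟩ := hone
  have hinf : ∀ M ∈ ℱ, ∀ M' ∈ ℱ, M ≠ M' → ∀ g ∈ M ⊓ M', Commute (g * x * g⁻¹) x := by
    intro M hM M' hM' hne' g hg
    by_contra hgc
    have hx' : x ∈ M ⊓ M' := mem_inf.2 ⟨hM.2.1, hM'.2.1⟩
    obtain ⟨r, A, hA, hAle⟩ := h.exists_obj (fun e' => hM.1.1 (top_le_iff.mp (e' ▸ inf_le_left)))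
      hx' (y := g * x * g⁻¹) (isConj_iff.mpr ⟨g, rfl⟩)
      (mul_mem (mul_mem hg hx') (inv_mem hg)) hgc
    exact hne' (hU r A hA M M' hM.1 hM.2.1 (hAle.trans inf_le_left) hM'.1 hM'.2.1
      (hAle.trans inf_le_right))
  refine false_of_cover h.hyp.simple (ℱ := ℱ) (I := M₁ ⊓ M₂) ?_ (fun M hM => hM.1.1) ?_ ?_ ⟨M₁, hM₁⟩ ?_
  · exact fun e => h.ne_one (mem_bot.mp (e ▸ (mem_inf.2 ⟨hM₁.2.1, hM₂.2.1⟩ : x ∈ M₁ ⊓ M₂)))
  · exact fun M hM g hg => hI M hM g (hinf M₁ hM₁ M₂ hM₂ (Ne.symm hne) g hg)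
  · exact fun g hg => hmem g fun hc => hg (mem_inf.2 ⟨hI M₁ hM₁ g hc, hI M₂ hM₂ g hc⟩)
  · exact fun M hM M' hM' hne' g hg =>
      mem_inf.2 ⟨hI M₁ hM₁ g (hinf M hM M' hM' hne' g hg), hI M₂ hM₂ g (hinf M hM M' hM' hne' g hg)⟩

end Ctx

end CfsgLib.TwoGenSolv66
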