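import Cfsg.Agent.TwoGenSolv66.Rank
import Cfsg.Agent.S1295
import Cfsg.Agent.S1337

/-!
# The signalizer closure at the primes of rank three

* `W q A` : the closure of `a ↦ O_{q'}(C(a))` over `A`, elementary abelian of order at least `q ^ 3`;
  it is constant on the groups inside one `q`-group and is equivariant.
* `IsTriv q` : all these cores are trivial.
* `le_normalizer_W` : a solvable group whose `O_{q',q}` has rank three normalises `W q A`.
-/

set_option autoImplicit false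
set_option linter.unusedSectionVars false
set_option linter.unusedVariables false
set_option linter.style.haveILetI false

open scoped commutatorElement

namespace CfsgLib.TwoGenSolv66

open Subgroup CfsgLib.SolvSig CfsgLib.Transitivity

universe u

/-- The signalizer closure. -/
abbrev W {G : Type*} [Group G] (q : ℕ) (A : Subgroup G) : Subgroup G :=
  Cfsg.signalizerClosure A (Cfsg.centralizerPPrimeCore q)

/-- All cores of centralisers of points are trivial. -/
def IsTriv (q : ℕ) (G : Type*) [Group G] : Prop :=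
  ∀ a : G, SolvSig.RankThreePoint q a → Cfsg.centralizerPPrimeCore q a = ⊥

/-- An elementary abelian subgroup of order at least `q ^ 3`. -/
def IsElem3 {G : Type*} [Group G] (q : ℕ) (A : Subgroup G) : Prop :=
  Cfsg.IsElementaryAbelian q A ∧ q ^ 3 ≤ Nat.card A

variable {G : Type u} [Group G] [Finite G] {q : ℕ} [hq : Fact q.Prime]

theorem IsElem3.not_pRankLE {A : Subgroup G} (hA : IsElem3 q A) : ¬ Cfsg.PRankLE q 2 ↥A :=
  not_pRankLE_iff.mpr ⟨A, le_rfl, hA.1,
    lt_of_lt_of_le (Nat.pow_lt_pow_right hq.out.one_lt (by norm_num)) hA.2⟩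

theorem hasRank3_iff {R : Subgroup G} : HasRank3 q R ↔ ¬ Cfsg.PRankLE q 2 ↥R := by
  rw [not_pRankLE_iff]
  exact ⟨fun ⟨E, hER, hE, h3⟩ => ⟨E, hER, hE,
      lt_of_lt_of_le (Nat.pow_lt_pow_right hq.out.one_lt (by norm_num)) h3⟩,
    fun ⟨E, hER, hE, h3⟩ => ⟨E, hER, hE, pow_succ_le_card hE h3⟩⟩

theorem hasRank3_iff_exists {R : Subgroup G} : HasRank3 q R ↔ ∃ A, A ≤ R ∧ IsElem3 q A := Iff.rfl

theorem IsElem3.comm {A : Subgroup G} (hA : IsElem3 q A) : A ≤ centralizer (A : Set G) :=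
  le_centralizer_iff_isMulCommutative.mpr hA.1.1

theorem IsElem3.point {A : Subgroup G} (hA : IsElem3 q A) {a : G} (ha : a ∈ A) (ha1 : a ≠ 1) :
    SolvSig.RankThreePoint q a :=
  rankThreePoint_of_mem hA.1 hA.comm hA.not_pRankLE ha ha1

theorem IsElem3.isPGroup {A : Subgroup G} (hA : IsElem3 q A) : IsPGroup q A :=
  PLocal.isPGroup_of_isElementaryAbelian hA.1

theorem IsElem3.conj {A : Subgroup G} (hA : IsElem3 q A) (g : G) :
    IsElem3 q (A.map (MulAut.conj g).toMonoidHom) :=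
  ⟨OddOrder.isElementaryAbelian_map _ hA.1, by
    rw [card_map_of_injective (MulAut.conj g).injective]; exact hA.2⟩

/-- A point lies in an elementary abelian group of order at least `q ^ 3`. -/
theorem exists_isElem3_of_point {a : G} (ha : SolvSig.RankThreePoint q a) :
    ∃ A, IsElem3 q A ∧ a ∈ A := by
  obtain ⟨A₀, hA₀, hel, hlt⟩ := not_pRankLE_iff.mp ha.2
  refine ⟨A₀ ⊔ zpowers a, ⟨OddOrder.BG11.elem_sup_zpowers hel ?_ ?_, ?_⟩,
    mem_sup_right (mem_zpowers a)⟩
  · rw [← ha.1]; exact pow_orderOf_eq_one a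
  · exact le_centralizer_iff.mp (centralizer_singleton_eq a ▸ hA₀) (mem_zpowers a)
  · exact (pow_succ_le_card hel hlt).trans
      (Nat.card_le_card_of_injective _ (inclusion_injective le_sup_left))

theorem card_ne_zero_pow_two {E : Subgroup G} (hE : q ^ 2 ≤ Nat.card E) : E ≠ ⊥ := by
  rintro rfl
  rw [card_bot] at hE
  exact absurd hE (not_le.mpr (Nat.one_lt_pow (by norm_num) hq.out.one_lt))

namespace MinTwoGen

variable (h : MinTwoGen G)
include h

theorem theta_spec (a : G) (ha : SolvSig.RankThreePoint q a) :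
    Cfsg.centralizerPPrimeCore q a ≤ centralizer ({a} : Set G) ∧
      ¬ q ∣ Nat.card ↥(Cfsg.centralizerPPrimeCore q a) ∧
      Group.IsSolvable ↥(Cfsg.centralizerPPrimeCore q a) :=
  ⟨map_subtype_le _, Cfsg.Agent.S1295.not_dvd_centralizerPPrimeCore a,
    isSolvable_of_comm_le (h.sub _ (h.centralizer_ne_top fun e => by
      have := ha.1; rw [e, orderOf_one] at this; exact hq.out.ne_one this.symm)) (map_subtype_le _)⟩

omit h in
theorem theta_conj (a g : G) (_ : SolvSig.RankThreePoint q a) :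
    Cfsg.centralizerPPrimeCore q (g * a * g⁻¹) =
      (Cfsg.centralizerPPrimeCore q a).map (MulAut.conj g).toMonoidHom :=
  Cfsg.Agent.S1295.centralizerPPrimeCore_conj a g

theorem theta_balance (a b : G) (ha : SolvSig.RankThreePoint q a)
    (hb : SolvSig.RankThreePoint q b) (hab : a * b = b * a) :
    Cfsg.centralizerPPrimeCore q a ⊓ centralizer {b} ≤ Cfsg.centralizerPPrimeCore q b := by
  haveI := h.sub _ (h.centralizer_ne_top (a := b) fun e => by
    have := hb.1; rw [e, orderOf_one] at this; exact hq.out.ne_one this.symm)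
  exact Cfsg.Agent.S1295.balance
    (PLocal.isPConstrained_of_isPSolvable PLocal.isPSolvable_of_isSolvable) ha.1 hab

theorem W_eq_of_le {E A : Subgroup G} (hA : IsElem3 q A) (hE : q ^ 2 ≤ Nat.card E) (hEA : E ≤ A) :
    W q A = W q E :=
  closure_eq_of_le h.theta_spec (fun a g ha => theta_conj a g ha) h.theta_balance hA.1
    hA.not_pRankLE hE hEA

/-- `W` is constant inside a `q`-group. -/
theorem W_eq_of_pGroup {S A A' : Subgroup G} (hS : IsPGroup q S) (hA : IsElem3 q A)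
    (hA' : IsElem3 q A') (hAS : A ≤ S) (hA'S : A' ≤ S) : W q A = W q A' := by
  have hrk : ¬ Cfsg.PRankLE q 2 ↥S := hasRank3_iff.mp ⟨A, hAS, hA⟩
  obtain ⟨U₀, hUn, hU, hU2⟩ := Cfsg.Agent.S1337.exists_normal_sq hS hrk
  haveI := hUn
  set U := U₀.map S.subtype
  have hUel : Cfsg.IsElementaryAbelian q U := OddOrder.isElementaryAbelian_map _ hU
  have hUc : Nat.card U = q ^ 2 := by rw [card_map_of_injective S.subtype_injective, hU2]
  suffices key : ∀ {B : Subgroup G}, IsElem3 q B → B ≤ S → W q B = W q U from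
    (key hA hAS).trans (key hA' hA'S).symm
  intro B hB hBS
  have hD₀ : q ^ 2 ≤ Nat.card ↥(B.subgroupOf S ⊓ centralizer (U₀ : Set S) : Subgroup S) :=
    Cfsg.Agent.S1337.inf_centralizer_card hS hUn hU hU2
      (by rw [Nat.card_congr (subgroupOfEquivOfLe hBS).toEquiv]; exact hB.2)
  set D := (B.subgroupOf S ⊓ centralizer (U₀ : Set S)).map S.subtype
  have hDc : q ^ 2 ≤ Nat.card D := by rw [card_map_of_injective S.subtype_injective]; exact hD₀
  have hDB : D ≤ B := by
    rintro _ ⟨d, hd, rfl⟩; exact hd.1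
  have hDU : D ≤ centralizer (U : Set G) := by
    rintro _ ⟨d, hd, rfl⟩
    rw [mem_centralizer_iff]
    rintro _ ⟨v, hv, rfl⟩
    exact congrArg Subtype.val (mem_centralizer_iff.mp hd.2 v hv)
  have hDel : Cfsg.IsElementaryAbelian q D := elab_of_le_of_elab hB.1 hDB
  rw [h.W_eq_of_le hB hDc hDB]
  by_cases hle : D ≤ U
  · rw [eq_of_le_of_card_ge hle (hUc ▸ hDc)]
  have hUD : IsElem3 q (U ⊔ D) := by
    refine ⟨isElementaryAbelian_sup hUel hDel hDU, pow_succ_le_card
      (isElementaryAbelian_sup hUel hDel hDU) ?_⟩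
    rw [← hUc]
    exact Set.ncard_lt_ncard (SetLike.coe_ssubset_coe.mpr (le_sup_left.lt_of_ne fun e =>
      hle (e ▸ le_sup_right))) (Set.toFinite _)
  rw [← h.W_eq_of_le hUD hDc le_sup_right, ← h.W_eq_of_le hUD hUc.ge le_sup_left]

omit h in
theorem W_conj {A : Subgroup G} (hA : ∀ a ∈ A, a ≠ 1 → SolvSig.RankThreePoint q a) (g : G) :
    W q (A.map (MulAut.conj g).toMonoidHom) = (W q A).map (MulAut.conj g).toMonoidHom := by
  simp only [W, Cfsg.signalizerClosure, Subgroup.map_iSup]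
  refine le_antisymm (iSup_le ?_) (iSup_le fun a => ?_)
  · rintro ⟨_, ⟨a, ha, rfl⟩, hne⟩
    have ha1 : a ≠ 1 := fun e => hne (by simp [e])
    refine (theta_conj a g (hA a ha ha1)).le.trans ?_
    exact le_iSup (fun x : {x : G // x ∈ A ∧ x ≠ 1} =>
      (Cfsg.centralizerPPrimeCore q (x : G)).map (MulAut.conj g).toMonoidHom) ⟨a, ha, ha1⟩
  · refine (theta_conj _ g (hA a a.2.1 a.2.2)).ge.trans
      (le_iSup (fun y : {y : G // y ∈ A.map (MulAut.conj g).toMonoidHom ∧ y ≠ 1} =>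
        Cfsg.centralizerPPrimeCore q (y : G)) ⟨g * a * g⁻¹, mem_map_of_mem _ a.2.1, fun e => ?_⟩)
    exact a.2.2 (by rwa [mul_inv_eq_one, mul_eq_left] at e)

/-- An element carrying `A` into a `q`-group containing `A` normalises `W q A`. -/
theorem mem_normalizer_W {S A : Subgroup G} (hS : IsPGroup q S) (hA : IsElem3 q A) (hAS : A ≤ S)
    {g : G} (hg : A.map (MulAut.conj g).toMonoidHom ≤ S) : g ∈ normalizer (W q A : Set G) := by
  exact mem_normalizer_iff_map_conj_eq.mpr ((W_conj (fun a ha ha1 => hA.point ha ha1) g).symm.trans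
    (h.W_eq_of_pGroup hS (hA.conj g) hA hg hAS))

theorem pGroup_le_normalizer_W {S A : Subgroup G} (hS : IsPGroup q S) (hA : IsElem3 q A)
    (hAS : A ≤ S) : S ≤ normalizer (W q A : Set G) := fun s hs =>
  h.mem_normalizer_W hS hA hAS (by
    rintro _ ⟨a, ha, rfl⟩
    exact mul_mem (mul_mem hs (hAS ha)) (inv_mem hs))

/-- The normaliser of a noncyclic subgroup of `A` normalises `W q A`. -/
theorem normalizer_le_normalizer_W {B A : Subgroup G} (hA : IsElem3 q A) (hB : q ^ 2 ≤ Nat.card B)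
    (hBA : B ≤ A) : normalizer (B : Set G) ≤ normalizer (W q A : Set G) := fun g hg => by
  rw [h.W_eq_of_le hA hB hBA]
  exact mem_normalizer_iff_map_conj_eq.mpr
    ((W_conj (fun a ha ha1 => hA.point (hBA ha) ha1) g).symm.trans
      (congrArg (W q) (mem_normalizer_iff_map_conj_eq.mp hg)))

theorem W_spec {A : Subgroup G} (hA : IsElem3 q A) :
    Group.IsSolvable ↥(W q A) ∧ ¬ q ∣ Nat.card ↥(W q A) := by
  refine closure_solvable h.theta_spec (fun a g ha => theta_conj a g ha) h.theta_balance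
    ⟨hA.1, (Nat.pow_le_pow_right hq.out.pos (by norm_num)).trans hA.2, ?_⟩
  exact not_pRankLE_mono hA.comm hA.not_pRankLE

theorem normalizer_W_ne_top {A : Subgroup G} (hA : IsElem3 q A) (hW : W q A ≠ ⊥) :
    normalizer (W q A : Set G) ≠ ⊤ :=
  h.normalizer_ne_top hW (h.ne_top_of_solvable (h.W_spec hA).1)

/-- Triviality of `W` does not depend on the group. -/
theorem W_eq_bot_iff {A : Subgroup G} (hA : IsElem3 q A) : W q A = ⊥ ↔ IsTriv q G := by
  refine ⟨fun hW a ha => ?_, fun ht => ?_⟩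
  · obtain ⟨B, hB, haB⟩ := exists_isElem3_of_point ha
    obtain ⟨S, hS⟩ := hA.isPGroup.exists_le_sylow
    obtain ⟨T, hT⟩ := hB.isPGroup.exists_le_sylow
    obtain ⟨g, hg⟩ := MulAction.exists_smul_eq G S T
    have hAT : A.map (MulAut.conj g).toMonoidHom ≤ (T : Subgroup G) := by
      rw [← hg, Sylow.coe_subgroup_smul]
      rintro _ ⟨x, hx, rfl⟩
      exact Coprime.conj_mem_conj_smul (hS hx)
    rw [← le_bot_iff]
    refine (le_signalizerClosure (θ := Cfsg.centralizerPPrimeCore q) haB fun e => ?_).trans ?_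
    · have := ha.1; rw [e, orderOf_one] at this; exact hq.out.ne_one this.symm
    show W q B ≤ ⊥
    rw [h.W_eq_of_pGroup T.2 hB (hA.conj g) hT hAT, W_conj fun a ha ha1 => hA.point ha ha1, hW,
      Subgroup.map_bot]
  · rw [← le_bot_iff]
    exact iSup_le fun a => (ht a (hA.point a.2.1 a.2.2)).le

theorem W_ne_bot {A : Subgroup G} (hA : IsElem3 q A) (ht : ¬ IsTriv q G) : W q A ≠ ⊥ :=
  fun e => ht ((h.W_eq_bot_iff hA).mp e)

/-- A `q'`-group normalised by `A` normalises `W q A`. -/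
theorem le_normalizer_W_of_coprime {A K : Subgroup G} (hA : IsElem3 q A)
    (hAK : A ≤ normalizer (K : Set G)) (hK : ¬ q ∣ Nat.card K) :
    K ≤ normalizer (W q A : Set G) := by
  by_contra hKN
  obtain ⟨B, hBA, hBc, hBN⟩ := exists_hyperplane_not_le hA.1 hAK hK hKN
  have hB2 : q ^ 2 ≤ Nat.card B := by
    have h3 := hA.2.trans hBc
    rw [pow_succ'] at h3
    exact Nat.le_of_mul_le_mul_left h3 hq.out.pos
  exact hBN (inf_le_right.trans ((centralizer_le_normalizer _).trans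
    (h.normalizer_le_normalizer_W hA hB2 hBA)))

/-- A solvable group whose `O_{q',q}` has rank three normalises `W q A`. -/
theorem le_normalizer_W {A H : Subgroup G} (hA : IsElem3 q A) (hH : H ≠ ⊤) (hAH : A ≤ H)
    (P : Sylow q (Cfsg.pPrimePCore q ↥H))
    (hP : HasRank3 q (((P : Subgroup (Cfsg.pPrimePCore q ↥H)).map
      (Cfsg.pPrimePCore q ↥H).subtype).map H.subtype)) :
    H ≤ normalizer (W q A : Set G) := by
  let U := Cfsg.pPrimePCore q ↥H
  haveI : U.Normal := Normal.comap inferInstance _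
  obtain ⟨R, hR⟩ := (hA.isPGroup.comap_subtype (K := H)).exists_le_sylow
  set R' := (R : Subgroup ↥H).map H.subtype
  have hR' : IsPGroup q R' := R.2.map _
  have hAR' : A ≤ R' := fun a ha => ⟨⟨a, hAH ha⟩, hR ha, rfl⟩
  obtain ⟨T, hT⟩ := ((R.2.to_le (inf_le_left : (R : Subgroup ↥H) ⊓ U ≤ R)).comap_subtype
    (K := U)).exists_le_sylow
  obtain ⟨S, hS⟩ := (T.2.map U.subtype).exists_le_sylow
  obtain ⟨g, hg⟩ := MulAction.exists_smul_eq ↥H S R
  set g' := (g : ↥H)
  set P₀ := ((R : Subgroup ↥H) ⊓ U).map H.subtype with hP₀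
  -- a Sylow subgroup of `U` inside `R`
  have hP₀rank : HasRank3 q P₀ := by
    obtain ⟨E, hE, hEel, hE3⟩ := hP
    obtain ⟨u, hu⟩ := MulAction.exists_smul_eq ↥U P T
    refine ⟨E.map (MulAut.conj ((g : G) * ((u : ↥H) : G))).toMonoidHom, ?_,
      OddOrder.isElementaryAbelian_map _ hEel, by
        rw [card_map_of_injective (MulAut.conj _).injective]; exact hE3⟩
    rintro _ ⟨e, he, rfl⟩
    obtain ⟨_, ⟨e', he', rfl⟩, rfl⟩ := hE he
    have h1 : u * e' * u⁻¹ ∈ (T : Subgroup U) := by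
      rw [← hu, Sylow.coe_subgroup_smul]; exact Coprime.conj_mem_conj_smul he'
    have h2 : g * ((u * e' * u⁻¹ : U) : ↥H) * g⁻¹ ∈ (R : Subgroup ↥H) := by
      rw [← hg, Sylow.coe_subgroup_smul]
      exact Coprime.conj_mem_conj_smul (hS ⟨_, h1, rfl⟩)
    refine ⟨_, ⟨h2, (inferInstance : U.Normal).conj_mem _ (u * e' * u⁻¹).2 g⟩, ?_⟩
    simp [mul_assoc]
  obtain ⟨A₀, hA₀P, hA₀⟩ := hP₀rank
  have hA₀R : A₀ ≤ R' := hA₀P.trans (map_mono inf_le_left)
  rw [h.W_eq_of_pGroup hR' hA hA₀ hAR' hA₀R]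
  have hP₀p : IsPGroup q P₀ := hR'.to_le (map_mono inf_le_left)
  have hA₀H : A₀ ≤ H := hA₀P.trans (map_subtype_le _)
  have hK : core' q H ≤ normalizer (W q A₀ : Set G) :=
    h.le_normalizer_W_of_coprime hA₀ ((hA₀H.trans le_normalizer).trans
      (normalizer_le_normalizer_core' q H)) (hq.out.coprime_iff_not_dvd.mp (card_core'_coprime q H).symm)
  -- `R ∩ U` is a Sylow subgroup of `U`
  obtain ⟨T₀, hT₀⟩ : ∃ T₀ : Sylow q ↥U, (T₀ : Subgroup ↥U) = ((R : Subgroup ↥H) ⊓ U).subgroupOf U := by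
    refine ⟨T, (eq_of_le_of_card_ge hT ?_).symm⟩
    refine le_trans ?_
      (Nat.card_congr (subgroupOfEquivOfLe (inf_le_right : (R : Subgroup ↥H) ⊓ U ≤ U)).toEquiv).ge
    refine Nat.card_le_card_of_injective (fun t : (T : Subgroup ↥U) =>
      (⟨g * ((t : U) : ↥H) * g⁻¹, ?_, (inferInstance : U.Normal).conj_mem _ (t : U).2 g⟩ :
        ((R : Subgroup ↥H) ⊓ U : Subgroup ↥H))) fun a b e => ?_
    · rw [← hg, Sylow.coe_subgroup_smul]
      exact Coprime.conj_mem_conj_smul (hS ⟨_, t.2, rfl⟩)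
    · exact Subtype.ext (Subtype.ext (mul_left_cancel (mul_right_cancel (congrArg Subtype.val e))))
  intro y hy
  have hmem : (⟨y, hy⟩ : ↥H) ∈
      normalizer (((T₀ : Subgroup ↥U).map U.subtype : Subgroup ↥H) : Set ↥H) ⊔
        Cfsg.pPrimeCore q ↥H := by
    rw [PLocal.normalizer_sylow_pPrimePCore_sup T₀]; exact mem_top _
  rw [← SetLike.mem_coe, mul_normal] at hmem
  obtain ⟨n, hn, k, hk, hnk⟩ := hmem
  have hy' : y = (n : G) * k := (congrArg Subtype.val hnk).symm
  rw [hy']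
  refine mul_mem (h.mem_normalizer_W hP₀p hA₀ hA₀P ?_) (hK ⟨k, hk, rfl⟩)
  rintro _ ⟨a, ha, rfl⟩
  obtain ⟨a', ha', rfl⟩ := hA₀P ha
  refine ⟨n * a' * n⁻¹, ?_, by simp⟩
  have := (mem_normalizer_iff.mp hn a').mp ⟨⟨a', ha'.2⟩, by rw [hT₀]; exact ha', rfl⟩
  obtain ⟨b, hb, hbe⟩ := this
  rw [hT₀] at hb
  rw [← hbe]; exact hb

end MinTwoGen

end CfsgLib.TwoGenSolv66
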