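import Cfsg.Agent.TwoGenSolv66.Low
import Cfsg.Agent.TwoGenSolv66.W
import Cfsg.Agent.TwoGroups.Automizer

/-!
# A four group inside a moved 2-group that lies in elementary groups of order eight

For `p = 5` every moved 2-group `B` has a four group that lies in an elementary group of order eight
of every invariant 2-group of rank three over `B`; so such groups have one signalizer closure.
-/

set_option autoImplicit false
set_option linter.unusedSectionVars false
set_option linter.unusedVariables false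
set_option linter.style.haveILetI false

open scoped commutatorElement

namespace CfsgLib.TwoGenSolv66

open Subgroup CfsgLib.SolvSig CfsgLib.Transitivity

universe u

variable {G : Type u} [Group G] [Finite G]

/-- A normal four group with the conjugation map of a 2-group into a group of order two. -/
theorem exists_normal_four {R : Subgroup G} (hR : IsPGroup 2 R) (h3 : HasRank3 2 R) :
    ∃ (U : Subgroup G) (φ : R →* MulAut U), (∀ a : R, φ a = 1 ↔ (a : G) ∈ centralizer (U : Set G)) ∧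
      (∀ a b : R, φ a ≠ 1 → φ b ≠ 1 → φ a = φ b) ∧ (∀ B ≤ R, phiSub B ≤ centralizer (U : Set G)) ∧
      (∀ F ≤ R, Cfsg.IsElementaryAbelian 2 F → Nat.card F = 4 → F ≤ centralizer (U : Set G) →
        ∃ E, IsElem3 2 E ∧ F ≤ E ∧ E ≤ R) ∧
      U ≤ R ∧ Cfsg.IsElementaryAbelian 2 U ∧ Nat.card U = 4 := by
  classical
  haveI : Fact (Nat.Prime 2) := ⟨Nat.prime_two⟩
  have hrk : ¬ Cfsg.PRankLE 2 2 ↥R := hasRank3_iff.mp h3
  obtain ⟨U₀, hUn, hU, hU2⟩ := Cfsg.Agent.S1337.exists_normal_sq hR hrk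
  haveI := hUn
  set U := U₀.map R.subtype with hUd
  have hUR : U ≤ R := map_subtype_le _
  have hUel : Cfsg.IsElementaryAbelian 2 U := OddOrder.isElementaryAbelian_map _ hU
  have hU4 : Nat.card U = 4 := by rw [card_map_of_injective R.subtype_injective, hU2]; norm_num
  have hRU : R ≤ normalizer (U : Set G) := fun r hr =>
    le_normalizer_map R.subtype ⟨⟨r, hr⟩, (normalizer_eq_top U₀).ge (mem_top _), rfl⟩
  let φ : R →* MulAut U := (normalizerMonoidHom U).comp (inclusion hRU)
  have hiff : ∀ a : R, φ a = 1 ↔ (a : G) ∈ centralizer (U : Set G) := fun a => by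
    rw [← MonoidHom.mem_ker]
    show inclusion hRU a ∈ (normalizerMonoidHom U).ker ↔ _
    rw [normalizerMonoidHom_ker, mem_subgroupOf]
    rfl
  have hr2 : Nat.card φ.range ≤ 2 := by
    obtain ⟨k, hk⟩ := IsPGroup.iff_card.mp (hR.of_surjective _ φ.rangeRestrict_surjective)
    have hd : Nat.card φ.range ∣ 6 :=
      (card_subgroup_dvd_card _).trans (CfsgLib.TwoGroups.card_mulAut_dvd_six hU4)
    rw [hk] at hd ⊢
    have : k ≤ 1 := by
      by_contra h2
      exact absurd ((Nat.pow_dvd_pow 2 (by omega : 2 ≤ k)).trans hd) (by norm_num)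
    exact (Nat.pow_le_pow_right (by norm_num) this).trans le_rfl
  have hone : ∀ a b : R, φ a ≠ 1 → φ b ≠ 1 → φ a = φ b := by
    intro a b ha hb
    by_contra hne
    have h3' : ({1, φ a, φ b} : Set (MulAut U)).ncard = 3 :=
      Set.ncard_eq_three.mpr ⟨1, φ a, φ b, Ne.symm ha, Ne.symm hb, hne, rfl⟩
    have := Set.ncard_le_ncard (s := ({1, φ a, φ b} : Set (MulAut U))) (t := (φ.range : Set (MulAut U)))
      (by rintro g (rfl | rfl | rfl)
          · exact one_mem _
          · exact ⟨a, rfl⟩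
          · exact ⟨b, rfl⟩) (Set.toFinite _)
    rw [h3', ← Nat.card_coe_set_eq, SetLike.coe_sort_coe] at this
    omega
  refine ⟨U, φ, hiff, hone, fun B hBR => ?_, fun F hFR hF hF4 hFU => ?_, hUR, hUel, hU4⟩
  · have hBp : IsPGroup 2 B := hR.to_le hBR
    have hpair : ∀ a b : R, φ a * φ b = φ b * φ a := fun a b => by
      by_cases ha : φ a = 1
      · rw [ha, one_mul, mul_one]
      by_cases hb : φ b = 1
      · rw [hb, one_mul, mul_one]
      rw [hone a b ha hb]
    refine le_trans (phiSub_le_of (R := B) (N := B ⊓ centralizer (U : Set G)) inf_le_left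
      (fun a ha b hb => mem_inf.2 ⟨phiSub_le B (commutator_mem_phiSub hBp ha hb), ?_⟩)
      (fun a ha => mem_inf.2 ⟨mul_mem ha ha, ?_⟩) ?_) inf_le_right
    · have := (hiff ⁅(⟨a, hBR ha⟩ : R), ⟨b, hBR hb⟩⁆).mp (by
        rw [map_commutatorElement]
        exact commutatorElement_eq_one_iff_mul_comm.mpr (hpair _ _))
      simpa [commutatorElement_def] using this
    · refine (hiff (⟨a, hBR ha⟩ * ⟨a, hBR ha⟩)).mp ?_
      by_contra h2
      by_cases h1 : φ ⟨a, hBR ha⟩ = 1
      · exact h2 (by rw [map_mul, h1, one_mul])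
      · have := hone _ _ h2 h1
        rw [map_mul, mul_eq_left] at this
        exact h1 this
    · exact (le_inf le_normalizer ((hBR.trans hRU).trans
        (CharPLocal.normalizer_le_normalizer_centralizer U))).trans inf_normalizer_le_normalizer_inf
  · by_cases hFle : F ≤ U
    · obtain ⟨A, hAR, hAel, hA8⟩ := h3
      have hFe : F = U := eq_of_le_of_card_ge hFle (by rw [hU4, hF4])
      have hD₀ : 2 ^ 2 ≤ Nat.card ↥(A.subgroupOf R ⊓ centralizer (U₀ : Set R) : Subgroup R) :=
        Cfsg.Agent.S1337.inf_centralizer_card hR hUn hU hU2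
          (by rw [Nat.card_congr (subgroupOfEquivOfLe hAR).toEquiv]; exact hA8)
      set D := (A.subgroupOf R ⊓ centralizer (U₀ : Set R)).map R.subtype
      have hDc : 2 ^ 2 ≤ Nat.card D := by rw [card_map_of_injective R.subtype_injective]; exact hD₀
      have hDA : D ≤ A := by rintro _ ⟨d, hd, rfl⟩; exact hd.1
      have hDU : D ≤ centralizer (U : Set G) := by
        rintro _ ⟨d, hd, rfl⟩
        rw [mem_centralizer_iff]
        rintro _ ⟨v, hv, rfl⟩
        exact congrArg Subtype.val (mem_centralizer_iff.mp hd.2 v hv)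
      by_cases hle : D ≤ U
      · have hDe : D = U := eq_of_le_of_card_ge hle (by rw [hU4]; exact hDc)
        exact ⟨A, ⟨hAel, hA8⟩, hFe.le.trans (hDe.ge.trans hDA), hAR⟩
      · refine ⟨U ⊔ D, ⟨isElementaryAbelian_sup hUel (elab_of_le_of_elab hAel hDA) hDU,
          pow_succ_le_card (isElementaryAbelian_sup hUel (elab_of_le_of_elab hAel hDA) hDU) ?_⟩,
          hFe.le.trans le_sup_left, sup_le hUR (hDA.trans hAR)⟩
        rw [show (2 : ℕ) ^ 2 = Nat.card U by rw [hU4]; norm_num]
        exact Set.ncard_lt_ncard (SetLike.coe_ssubset_coe.mpr (le_sup_left.lt_of_ne fun e =>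
          hle (e ▸ le_sup_right))) (Set.toFinite _)
    · refine ⟨U ⊔ F, ⟨isElementaryAbelian_sup hUel hF hFU,
        pow_succ_le_card (isElementaryAbelian_sup hUel hF hFU) ?_⟩, le_sup_right, sup_le hUR hFR⟩
      rw [show (2 : ℕ) ^ 2 = Nat.card U by rw [hU4]; norm_num]
      exact Set.ncard_lt_ncard (SetLike.coe_ssubset_coe.mpr (le_sup_left.lt_of_ne fun e =>
        hFle (e ▸ le_sup_right))) (Set.toFinite _)

/-- An involution of `Φ(B)` lies in an elementary group of order eight of a 2-group of rank three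
over `B`. -/
theorem exists_elem3_mem_phiSub {R B : Subgroup G} (hR : IsPGroup 2 R) (h3 : HasRank3 2 R)
    (hBR : B ≤ R) {z : G} (hz : z ∈ phiSub B) (hz2 : z * z = 1) :
    ∃ E, IsElem3 2 E ∧ z ∈ E ∧ E ≤ R := by
  haveI : Fact (Nat.Prime 2) := ⟨Nat.prime_two⟩
  obtain ⟨U, φ, -, -, hphi, hext, hUR, hUel, hU4⟩ := exists_normal_four hR h3
  have hzU := hphi B hBR hz
  by_cases hU : z ∈ U
  · obtain ⟨E, hE, hUE, hER⟩ := hext U hUR hUel hU4 (le_centralizer_iff_isMulCommutative.mpr hUel.1)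
    exact ⟨E, hE, hUE hU, hER⟩
  · have hel := OddOrder.BG11.elem_sup_zpowers hUel (by rw [pow_two]; exact hz2) hzU
    refine ⟨U ⊔ zpowers z, ⟨hel, ?_⟩, mem_sup_right (mem_zpowers z),
      sup_le hUR (zpowers_le.mpr (hBR (phiSub_le B hz)))⟩
    rw [LocalEven48.KlingerMason.card_elem_sup (p := 2) (by rw [pow_two]; exact hz2) hzU hU, hU4]
    norm_num

/-- An involution of a low moved group outside its Frattini subgroup of order two. -/
theorem exists_involution_outside {y : G} {B : Subgroup G} (hB : IsPGroup 2 B) (hS : LowSpec y B)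
    (h2 : Nat.card (phiSub B) ≤ 2) : ∃ f ∈ B, f ∉ phiSub B ∧ f * f = 1 := by
  by_contra! hno
  have hz : ∀ a ∈ B, a ∉ phiSub B → ∀ b ∈ B, b ∉ phiSub B → a * a = b * b := by
    intro a ha haΦ b hb hbΦ
    by_contra hne
    have h3 : ({1, a * a, b * b} : Set G).ncard = 3 := by
      rw [Set.ncard_eq_three]
      exact ⟨1, a * a, b * b, fun e => hno a ha haΦ e.symm, fun e => hno b hb hbΦ e.symm, hne, rfl⟩
    have : ({1, a * a, b * b} : Set G).ncard ≤ (phiSub B : Set G).ncard :=
      Set.ncard_le_ncard (by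
        rintro g (rfl | rfl | rfl)
        · exact one_mem _
        · exact sq_mem_phiSub hB ha
        · exact sq_mem_phiSub hB hb) (Set.toFinite _)
    rw [h3, ← Nat.card_coe_set_eq, SetLike.coe_sort_coe] at this
    omega
  obtain ⟨a, ha, haΦ⟩ : ∃ a ∈ B, a ∉ phiSub B := by
    by_contra! hh
    have := Nat.card_le_card_of_injective _ (inclusion_injective hh)
    have h1 := hS.card_eq
    have h0 : 0 < Nat.card (phiSub B) := Nat.card_pos
    omega
  have h1 := card_le_of_commutator (C := B) (V := phiSub B) (b := a) (phiSub_le B) hS.central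
    fun c hc => commutator_mem_phiSub hB hc ha
  set W := zpowers a ⊔ phiSub B
  obtain ⟨b, ⟨hb, hba⟩, hbW⟩ : ∃ b ∈ B ⊓ centralizer ({a} : Set G), b ∉ W := by
    by_contra! hh
    have hle := Nat.card_le_card_of_injective _ (inclusion_injective hh)
    have hW : Nat.card W ≤ Nat.card (phiSub B) * 2 := by
      have h0 := card_sup_zpowers_le (W := phiSub B) (u := a) (hS.central ha) (sq_mem_phiSub hB ha)
      rw [sup_comm] at h0
      exact h0.trans_eq (mul_comm _ _)
    have h4 := hS.card_eq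
    have h0 : 0 < Nat.card (phiSub B) := Nat.card_pos
    nlinarith [Nat.mul_le_mul_right (Nat.card (phiSub B)) (hle.trans hW)]
  have hbΦ : b ∉ phiSub B := fun e => hbW (mem_sup_right e)
  refine hno (a * b) (mul_mem ha hb) (fun e => hbW ?_) ?_
  · have := mul_mem (mem_sup_left (T := phiSub B) (inv_mem (mem_zpowers a)))
      (mem_sup_right (S := zpowers a) e)
    rwa [inv_mul_cancel_left] at this
  · rw [(show Commute a b from (mem_centralizer_singleton_iff.mp hba).symm).symm.mul_mul_mul_comm,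
      ← hz a ha haΦ b hb hbΦ, hS.sq_one _ (sq_mem_phiSub hB ha)]

variable {y : G}

/-- A moved 2-group has a four group in an elementary group of order eight of each invariant
2-group of rank three over it. -/
theorem exists_good_four (hy : y ^ 5 = 1) {B : Subgroup G} (hB : IsPGroup 2 B)
    (hyB : y ∈ normalizer (B : Set G)) (hmv : y ∉ centralizer (B : Set G)) :
    ∃ F ≤ B, Cfsg.IsElementaryAbelian 2 F ∧ Nat.card F = 4 ∧ ∀ R : Subgroup G, IsPGroup 2 R →
      y ∈ normalizer (R : Set G) → B ≤ R → HasRank3 2 R → ∃ E, IsElem3 2 E ∧ F ≤ E ∧ E ≤ R := by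
  haveI : Fact (Nat.Prime 2) := ⟨Nat.prime_two⟩
  haveI : Fact (Nat.Prime 5) := ⟨by norm_num⟩
  by_cases h3 : HasRank3 2 B
  · obtain ⟨E, hEB, hEel, hE8⟩ := h3
    obtain ⟨k, hk⟩ := IsPGroup.iff_card.mp (PLocal.isPGroup_of_isElementaryAbelian hEel :
      IsPGroup 2 E)
    obtain ⟨K, hK⟩ := Sylow.exists_subgroup_card_pow_prime (G := E) 2 (n := 2) (by
      rw [hk]
      refine Nat.pow_dvd_pow 2 ?_
      rw [hk] at hE8
      have := (Nat.pow_le_pow_iff_right (by norm_num : 1 < 2)).mp hE8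
      omega)
    refine ⟨K.map E.subtype, (map_subtype_le _).trans hEB,
      elab_of_le_of_elab hEel (map_subtype_le _), by
        rw [card_map_of_injective E.subtype_injective, hK]; norm_num,
      fun R _ _ hBR _ => ⟨E, ⟨hEel, hE8⟩, map_subtype_le _, hEB.trans hBR⟩⟩
  have hS := low_spec hy hB h3 hyB hmv
  set Φ := phiSub B with hΦ
  have hΦB : Φ ≤ B := phiSub_le B
  have hΦel : Cfsg.IsElementaryAbelian 2 Φ :=
    ⟨le_centralizer_iff_isMulCommutative.mp (hΦB.trans hS.central),
      fun z hz => by rw [pow_two]; exact hS.sq_one z hz⟩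
  obtain ⟨k, hk⟩ := IsPGroup.iff_card.mp (hB.to_le hΦB)
  have hk2 : k ≤ 2 := (Nat.pow_le_pow_iff_right (by norm_num : 1 < 2)).mp
    ((hk ▸ hS.card_le).trans (by norm_num))
  rcases (by omega : k = 0 ∨ k = 1 ∨ k = 2) with rfl | rfl | rfl
  · -- elementary
    exfalso
    have hbot : Φ = ⊥ := card_eq_one.mp (by rw [hk, pow_zero])
    have hsq : ∀ a ∈ B, a * a = 1 := fun a ha => mem_bot.mp (hbot ▸ sq_mem_phiSub hB ha)
    refine h3 ⟨B, le_rfl, ⟨⟨⟨fun a b => Subtype.ext (mul_comm_of_sq (hsq a a.2) (hsq b b.2)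
      (hsq _ (mul_mem a.2 b.2)))⟩⟩, fun a ha => by rw [pow_two]; exact hsq a ha⟩, ?_⟩
    rw [hS.card_eq, ← hΦ, hk]
    norm_num
  · -- a central involution and an involution outside
    have h2 : Nat.card Φ = 2 := by rw [hk, pow_one]
    obtain ⟨f, hf, hfΦ, hff⟩ := exists_involution_outside hB hS h2.le
    set F := Φ ⊔ zpowers f
    have hFel : Cfsg.IsElementaryAbelian 2 F :=
      OddOrder.BG11.elem_sup_zpowers hΦel (by rw [pow_two]; exact hff) (hS.central hf)
    have hFB : F ≤ B := sup_le hΦB (zpowers_le.mpr hf)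
    have hF4 : Nat.card F = 4 := by
      rw [LocalEven48.KlingerMason.card_elem_sup (p := 2) (by rw [pow_two]; exact hff)
        (hS.central hf) hfΦ, h2]
    refine ⟨F, hFB, hFel, hF4, fun R hR hyR hBR hR3 => ?_⟩
    obtain ⟨U, φ, hker, hone, hphi, hext, -⟩ := exists_normal_four hR hR3
    have hΦU : ∀ z ∈ Φ, ∀ hz : z ∈ R, φ ⟨z, hz⟩ = 1 := fun z hz hzR =>
      (hker ⟨z, hzR⟩).mpr (hphi B hBR hz)
    let g : ℕ → R := fun i => ⟨y ^ i * f * (y ^ i)⁻¹,
      (mem_normalizer_iff.mp (pow_mem hyR i) f).mp (hBR hf)⟩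
    obtain ⟨i, hi⟩ : ∃ i, φ (g i) = 1 := by
      by_contra! hall
      set w : R := g 0 * g 1 * g 2 * g 3 * g 4 with hw
      have hφw : φ w ≠ 1 := by
        have e : ∀ i, φ (g i) = φ (g 0) := fun i => hone _ _ (hall i) (hall 0)
        have h2' : φ (g 0) * φ (g 0) = 1 := by
          by_contra h2
          have := hone _ _ (by rw [map_mul]; exact h2 : φ (g 0 * g 0) ≠ 1) (hall 0)
          rw [map_mul, mul_eq_left] at this
          exact hall 0 this
        simp only [hw, map_mul, e 1, e 2, e 3, e 4]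
        rw [h2', one_mul, h2', one_mul]
        exact hall 0
      have hgB : ∀ i, (g i : G) ∈ B := fun i => (mem_normalizer_iff.mp (pow_mem hyB i) f).mp hf
      have hwB : (w : G) ∈ B := by
        simp only [hw, Subgroup.coe_mul]
        exact mul_mem (mul_mem (mul_mem (mul_mem (hgB 0) (hgB 1)) (hgB 2)) (hgB 3)) (hgB 4)
      have hcw : ⁅y, (w : G)⁆ ∈ Φ := by
        have e : ⁅y, (w : G)⁆ = ⁅f⁻¹, (w : G)⁆ := by
          simp only [hw, g, Subgroup.coe_mul, pow_zero, one_mul, inv_one, mul_one,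
            commutatorElement_def, inv_inv]
          have h5 : y ^ 5 * f * (y ^ 5)⁻¹ = f := by simp [hy]
          rw [show y * (f * (y ^ 1 * f * (y ^ 1)⁻¹) * (y ^ 2 * f * (y ^ 2)⁻¹) *
              (y ^ 3 * f * (y ^ 3)⁻¹) * (y ^ 4 * f * (y ^ 4)⁻¹)) * y⁻¹ =
            (y ^ 1 * f * (y ^ 1)⁻¹) * (y ^ 2 * f * (y ^ 2)⁻¹) * (y ^ 3 * f * (y ^ 3)⁻¹) *
              (y ^ 4 * f * (y ^ 4)⁻¹) * (y ^ 5 * f * (y ^ 5)⁻¹) by group, h5]
          group
        rw [e]
        exact commutator_mem_phiSub hB (inv_mem hf) hwB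
      have hfix : y ∈ centralizer ((zpowers (w : G) : Subgroup G) : Set G) := by
        refine mem_centralizer_iff.mpr ?_
        rintro _ ⟨n, rfl⟩
        have hc : Commute y ⁅y, (w : G)⁆ :=
          (mem_centralizer_singleton_iff.mp (hS.fixed hcw)).symm
        have hpow : ∀ m : ℕ, y ^ m * (w : G) * (y ^ m)⁻¹ = ⁅y, (w : G)⁆ ^ m * w := by
          intro m
          induction m with
          | zero => simp
          | succ m ih =>
            calc y ^ (m + 1) * (w : G) * (y ^ (m + 1))⁻¹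
                = y * (y ^ m * (w : G) * (y ^ m)⁻¹) * y⁻¹ := by rw [pow_succ']; group
              _ = y * (⁅y, (w : G)⁆ ^ m * w) * y⁻¹ := by rw [ih]
              _ = (y * ⁅y, (w : G)⁆ ^ m * y⁻¹) * (y * w * y⁻¹) := by group
              _ = _ := by
                rw [(hc.pow_right m).eq, mul_inv_cancel_right, pow_succ,
                  show ⁅y, (w : G)⁆ = y * w * y⁻¹ * (w : G)⁻¹ from commutatorElement_def _ _]
                group
        have h5 := hpow 5
        rw [hy, one_mul, inv_one, mul_one, eq_comm, mul_eq_right] at h5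
        have h2o : ⁅y, (w : G)⁆ = 1 := by
          have := hS.sq_one _ hcw
          have e : ⁅y, (w : G)⁆ ^ 5 =
              ⁅y, (w : G)⁆ * ⁅y, (w : G)⁆ * (⁅y, (w : G)⁆ * ⁅y, (w : G)⁆) * ⁅y, (w : G)⁆ := by
            simp only [pow_succ, pow_zero, one_mul, mul_assoc]
          rw [h5, this, one_mul, one_mul] at e
          exact e.symm
        exact ((commutatorElement_eq_one_iff_commute.mp h2o).zpow_right n).symm.eq
      have hwΦ : (w : G) ∈ Φ := hS.fix_le ⟨hwB, mem_centralizer_singleton_iff.mpr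
        (mem_centralizer_iff.mp hfix _ (mem_zpowers _))⟩
      exact hφw (hΦU _ hwΦ w.2)
    -- transport
    set c := MulAut.conj (y ^ i) with hc
    have hFi : F.map c.toMonoidHom ≤ centralizer (U : Set G) := by
      rw [Subgroup.map_sup, MonoidHom.map_zpowers]
      refine sup_le ?_ (zpowers_le.mpr ((hker _).mp hi))
      rintro _ ⟨z, hz, rfl⟩
      have hz' : y ^ i * z * (y ^ i)⁻¹ = z := by
        have hzy : Commute z y := mem_centralizer_singleton_iff.mp (hS.fixed hz)
        rw [(hzy.pow_right i).symm.eq, mul_inv_cancel_right]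
      show y ^ i * z * (y ^ i)⁻¹ ∈ _
      rw [hz']
      exact (hker ⟨z, hBR (hΦB hz)⟩).mp (hΦU z hz _)
    have hRc : ∀ j : G, j ∈ normalizer (R : Set G) → ∀ H ≤ R, H.map (MulAut.conj j).toMonoidHom ≤ R := by
      rintro j hj H hH _ ⟨a, ha, rfl⟩
      exact (mem_normalizer_iff.mp hj a).mp (hH ha)
    obtain ⟨E, hE, hFE, hER⟩ := hext _ (hRc _ (pow_mem hyR i) F (hFB.trans hBR))
      (OddOrder.isElementaryAbelian_map _ hFel)
      (by rw [card_map_of_injective c.injective, hF4]) hFi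
    refine ⟨E.map (MulAut.conj (y ^ i)⁻¹).toMonoidHom, hE.conj _, fun a ha => ?_,
      hRc _ (inv_mem (pow_mem hyR i)) E hER⟩
    exact ⟨_, hFE ⟨a, ha, rfl⟩, by simp⟩
  · -- the Frattini subgroup is a four group
    refine ⟨Φ, hΦB, hΦel, by rw [hk]; norm_num, fun R hR hyR hBR hR3 => ?_⟩
    obtain ⟨U, φ, hker, hone, hphi, hext, -⟩ := exists_normal_four hR hR3
    exact hext Φ (hΦB.trans hBR) hΦel (by rw [hk]; norm_num) (hphi B hBR)

/-- One signalizer closure over a moved 2-group. -/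
theorem MinTwoGen.W_eq_of_common (h : MinTwoGen G) (hy : y ^ 5 = 1) {B R R' E E' : Subgroup G}
    (hyB : y ∈ normalizer (B : Set G)) (hmv : y ∉ centralizer (B : Set G))
    (hR : IsPGroup 2 R) (hyR : y ∈ normalizer (R : Set G)) (hBR : B ≤ R) (hE : IsElem3 2 E)
    (hER : E ≤ R) (hR' : IsPGroup 2 R') (hyR' : y ∈ normalizer (R' : Set G)) (hBR' : B ≤ R')
    (hE' : IsElem3 2 E') (hER' : E' ≤ R') : W 2 E = W 2 E' := by
  haveI : Fact (Nat.Prime 2) := ⟨Nat.prime_two⟩
  obtain ⟨F, -, -, hF4, hgood⟩ := exists_good_four hy (hR.to_le hBR) hyB hmv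
  obtain ⟨E₁, h1, hF1, h1R⟩ := hgood R hR hyR hBR ⟨E, hER, hE⟩
  obtain ⟨E₂, h2, hF2, h2R⟩ := hgood R' hR' hyR' hBR' ⟨E', hER', hE'⟩
  have hF : 2 ^ 2 ≤ Nat.card F := by rw [hF4]; norm_num
  rw [h.W_eq_of_pGroup hR hE h1 hER h1R, h.W_eq_of_le h1 hF hF1,
    h.W_eq_of_pGroup hR' hE' h2 hER' h2R, h.W_eq_of_le h2 hF hF2]

end CfsgLib.TwoGenSolv66
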