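import Cfsg.Agent.TwoGenSolv66.Hub
import Cfsg.Agent.CharTwoW.Control
import Cfsg.Agent.Solvable.Hall

/-!
# A characteristic subgroup normalised by `x`

* `fY s R` : `W(R)` for `s = 2`, otherwise `Z(J(R))`.
* `MinTwoGen.exists_functor` : for `O_{s'}(J) = 1` it is normalised by `x` and a Sylow `s`-subgroup.
* `exists_sylow_of_normalizer_le` : a Sylow subgroup of `J` with normaliser in `J` is one of `G`.
-/

set_option autoImplicit false
set_option linter.unusedSectionVars false
set_option linter.unusedVariables false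
set_option linter.style.haveILetI false

open scoped commutatorElement Pointwise

namespace CfsgLib.TwoGenSolv66

open Subgroup CfsgLib.SolvSig CfsgLib.Transitivity

universe u

/-- The characteristic subgroup. -/
noncomputable def fY {G : Type u} [Group G] [Finite G] (s : ℕ) (R : Subgroup G) : Subgroup G :=
  if s = 2 then CharTwoW.wSub R else Cfsg.centerThompsonAOf R

variable {G : Type u} [Group G] [Finite G] {p : ℕ} [hp : Fact p.Prime] {s : ℕ} [hs : Fact s.Prime]

theorem map_fY {H : Type u} [Group H] [Finite H] {f : G →* H} (hf : Function.Injective f)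
    (R : Subgroup G) : (fY s R).map f = fY s (R.map f) := by
  unfold fY
  split
  · exact CharTwoW.map_wSub hf R
  · exact PLocal.map_centerThompsonAOf hf R

theorem fY_le (R : Subgroup G) : fY s R ≤ R := by
  unfold fY
  split
  · exact CharTwoW.wSub_le R
  · exact PLocal.centerThompsonAOf_le R

theorem normalizer_le_normalizer_fY (R : Subgroup G) :
    normalizer (R : Set G) ≤ normalizer (fY s R : Set G) := by
  unfold fY
  split
  · exact CharTwoW.normalizer_le_normalizer_wSub R
  · exact PLocal.normalizer_le_normalizer_centerThompsonAOf R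

theorem fY_ne_bot {R : Subgroup G} (hR : IsPGroup s R) (hne : R ≠ ⊥) : fY s R ≠ ⊥ := by
  haveI : Nontrivial ↥R := (nontrivial_iff_ne_bot R).mpr hne
  unfold fY
  split
  next h2 =>
    subst h2
    rw [CharTwoW.wSub, Ne, Subgroup.map_eq_bot_iff_of_injective _ R.subtype_injective]
    exact CharTwoW.wFun_ne_bot hR
  · exact PLocal.centerThompsonAOf_ne_bot hR hne

omit hp in
/-- A Sylow subgroup of `J` with normaliser in `J` is a Sylow subgroup of `G`. -/
theorem exists_sylow_of_normalizer_le {R J : Subgroup G} (hR : IsPGroup s R) (hRJ : R ≤ J)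
    (hind : ¬ s ∣ R.relIndex J) (hN : normalizer (R : Set G) ≤ J) :
    ∃ S : Sylow s G, (S : Subgroup G) = R := by
  obtain ⟨S, hS⟩ := hR.exists_le_sylow
  refine ⟨S, le_antisymm ?_ hS⟩
  by_contra hne
  have h1 := exists_gt_inf_normalizer S.2 (lt_of_le_of_ne hS fun e => hne e.ge)
  set D := (S : Subgroup G) ⊓ normalizer (R : Set G)
  have hDJ : D ≤ J := inf_le_right.trans hN
  have hRD : R ≤ D := le_inf hS le_normalizer
  obtain ⟨k, hk⟩ := IsPGroup.iff_card.mp (S.2.to_le inf_le_left : IsPGroup s D)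
  have h2 : Nat.card R * R.relIndex D = s ^ k := (PLocal.card_mul_relIndex hRD).trans hk
  obtain ⟨i, -, hi⟩ := (Nat.dvd_prime_pow hs.out).mp (Dvd.intro_left _ h2)
  rcases i with _ | i
  · rw [hi, pow_zero, mul_one] at h2
    exact h1.ne (h2.trans hk.symm)
  · refine hind ((dvd_pow_self s (Nat.succ_ne_zero i)).trans (hi ▸ ?_))
    rw [← relIndex_mul_relIndex R D J hRD hDJ]
    exact dvd_mul_right _ _

/-- A `{2, p}`- or `{3, p}`-group with `O_{s'} = 1` has `fY` of a Sylow subgroup normal. -/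
theorem fY_normal {P : Type u} [Group P] [Finite P] (hp5 : 5 ≤ p) (hs5 : s < 5)
    (hpi : ∀ q : ℕ, q.Prime → q ∣ Nat.card P → q = s ∨ q = p)
    (hc : centralizer (Cfsg.pCore s P : Set P) ≤ Cfsg.pCore s P) (R : Sylow s P) :
    (fY s (R : Subgroup P)).Normal := by
  have hs23 : s = 2 ∨ s = 3 := by
    have h2 := hs.out.two_le
    rcases (by omega : s = 2 ∨ s = 3 ∨ s = 4) with e | e | e
    · exact Or.inl e
    · exact Or.inr e
    · exact absurd hs.out (e ▸ by norm_num)
  rcases hs23 with rfl | rfl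
  · unfold fY
    rw [if_pos rfl]
    refine CharTwoW.normal_wSub ?_ hc R
    rintro ⟨K, L, hL, ⟨e⟩⟩
    have h24 : 3 ∣ Nat.card P := by
      refine (Dvd.dvd.trans ?_ (Nat.dvd_trans (card_quotient_dvd_card (L.subgroupOf K))
        (card_subgroup_dvd_card K)))
      rw [Nat.card_congr e.toEquiv, Nat.card_perm, Nat.card_fin]
      decide
    rcases hpi 3 Nat.prime_three h24 with e' | e' <;> omega
  · unfold fY
    rw [if_neg (by norm_num)]
    refine OddOrder.ZJ.centerThompsonAOf_normal (by norm_num) ?_ hc R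
    refine OddOrder.ZJ.quadraticStable_of_isPStableOn fun Q _ hQ =>
      PLocal.isPStableOn_of_no_section (by norm_num)
        (PLocal.not_hasSL2Section_of_abelian_sylow_two (by norm_num) fun T => ?_) Q hQ
    haveI : Fact (Nat.Prime 2) := ⟨Nat.prime_two⟩
    have hbot : (T : Subgroup (⊤ : Subgroup P)) = ⊥ := by
      rw [← card_eq_one]
      obtain ⟨k, hk⟩ := IsPGroup.iff_card.mp T.2
      rcases k with _ | k
      · rw [hk, pow_zero]
      · exfalso
        have hd : 2 ∣ Nat.card P := by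
          rw [← Subgroup.card_top (G := P)]
          exact (dvd_pow_self 2 (Nat.succ_ne_zero k)).trans (hk ▸ card_subgroup_dvd_card _)
        rcases hpi 2 Nat.prime_two hd with e' | e' <;> omega
    rw [hbot]
    infer_instance

namespace MinTwoGen

variable (h : MinTwoGen G)
include h

/-- With `O_{s'}(J) = 1`, the subgroup `fY` of some Sylow `s`-subgroup is normalised by a given
element of order `p` in `J`. -/
theorem exists_functor {J : Subgroup G} (hJ : J ≠ ⊤) {x : G} (hxJ : x ∈ J) (hx : x ^ p = 1)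
    (hp5 : 5 ≤ p) (hs5 : s < 5) (hbot : core' s J = ⊥) :
    ∃ R : Subgroup G, IsPGroup s R ∧ R ≤ J ∧ ¬ s ∣ R.relIndex J ∧ core s J ≤ R ∧
      x ∈ normalizer (fY s R : Set G) ∧ R ≤ normalizer (fY s R : Set G) := by
  haveI := h.sub J hJ
  set π : Set ℕ := {s, p} with hπ
  set x' : ↥J := ⟨x, hxJ⟩
  have hU : Cfsg.IsPiSubgroup π (zpowers x') := by
    intro q hq hd
    rw [Nat.card_zpowers] at hd
    refine Or.inr ((Nat.prime_dvd_prime_iff_eq hq hp.out).mp (hd.trans ?_))
    exact orderOf_dvd_of_pow_eq_one (Subtype.ext hx)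
  obtain ⟨P, hP, hxP⟩ := Solvable.exists_isPiHall_ge hU
  have hQP : Cfsg.pCore s ↥J ≤ P := by
    haveI : (Cfsg.pCore s ↥J).Normal := LocalStructure.pCore_normal
    refine Solvable.le_isPiHall_of_normal hP fun q hq hd => Or.inl ?_
    obtain ⟨k, hk⟩ := IsPGroup.iff_card.mp (PLocal.isPGroup_pCore s ↥J)
    rw [hk] at hd
    exact (Nat.prime_dvd_prime_iff_eq hq hs.out).mp (hq.dvd_of_dvd_pow hd)
  have hcJ : centralizer (Cfsg.pCore s ↥J : Set ↥J) ≤ Cfsg.pCore s ↥J :=
    PLocal.centralizer_pCore_le PLocal.isPSolvable_of_isSolvable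
      ((Subgroup.map_eq_bot_iff_of_injective _ J.subtype_injective).mp hbot)
  have hQn : (Cfsg.pCore s ↥J).subgroupOf P ≤ Cfsg.pCore s ↥P :=
    PLocal.le_pCore (PLocal.isPGroup_pCore s ↥J).comap_subtype
  have hc : centralizer (Cfsg.pCore s ↥P : Set ↥P) ≤ Cfsg.pCore s ↥P := fun g hg =>
    hQn (hcJ (mem_centralizer_iff.mpr fun z hz =>
      congrArg Subtype.val (mem_centralizer_iff.mp hg ⟨z, hQP hz⟩ (hQn hz))))
  obtain ⟨R, hR⟩ := ((PLocal.isPGroup_pCore s ↥J).comap_subtype (K := P)).exists_le_sylow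
  have hn := fY_normal hp5 hs5 (fun q hq hd => hP.1 q hq hd) hc R
  let f : ↥P →* G := J.subtype.comp P.subtype
  have hf : Function.Injective f := J.subtype_injective.comp P.subtype_injective
  have hmap : fY s ((R : Subgroup ↥P).map f) = (fY s (R : Subgroup ↥P)).map f := (map_fY hf _).symm
  have hN : ∀ g : ↥P, f g ∈ normalizer (fY s ((R : Subgroup ↥P).map f) : Set G) := fun g => by
    rw [hmap]
    exact le_normalizer_map f ⟨g, (normalizer_eq_top_iff.mpr hn).ge (mem_top _), rfl⟩
  refine ⟨(R : Subgroup ↥P).map f, R.2.map f, ?_, ?_, ?_, hN ⟨x', hxP (mem_zpowers x')⟩, ?_⟩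
  · rintro _ ⟨g, -, rfl⟩; exact (g : ↥J).2
  · rw [show (R : Subgroup ↥P).map f = ((R : Subgroup ↥P).map P.subtype).map J.subtype from
      (map_map _ _ _).symm, relIndex, subgroupOf, comap_map_eq_self_of_injective J.subtype_injective,
      index_map_subtype]
    intro hd
    rcases (Nat.Prime.dvd_mul hs.out).mp hd with e | e
    · exact R.not_dvd_index e
    · exact hP.2 s hs.out (Or.inl rfl) e
  · rintro _ ⟨g, hg, rfl⟩
    exact ⟨⟨g, hQP hg⟩, hR hg, rfl⟩
  · rintro _ ⟨g, -, rfl⟩
    exact hN g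

end MinTwoGen

end CfsgLib.TwoGenSolv66
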