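import Cfsg.Agent.TwoGenSolv66.Final

/-!
# Members: maximal subgroups through `x` containing an object

* `Ctx.inter_obj` : a commutator `⁅x, w⁆` in an invariant `r`-group gives an object inside `⟨x, w⟩`.
* `Ctx.carrier_subset` : a member with a strong object contains every `n` carrying `x` into `C(x)`.
* `Ctx.strong_unique` : one strong member for each strong prime.
* `Ctx.two_mul_card_strong_lt` : strong members cover less than half of the group.
-/

set_option autoImplicit false
set_option linter.unusedSectionVars false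
set_option linter.unusedVariables false
set_option linter.style.haveILetI false

open scoped commutatorElement Pointwise

namespace CfsgLib.TwoGenSolv66

open Subgroup CfsgLib.SolvSig CfsgLib.Transitivity

universe u

/-- A prime whose objects are uniquely covered. -/
def Strong (p r : ℕ) (G : Type*) [Group G] : Prop :=
  (5 ≤ r ∨ ¬ IsTriv r G) ∧ ¬ (r = 2 ∧ p = 5)

/-- A maximal subgroup through `x` containing an object at a strong prime. -/
def IsStrongMember {G : Type*} [Group G] (p : ℕ) (x : G) (L : Subgroup G) : Prop :=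
  IsCoatom L ∧ x ∈ L ∧ ∃ r A, IsObj p x r A ∧ Strong p r G ∧ A ≤ L

/-- An object lying in no strong member. -/
def IsPure {G : Type*} [Group G] (p : ℕ) (x : G) (s : ℕ) (A : Subgroup G) : Prop :=
  IsObj p x s A ∧ ∀ L, IsStrongMember p x L → ¬ A ≤ L

/-- The elements carrying `x` into its centraliser. -/
def carrier {G : Type*} [Group G] (x : G) : Set G := {n | Commute (n * x * n⁻¹) x}

variable {G : Type u} [Group G] [Finite G] {p : ℕ} [hp : Fact p.Prime] {x : G}

theorem IsPure.mono {s : ℕ} {A B : Subgroup G} (hA : IsPure p x s A) (hB : IsObj p x s B)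
    (h : A ≤ B) : IsPure p x s B :=
  ⟨hB, fun L hL hle => hA.2 L hL (h.trans hle)⟩

namespace Ctx

variable (h : Ctx G p x)
include h

/-- A nontrivial `⁅x, w⁆` in an invariant `r`-group lies in an object inside the group of `x, w`. -/
theorem inter_obj {r : ℕ} (hr : r.Prime) (hne : r ≠ p) {U : Subgroup G} (hU : IsPGroup r U)
    (hxU : x ∈ normalizer (U : Set G)) {M : Subgroup G} (hxM : x ∈ M) {w : G} (hwM : w ∈ M)
    (hu : ⁅x, w⁆ ∈ U) (hu1 : ⁅x, w⁆ ≠ 1) :
    IsObj p x r ⁅M ⊓ U, zpowers x⁆ ∧ ⁅M ⊓ U, zpowers x⁆ ≤ M ⊓ U ∧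
      ⁅x, w⁆ ∈ ⁅M ⊓ U, zpowers x⁆ := by
  set D := M ⊓ U
  have hD : IsPGroup r D := hU.to_le inf_le_right
  have hxD : x ∈ normalizer (D : Set G) :=
    inf_normalizer_le_normalizer_inf ⟨le_normalizer hxM, hxU⟩
  set u := ⁅x, w⁆ with hud
  have huD : u ∈ D := mem_inf.2 ⟨by
    rw [hud, commutatorElement_def]
    exact mul_mem (mul_mem (mul_mem hxM hwM) (inv_mem hxM)) (inv_mem hwM), hu⟩
  set N := ⁅D, zpowers x⁆ with hN
  have hNn : x ∈ normalizer (N : Set G) := normalizer_commutator_ge_right D _ (mem_zpowers x)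
  have hDn : D ≤ normalizer (N : Set G) := normalizer_commutator_ge_left D _
  -- `x` fixes the cosets of `N` in `D`
  have hfix : ∀ d ∈ D, d⁻¹ * (x * d * x⁻¹) ∈ N := by
    intro d hd
    have h1 := commutator_mem_commutator (inv_mem hd) (mem_zpowers x)
    rw [commutatorElement_def, inv_inv] at h1
    have h2 : d⁻¹ * (x * d * x⁻¹) = d⁻¹ * x * d * x⁻¹ := by group
    rw [h2]; exact h1
  have hpow : ∀ i : ℕ, (u ^ i)⁻¹ * (x ^ i * w * (x ^ i)⁻¹ * w⁻¹) ∈ N := by
    intro i
    induction i with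
    | zero => simp
    | succ i ih =>
      set v := x ^ i * w * (x ^ i)⁻¹ * w⁻¹ with hv
      have hvD : v ∈ D := by
        have hNle : N ≤ D := Coprime.commutator_le_of_le_normalizer (zpowers_le.mpr hxD)
        have := mul_mem (pow_mem huD i) (hNle ih)
        rwa [mul_inv_cancel_left] at this
      have e : x ^ (i + 1) * w * (x ^ (i + 1))⁻¹ * w⁻¹ = (x * v * x⁻¹) * u := by
        rw [hv, hud, commutatorElement_def, pow_succ']; group
      rw [e, show (u ^ (i + 1))⁻¹ * (x * v * x⁻¹ * u) =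
        u⁻¹ * (((u ^ i)⁻¹ * v) * (v⁻¹ * (x * v * x⁻¹))) * u by rw [pow_succ]; group]
      have := (mem_normalizer_iff.mp (inv_mem (hDn huD)) _).mp (mul_mem ih (hfix v hvD))
      rwa [inv_inv] at this
  have hup : u ^ p ∈ N := by
    have := hpow p
    rw [h.pow_eq, one_mul, inv_one, mul_one, mul_inv_cancel, mul_one, inv_mem_iff] at this
    exact this
  have huN : u ∈ N := by
    obtain ⟨k, hk⟩ := hD ⟨u, huD⟩
    have hk' : u ^ r ^ k = 1 := congrArg Subtype.val hk
    have hcop : Nat.gcd p (r ^ k) = 1 :=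
      ((Nat.coprime_primes hp.out hr).mpr hne.symm).pow_right k
    have h1 := Nat.gcd_eq_gcd_ab p (r ^ k)
    rw [hcop] at h1
    have h2 : u = (u ^ p) ^ (Nat.gcdA p (r ^ k)) := by
      calc u = u ^ ((1 : ℕ) : ℤ) := by rw [Nat.cast_one, zpow_one]
        _ = _ := by
          rw [h1, zpow_add, zpow_mul, zpow_natCast, zpow_mul, zpow_natCast, hk', one_zpow, mul_one]
    rw [h2]
    exact zpow_mem hup _
  have hmv : x ∉ centralizer (D : Set G) := fun hc => hu1 <| by
    have : N = ⊥ := by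
      rw [hN, commutator_comm, commutator_eq_bot_iff_le_centralizer, zpowers_le]; exact hc
    rw [this, mem_bot] at huN; exact huN
  obtain ⟨hobj, hle⟩ := h.obj_of_moved hr hne hD hxD hmv
  exact ⟨hobj, hle, huN⟩

omit [Finite G] hp h in
theorem comm_conj_mem {U : Subgroup G} {y e : G} (hxU : x ∈ normalizer (U : Set G))
    (hyU : y ∈ normalizer (U : Set G)) (hxy : Commute x y) (he : e ∈ U) :
    ⁅x, e * y * e⁻¹⁆ ∈ U := by
  have e1 : ⁅x, e * y * e⁻¹⁆ =
      (x * e * x⁻¹) * (x * (y * e⁻¹ * y⁻¹) * x⁻¹) * (y * e * y⁻¹) * e⁻¹ := by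
    rw [commutatorElement_def]
    have h1 : x * y * x⁻¹ = y := by rw [hxy.eq, mul_inv_cancel_right]
    calc x * (e * y * e⁻¹) * x⁻¹ * (e * y * e⁻¹)⁻¹
        = (x * e * x⁻¹) * (x * y * x⁻¹) * (x * e⁻¹ * x⁻¹) * e * y⁻¹ * e⁻¹ := by group
      _ = (x * e * x⁻¹) * y * (x * e⁻¹ * x⁻¹) * e * y⁻¹ * e⁻¹ := by rw [h1]
      _ = (x * e * x⁻¹) * ((x * y * x⁻¹) * (x * e⁻¹ * x⁻¹) * (x * y⁻¹ * x⁻¹)) *
            (y * e * y⁻¹) * e⁻¹ := by
          rw [h1, show x * y⁻¹ * x⁻¹ = (x * y * x⁻¹)⁻¹ by group, h1]; group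
      _ = _ := by group
  rw [e1]
  refine mul_mem (mul_mem (mul_mem ((mem_normalizer_iff.mp hxU e).mp he) ?_)
    ((mem_normalizer_iff.mp hyU e).mp he)) (inv_mem he)
  exact (mem_normalizer_iff.mp hxU _).mp ((mem_normalizer_iff.mp hyU _).mp (inv_mem he))

/-- A strong obj's element not fixed by `x` moves `x` to a noncommuting conjugate. -/
theorem commute_of_commute_conj {r : ℕ} (hr : r.Prime) (hne : r ≠ p) {U : Subgroup G}
    (hU : IsPGroup r U) (hxU : x ∈ normalizer (U : Set G)) {d : G} (hd : d ∈ U)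
    (hc : Commute (d * x * d⁻¹) x) : Commute d x := by
  set u := d * x * d⁻¹ * x⁻¹ with hu
  have huU : u ∈ U := by
    rw [hu, show d * x * d⁻¹ * x⁻¹ = d * (x * d⁻¹ * x⁻¹) by group]
    exact mul_mem hd ((mem_normalizer_iff.mp hxU _).mp (inv_mem hd))
  have hup : u ^ p = 1 := by
    rw [hu, hc.inv_right.mul_pow, inv_pow, h.pow_eq, inv_one, mul_one, conj_pow, h.pow_eq, mul_one,
      mul_inv_cancel]
  obtain ⟨k, hk⟩ := hU ⟨u, huU⟩
  have hu1 : u = 1 := orderOf_eq_one_iff.mp (Nat.eq_one_of_dvd_coprimes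
    (((Nat.coprime_primes hr hp.out).mpr hne).pow_left k)
    (orderOf_dvd_of_pow_eq_one (congrArg Subtype.val hk)) (orderOf_dvd_of_pow_eq_one hup))
  rw [hu, mul_inv_eq_one, mul_inv_eq_iff_eq_mul] at hu1
  exact hu1

theorem eq_of_strong' {r : ℕ} {A : Subgroup G} (hA : IsObj p x r A) (hs : Strong p r G)
    {M M' : Subgroup G} (hM : IsCoatom M) (hxM : x ∈ M) (hAM : A ≤ M)
    (hM' : IsCoatom M') (hxM' : x ∈ M') (hAM' : A ≤ M') : M = M' :=
  h.eq_of_strong hA hs.2 hs.1 hM hxM hAM hM' hxM' hAM'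

/-- A strong member contains the normaliser of `⟨x⟩`. -/
theorem normalizer_le_of_strong {L : Subgroup G} (hL : IsStrongMember p x L) :
    normalizer ((zpowers x : Subgroup G) : Set G) ≤ L := by
  obtain ⟨hco, hxL, r, A, hA, hs, hAL⟩ := hL
  intro c hc
  obtain ⟨d, hd, hdx⟩ : ∃ d ∈ A, ¬ Commute d x := by
    by_contra! hh
    exact obj_moved hA (mem_centralizer_iff.mpr fun d hd => (hh d hd).eq)
  obtain ⟨M, hM, hxM, hcM, hJ⟩ := h.exists_coatom_commutator hA.inv
    (h.not_dvd_of_isPGroup hA.prime hA.ne hA.isPGroup) hd hc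
  have hwM : d⁻¹ * x * d ∈ M := hJ (subset_closure (Set.mem_insert_of_mem _ rfl))
  have hu : ⁅x, d⁻¹ * x * d⁆ ∈ A := by
    simpa using comm_conj_mem (x := x) hA.inv hA.inv (Commute.refl x) (inv_mem hd)
  have hu1 : ⁅x, d⁻¹ * x * d⁆ ≠ 1 := fun e => hdx <| by
    have h1 := h.commute_of_commute_conj hA.prime hA.ne hA.isPGroup hA.inv (inv_mem hd)
      (by rw [inv_inv]; exact (commutatorElement_eq_one_iff_commute.mp e).symm)
    simpa using h1.inv_left
  obtain ⟨hobj, hle, -⟩ := h.inter_obj hA.prime hA.ne hA.isPGroup hA.inv hxM hwM hu hu1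
  exact (h.eq_of_strong' hobj hs hM hxM (hle.trans inf_le_left) hco hxL
    ((hle.trans inf_le_right).trans hAL)).le hcM

theorem centralizer_le_of_strong {L : Subgroup G} (hL : IsStrongMember p x L) :
    centralizer ({x} : Set G) ≤ L := by
  rw [centralizer_singleton_eq]
  exact (centralizer_le_normalizer _).trans (h.normalizer_le_of_strong hL)

/-- An invariant group for `⟨x, y⟩` moved by `x`, inside a member with an object. -/
theorem exists_inv_moved {r : ℕ} {A L : Subgroup G} (hA : IsObj p x r A) (hL : L ≠ ⊤)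
    (hxL : x ∈ L) (hAL : A ≤ L) {y : G} (hyL : y ∈ L) (hxy : Commute x y) (hyp : y ^ p = 1) :
    ∃ U : Subgroup G, U ≤ L ∧ IsPGroup r U ∧ x ∈ normalizer (U : Set G) ∧
      y ∈ normalizer (U : Set G) ∧ x ∉ centralizer (U : Set G) := by
  haveI := Fact.mk hA.prime
  set K := core' p L
  have hKp : ¬ p ∣ Nat.card K := PLocal.not_dvd_iff_coprime.mp (card_core'_coprime p L)
  have hK : Group.IsSolvable ↥K := isSolvable_of_comm_le (h.hyp.sub L hL) (core'_le p L)
  have hn : L ≤ normalizer (K : Set G) := le_normalizer.trans (normalizer_le_normalizer_core' p L)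
  have hxy' : x ∈ centralizer ({y} : Set G) := mem_centralizer_singleton_iff.mpr hxy.eq
  set B := zpowers x ⊔ zpowers y
  have hB : IsPGroup p B := by
    refine h.isPGroup.to_sup_of_normal_left' ?_ ?_
    · intro g
      obtain ⟨k, hk⟩ := mem_zpowers_iff.mp g.2
      refine ⟨1, Subtype.ext ?_⟩
      rw [pow_one, SubgroupClass.coe_pow, ← hk, ← zpow_natCast, ← zpow_mul, mul_comm, zpow_mul,
        zpow_natCast, hyp, one_zpow, OneMemClass.coe_one]
    · refine zpowers_le.mpr (centralizer_le_normalizer _ (mem_centralizer_iff.mpr ?_))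
      intro g hg
      obtain ⟨k, rfl⟩ := mem_zpowers_iff.mp hg
      exact (hxy.zpow_left k).eq
  have hcop : (Nat.card B).Coprime (Nat.card K) := by
    obtain ⟨k, hk⟩ := IsPGroup.iff_card.mp hB
    rw [hk]
    exact ((hp.out.coprime_iff_not_dvd).mpr hKp).pow_left k
  obtain ⟨P, hP⟩ := Coprime.exists_invariant_sylow
    ((sup_le (zpowers_le.mpr hxL) (zpowers_le.mpr hyL)).trans hn) hcop (Or.inr hK) r
  set U := (P : Subgroup K).map K.subtype
  have hxU : x ∈ normalizer (U : Set G) := hP (mem_sup_left (mem_zpowers x))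
  refine ⟨U, (map_subtype_le _).trans (core'_le p L), P.2.map _, hxU,
    hP (mem_sup_right (mem_zpowers y)), fun hc => ?_⟩
  obtain ⟨Q, hAQ, hQ⟩ := Coprime.exists_invariant_sylow_ge (zpowers_le.mpr (hn hxL))
    (h.coprime hKp) (Or.inr hK) (h.obj_le_core' hA hL hxL hAL) hA.isPGroup (zpowers_le.mpr hA.inv)
  obtain ⟨c, hc', hconj⟩ := Coprime.exists_conj_map_sylow P Q
  obtain ⟨k, hk, hkU⟩ := Coprime.exists_conj_eq_of_invariant (zpowers_le.mpr (hn hxL))
    (h.coprime hKp) (Or.inr hK) (zpowers_le.mpr hxU) hQ hc' hconj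
  refine obj_moved hA (mem_centralizer_iff.mpr fun a ha => ?_)
  obtain ⟨v, hv, rfl⟩ := hkU.ge (hAQ ha)
  have h1 : Commute v x := mem_centralizer_iff.mp hc v hv
  have h2 : Commute k x := (mem_centralizer_iff.mp hk.2 x (mem_zpowers x)).symm
  exact ((h2.mul_left h1).mul_left h2.inv_left).eq

/-- A strong member contains the carrier of `x`. -/
theorem carrier_subset {L : Subgroup G} (hL : IsStrongMember p x L) : carrier x ⊆ L := by
  intro n hn
  obtain ⟨hco, hxL, r, A, hA, hs, hAL⟩ := hL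
  have hL' : IsStrongMember p x L := ⟨hco, hxL, r, A, hA, hs, hAL⟩
  set y := n * x * n⁻¹ with hy
  have hyL : y ∈ L := h.centralizer_le_of_strong hL' (mem_centralizer_singleton_iff.mpr hn.eq)
  have hyp : y ^ p = 1 := by rw [hy, conj_pow, h.pow_eq, mul_one, mul_inv_cancel]
  obtain ⟨U, hUL, hUr, hxU, hyU, hmv⟩ := h.exists_inv_moved hA hco.1 hxL hAL hyL hn.symm hyp
  obtain ⟨hA1, hA1U⟩ := h.obj_of_moved hA.prime hA.ne hUr hxU hmv
  by_cases hall : ∀ e ∈ U, Commute (e * y * e⁻¹) x
  · have hAy : ⁅U, zpowers x⁆ ≤ centralizer ({y} : Set G) := by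
      rw [commutator_le]
      intro e he g hg
      obtain ⟨k, rfl⟩ := mem_zpowers_iff.mp hg
      have h2 : Commute y (e * x ^ k * e⁻¹) := by
        have h3 := (hall e⁻¹ (inv_mem he)).map (MulAut.conj e).toMonoidHom
        simp only [MulEquiv.coe_toMonoidHom, MulAut.conj_apply, inv_inv] at h3
        rw [show e * (e⁻¹ * y * e) * e⁻¹ = y by group] at h3
        have := h3.zpow_right k
        rwa [conj_zpow] at this
      refine mem_centralizer_singleton_iff.mpr ?_
      rw [commutatorElement_def]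
      exact (h2.mul_right (hn.zpow_right k).inv_right).symm.eq
    set L₁ := L.map (MulAut.conj n).toMonoidHom
    have hL1 : centralizer ({y} : Set G) ≤ L₁ := by
      intro c hc
      refine ⟨n⁻¹ * c * n, h.centralizer_le_of_strong hL' (mem_centralizer_singleton_iff.mpr ?_),
        by simp [mul_assoc]⟩
      have := (show Commute c y from mem_centralizer_singleton_iff.mp hc).map
        (MulAut.conj n⁻¹).toMonoidHom
      rw [hy] at this
      simp only [MulEquiv.coe_toMonoidHom, MulAut.conj_apply, inv_inv] at this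
      rw [show n⁻¹ * (n * x * n⁻¹) * n = x by group] at this
      exact this.eq
    have hco₁ : IsCoatom L₁ :=
      (OrderIso.isCoatom_iff (MulEquiv.mapSubgroup (MulAut.conj n)) L).mpr hco
    have he := h.eq_of_strong' hA1 hs hco hxL (hA1U.trans hUL) hco₁
      (hL1 (mem_centralizer_singleton_iff.mpr hn.symm.eq)) (hAy.trans hL1)
    exact (h.coatom_normalizer_eq hco hxL).le (mem_normalizer_iff_map_conj_eq.mpr he.symm)
  · push Not at hall
    obtain ⟨e, he, hne⟩ := hall
    obtain ⟨M, hM, hxM, hgM, hgxM⟩ := h.exists_coatom_conj (c := (1 : G)) (one_mem _) (e * n)⁻¹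
    have heyM : e * y * e⁻¹ ∈ M := by
      rw [inv_inv] at hgxM
      simpa [hy, mul_assoc] using hgxM
    obtain ⟨hobj, hle, -⟩ := h.inter_obj hA.prime hA.ne hUr hxU hxM heyM
      (comm_conj_mem hxU hyU hn.symm he)
      (fun e' => hne (commutatorElement_eq_one_iff_commute.mp e').symm)
    have heq := h.eq_of_strong' hobj hs hM hxM (hle.trans inf_le_left) hco hxL
      ((hle.trans inf_le_right).trans hUL)
    have h2 : e * n ∈ L := by
      rw [← heq]; simpa using inv_mem hgM
    have h3 := mul_mem (inv_mem (hUL he)) h2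
    rwa [inv_mul_cancel_left] at h3

/-- Conjugation into a strong member is trivial. -/
theorem mem_of_conj_mem_strong {L : Subgroup G} (hL : IsStrongMember p x L) {g : G}
    (hg : g * x * g⁻¹ ∈ L) : g ∈ L := by
  obtain ⟨o, ho, hc⟩ := h.exists_conj_commute hL.1.1 hL.2.1 (y := g * x * g⁻¹)
    (isConj_iff.mpr ⟨g, rfl⟩) hg
  have hog : o * g ∈ L := h.carrier_subset hL (by
    show Commute (o * g * x * (o * g)⁻¹) x
    rwa [show o * g * x * (o * g)⁻¹ = o * (g * x * g⁻¹) * o⁻¹ by group])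
  have := mul_mem (inv_mem (core'_le p L ho)) hog
  rwa [inv_mul_cancel_left] at this

/-- One strong member for each strong prime. -/
theorem strong_unique {r : ℕ} {A A' L L' : Subgroup G} (hs : Strong p r G)
    (hA : IsObj p x r A) (hco : IsCoatom L) (hxL : x ∈ L) (hAL : A ≤ L)
    (hA' : IsObj p x r A') (hco' : IsCoatom L') (hxL' : x ∈ L') (hAL' : A' ≤ L') : L = L' := by
  haveI := Fact.mk hA.prime
  obtain ⟨E, hEA, hE⟩ := h.obj_rank hA hs.2
  obtain ⟨E', hEA', hE'⟩ := h.obj_rank hA' hs.2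
  obtain ⟨S, hS⟩ := (hA.isPGroup.to_le hEA).exists_le_sylow
  obtain ⟨S', hS'⟩ := (hA'.isPGroup.to_le hEA').exists_le_sylow
  obtain ⟨g, hg⟩ := MulAction.exists_smul_eq G S S'
  have hgS : (S' : Subgroup G) = (S : Subgroup G).map (MulAut.conj g).toMonoidHom := by
    rw [← hg, Sylow.coe_subgroup_smul]; rfl
  have hne : ∀ {B : Subgroup G}, IsElem3 r B → B ≠ ⊥ := fun hB => card_ne_zero_pow_two
    ((Nat.pow_le_pow_right hA.prime.pos (by norm_num)).trans hB.2)
  have key : L' = L.map (MulAut.conj g).toMonoidHom := by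
    by_cases ht : IsTriv r G
    · have h5 : 5 ≤ r := hs.1.resolve_right fun e => e ht
      have e1 : L = zjMax (S : Subgroup G) :=
        ((hco.le_iff.mp (h.hyp.le_zjMax h5 ht hco.1 hE (hEA.trans hAL) S hS)).resolve_left
          (h.hyp.zjMax_ne_top S.2 fun e => hne hE (eq_bot_iff.mpr (e ▸ hS)))).symm
      have e2 : L' = zjMax (S' : Subgroup G) :=
        ((hco'.le_iff.mp (h.hyp.le_zjMax h5 ht hco'.1 hE' (hEA'.trans hAL') S' hS')).resolve_left
          (h.hyp.zjMax_ne_top S'.2 fun e => hne hE' (eq_bot_iff.mpr (e ▸ hS')))).symm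
      rw [e1, e2, hgS, zjMax_conj]
    · have e : ∀ {E A L : Subgroup G}, IsObj p x r A → IsElem3 r E → E ≤ A → IsCoatom L → x ∈ L →
          A ≤ L → L = normalizer (W r E : Set G) := by
        intro E A L hA hE hEA hco hxL hAL
        obtain ⟨P⟩ : Nonempty (Sylow r (Cfsg.pPrimePCore r ↥L)) := inferInstance
        exact ((hco.le_iff.mp (h.hyp.le_normalizer_W hE hco.1 (hEA.trans hAL) P
          (h.obj_top_rank hA hs.2 hco.1 hxL hAL P))).resolve_left
          (h.hyp.normalizer_W_ne_top hE (h.hyp.W_ne_bot hE ht))).symm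
      rw [e hA hE hEA hco hxL hAL, e hA' hE' hEA' hco' hxL' hAL']
      have hEg : E.map (MulAut.conj g).toMonoidHom ≤ S' := hgS ▸ map_mono hS
      rw [h.hyp.W_eq_of_pGroup S'.2 hE' (IsElem3.conj hE g) hS' hEg,
        MinTwoGen.W_conj (fun a ha ha1 => IsElem3.point hE ha ha1) g]
      exact (map_equiv_normalizer_eq _ (MulAut.conj g)).symm
  obtain ⟨w, hw, hwx⟩ := key.le hxL'
  have hL : IsStrongMember p x L := ⟨hco, hxL, r, A, hA, hs, hAL⟩
  have hgx : g⁻¹ * x * (g⁻¹)⁻¹ ∈ L := by
    have : w = g⁻¹ * x * g := by rw [← hwx]; simp [mul_assoc]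
    rw [inv_inv, ← this]; exact hw
  have hgL : g ∈ L := by simpa using inv_mem (h.mem_of_conj_mem_strong hL hgx)
  rw [key]
  exact (mem_normalizer_iff_map_conj_eq.mp (le_normalizer hgL)).symm

/-! ### Counting -/

/-- Proper subgroups have index at least `p`. -/
theorem prime_le_index {H : Subgroup G} (hH : H ≠ ⊤) : p ≤ H.index := by
  classical
  have hbot : H.normalCore = ⊥ := (h.hyp.simple _ inferInstance).resolve_right fun e =>
    hH (top_le_iff.mp (e ▸ normalCore_le H))
  have hinj : Function.Injective (MulAction.toPermHom G (G ⧸ H)) := by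
    rw [← MonoidHom.ker_eq_bot_iff, ← normalCore_eq_ker, hbot]
  have hd : Nat.card G ∣ Nat.card (Equiv.Perm (G ⧸ H)) := card_dvd_of_injective _ hinj
  rw [Nat.card_perm, ← Subgroup.index_eq_card] at hd
  exact (Nat.Prime.dvd_factorial hp.out).mp ((h.ord ▸ orderOf_dvd_natCard x).trans hd)

/-- `k` proper subgroups cover at most `k/p` of `G`. -/
theorem mul_ncard_biUnion_le (F : Finset (Subgroup G)) (hF : ∀ H ∈ F, H ≠ ⊤) :
    p * (⋃ H ∈ F, (H : Set G)).ncard ≤ F.card * Nat.card G := by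
  classical
  induction F using Finset.induction_on with
  | empty => simp
  | @insert H F hHF ih =>
    rw [Finset.set_biUnion_insert, Finset.card_insert_of_notMem hHF]
    have h1 : p * (H : Set G).ncard ≤ Nat.card G := by
      rw [← Nat.card_coe_set_eq, ← H.card_mul_index, mul_comm p]
      exact Nat.mul_le_mul_left _ (h.prime_le_index (hF H (Finset.mem_insert_self _ _)))
    calc p * ((H : Set G) ∪ ⋃ K ∈ F, (K : Set G)).ncard
        ≤ p * ((H : Set G).ncard + (⋃ K ∈ F, (K : Set G)).ncard) :=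
          Nat.mul_le_mul_left _ (Set.ncard_union_le _ _)
      _ ≤ _ := by
          rw [mul_add, add_mul, one_mul, add_comm (F.card * _)]
          exact add_le_add h1 (ih fun K hK => hF K (Finset.mem_insert_of_mem hK))

/-- There are fewer than `p / 2` strong members. -/
theorem two_mul_card_strong_lt (F : Finset (Subgroup G)) (hF : ∀ L ∈ F, IsStrongMember p x L) :
    2 * F.card < p := by
  classical
  have hch : ∀ L : Subgroup G, ∃ q : ℕ, L ∈ F → ∃ A, IsObj p x q A ∧ Strong p q G ∧ A ≤ L := by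
    intro L
    by_cases hL : L ∈ F
    · obtain ⟨-, -, r, A, h1⟩ := hF L hL
      exact ⟨r, fun _ => ⟨A, h1⟩⟩
    · exact ⟨0, fun e => absurd e hL⟩
  choose f hf using hch
  let φ : ℕ → ℕ := fun q => if q = 2 then 0 else q / 2
  have hmaps : ∀ L ∈ F, φ (f L) ∈ Finset.range ((p - 1) / 2) := by
    intro L hL
    obtain ⟨A, hA, -, -⟩ := hf L hL
    have h5 := h.five
    have hlt := h.obj_lt hA
    have hpo := Nat.odd_iff.mp (hp.out.odd_of_ne_two (by omega))
    simp only [φ, Finset.mem_range]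
    split
    · omega
    · have hqo := Nat.odd_iff.mp (hA.prime.odd_of_ne_two ‹_›)
      omega
  have hinj : Set.InjOn (fun L => φ (f L)) F := by
    intro L hL L' hL' e
    obtain ⟨A, hA, hs, hAL⟩ := hf L hL
    obtain ⟨A', hA', hs', hAL'⟩ := hf L' hL'
    have hq : f L = f L' := by
      have h3 : ∀ q : ℕ, q.Prime → q ≠ 2 → q % 2 = 1 ∧ 3 ≤ q := fun q hq hq2 => by
        have := hq.two_le; have := Nat.odd_iff.mp (hq.odd_of_ne_two hq2); omega
      simp only [φ] at e
      split at e <;> split at e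
      · omega
      · have := h3 _ hA'.prime ‹_›; omega
      · have := h3 _ hA.prime ‹_›; omega
      · have := h3 _ hA.prime ‹_›; have := h3 _ hA'.prime ‹_›; omega
    rw [← hq] at hA'
    exact h.strong_unique hs hA (hF L hL).1 (hF L hL).2.1 hAL hA' (hF L' hL').1 (hF L' hL').2.1 hAL'
  have := Finset.card_le_card_of_injOn _ hmaps hinj
  rw [Finset.card_range] at this
  have := h.five
  omega

end Ctx

end CfsgLib.TwoGenSolv66
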