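import Cfsg.Agent.TwoGenSolv66.Top
import Cfsg.Agent.TwoGenSolv66.Members
import Cfsg.Agent.TwoGenSolv66.Avoid

/-!
# Subgroups with a moved invariant 2-group of rank three

* `HighIn x M` : `M` contains an `x`-invariant moved 2-group of rank three.
* `Ctx.exists_high_ge` : then every 2-object of `M` lies in one (`p = 5`).
* `IsHi x M` : a maximal subgroup through `x` of that kind, for nontrivial cores; it is the
  normaliser of a signalizer closure, and two of them sharing an object are equal.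
* a maximal subgroup over `N(D)` or `C(z)`, `z ∈ Φ(D)`, is of that kind, for a low object `D` inside
  a group of rank three.
-/

set_option autoImplicit false
set_option linter.unusedSectionVars false
set_option linter.unusedVariables false
set_option linter.style.haveILetI false

open scoped commutatorElement Pointwise

namespace CfsgLib.TwoGenSolv66

open Subgroup CfsgLib.SolvSig CfsgLib.Transitivity

universe u

/-- An invariant moved 2-group of rank three inside `M`. -/
def HighIn {G : Type*} [Group G] (x : G) (M : Subgroup G) : Prop :=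
  ∃ R : Subgroup G, IsPGroup 2 R ∧ R ≤ M ∧ x ∈ normalizer (R : Set G) ∧
    x ∉ centralizer (R : Set G) ∧ HasRank3 2 R

/-- A maximal subgroup through `x` with such a group, for nontrivial cores. -/
structure IsHi {G : Type*} [Group G] (x : G) (M : Subgroup G) : Prop where
  coatom : IsCoatom M
  mem : x ∈ M
  ntriv : ¬ IsTriv 2 G
  high : HighIn x M

variable {G : Type u} [Group G] [Finite G] {p : ℕ} [hp : Fact p.Prime] {x : G}

omit [Finite G] in
theorem mem_normalizer_map_conj {R : Subgroup G} {k : G} (hk : Commute k x)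
    (hx : x ∈ normalizer (R : Set G)) :
    x ∈ normalizer ((R.map (MulAut.conj k).toMonoidHom : Subgroup G) : Set G) :=
  le_normalizer_map (MulAut.conj k).toMonoidHom
    ⟨x, hx, by simp [hk.eq]⟩

theorem HasRank3.conj {r : ℕ} {R : Subgroup G} (h : HasRank3 r R) (g : G) :
    HasRank3 r (R.map (MulAut.conj g).toMonoidHom) := by
  obtain ⟨E, hER, hE, h3⟩ := h
  exact ⟨_, map_mono hER, OddOrder.isElementaryAbelian_map _ hE, by
    rw [card_map_of_injective (MulAut.conj g).injective]; exact h3⟩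

/-- An element of an invariant group outside `C(x)` shows that it is moved. -/
theorem notMem_centralizer_of_not_commute {R : Subgroup G} {a : G} (ha : a ∈ R)
    (hax : ¬ Commute a x) : x ∉ centralizer (R : Set G) := fun hc =>
  hax (mem_centralizer_iff.mp hc a ha)

namespace Ctx

variable (h : Ctx G p x)
include h

theorem two_ne : (2 : ℕ) ≠ p := by have := h.five; omega

theorem pow_five (hp5 : p = 5) : x ^ 5 = 1 := hp5 ▸ h.pow_eq

/-- An object of `H` lies in an invariant Sylow subgroup of `O_{p'}(H)`. -/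
theorem exists_sylow_obj {r : ℕ} [Fact r.Prime] {A H : Subgroup G} (hA : IsObj p x r A)
    (hH : H ≠ ⊤) (hx : x ∈ H) (hAH : A ≤ H) :
    ∃ S : Sylow r ↥(core' p H), A ≤ (S : Subgroup ↥(core' p H)).map (core' p H).subtype ∧
      x ∈ normalizer
        (((S : Subgroup ↥(core' p H)).map (core' p H).subtype : Subgroup G) : Set G) := by
  set K := core' p H
  have hKp : ¬ p ∣ Nat.card K := PLocal.not_dvd_iff_coprime.mp (card_core'_coprime p H)
  have hn : H ≤ normalizer (K : Set G) := le_normalizer.trans (normalizer_le_normalizer_core' p H)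
  obtain ⟨S, hAS, hS⟩ := Coprime.exists_invariant_sylow_ge (zpowers_le.mpr (hn hx))
    (h.coprime hKp) (Or.inl (isSolvable_zpowers' x)) (h.obj_le_core' hA hH hx hAH) hA.isPGroup
    (zpowers_le.mpr hA.inv)
  exact ⟨S, hAS, hS (mem_zpowers x)⟩

/-- Invariant Sylow subgroups of `O_{p'}(H)` are conjugate by fixed elements. -/
theorem exists_conj_fixed {r : ℕ} [Fact r.Prime] {H : Subgroup G} (hx : x ∈ H)
    (S S' : Sylow r ↥(core' p H))
    (hS : x ∈ normalizer (((S : Subgroup ↥(core' p H)).map (core' p H).subtype : Subgroup G) : Set G))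
    (hS' : x ∈
      normalizer (((S' : Subgroup ↥(core' p H)).map (core' p H).subtype : Subgroup G) : Set G)) :
    ∃ k ∈ core' p H, Commute k x ∧
      ((S : Subgroup ↥(core' p H)).map (core' p H).subtype).map (MulAut.conj k).toMonoidHom =
        (S' : Subgroup ↥(core' p H)).map (core' p H).subtype := by
  have hKp : ¬ p ∣ Nat.card ↥(core' p H) := PLocal.not_dvd_iff_coprime.mp (card_core'_coprime p H)
  have hn : H ≤ normalizer (core' p H : Set G) :=
    le_normalizer.trans (normalizer_le_normalizer_core' p H)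
  obtain ⟨c, hc, hconj⟩ := Coprime.exists_conj_map_sylow S S'
  obtain ⟨k, hk, hkS⟩ := Coprime.exists_conj_eq_of_invariant (zpowers_le.mpr (hn hx))
    (h.coprime hKp) (Or.inl (isSolvable_zpowers' x)) (zpowers_le.mpr hS) (zpowers_le.mpr hS') hc hconj
  exact ⟨k, hk.1, (mem_centralizer_iff.mp hk.2 x (mem_zpowers x)).symm, hkS⟩

variable (hp5 : p = 5)
include hp5

/-- In a subgroup with a high group every object lies in a high group. -/
theorem exists_high_ge {M B : Subgroup G} (hM : M ≠ ⊤) (hx : x ∈ M) (hH : HighIn x M)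
    (hB : IsObj p x 2 B) (hBM : B ≤ M) :
    ∃ R : Subgroup G, IsPGroup 2 R ∧ R ≤ M ∧ x ∈ normalizer (R : Set G) ∧ B ≤ R ∧
      HasRank3 2 R := by
  haveI : Fact (Nat.Prime 2) := ⟨Nat.prime_two⟩
  obtain ⟨S, hBS, hS⟩ := h.exists_sylow_obj hB hM hx hBM
  set S' := (S : Subgroup ↥(core' p M)).map (core' p M).subtype
  by_cases h3 : HasRank3 2 S'
  · exact ⟨S', S.2.map _, (map_subtype_le _).trans (core'_le p M), hS, hBS, h3⟩
  have hmvS : x ∉ centralizer (S' : Set G) := fun hc =>
    obj_moved hB (centralizer_le hBS hc)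
  have hspec := low_spec (h.pow_five hp5) (S.2.map _) h3 hS hmvS
  have hBe : B = S' := hspec.eq_of_moved B hBS hB.inv (obj_moved hB)
  obtain ⟨R, hR, hRM, hxR, hmvR, hR3⟩ := hH
  obtain ⟨hA, hAR⟩ := h.obj_of_moved Nat.prime_two h.two_ne hR hxR hmvR
  obtain ⟨T, hAT, hT⟩ := h.exists_sylow_obj hA hM hx (hAR.trans hRM)
  obtain ⟨k, hk, hkx, he⟩ := h.exists_conj_fixed hx T S hT hS
  set A := ⁅R, zpowers x⁆
  have hAk : A.map (MulAut.conj k).toMonoidHom = B := by
    rw [hBe]
    refine hspec.eq_of_moved _ ((map_mono hAT).trans he.le) (mem_normalizer_map_conj hkx hA.inv)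
      fun hc => obj_moved hA (mem_centralizer_iff.mpr fun a ha => ?_)
    have h1 : Commute (k * a * k⁻¹) x := mem_centralizer_iff.mp hc _ ⟨a, ha, rfl⟩
    exact (Commute.conj_iff k).mp (by rwa [hkx.eq, mul_inv_cancel_right])
  refine ⟨R.map (MulAut.conj k).toMonoidHom, hR.map _, ?_, mem_normalizer_map_conj hkx hxR,
    hAk.ge.trans (map_mono hAR), hR3.conj k⟩
  rintro _ ⟨a, ha, rfl⟩
  exact mul_mem (mul_mem (core'_le p M hk) (hRM ha)) (inv_mem (core'_le p M hk))

/-- Such a maximal subgroup is the normaliser of a signalizer closure. -/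
theorem hi_eq_normalizer_W {M E : Subgroup G} (hM : IsHi x M) (hE : IsElem3 2 E) (hEM : E ≤ M) :
    M = normalizer (W 2 E : Set G) := by
  haveI : Fact (Nat.Prime 2) := ⟨Nat.prime_two⟩
  obtain ⟨R, hR, hRM, hxR, hmvR, hR3⟩ := hM.high
  obtain ⟨hA, hAR⟩ := h.obj_of_moved Nat.prime_two h.two_ne hR hxR hmvR
  exact ((hM.coatom.le_iff.mp (h.le_normalizer_W_of_high hp5 hA hM.coatom.1 hM.mem (hAR.trans hRM)
    hR hxR hRM hR3 hE hEM)).resolve_left
      (h.hyp.normalizer_W_ne_top hE (h.hyp.W_ne_bot hE hM.ntriv))).symm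

/-- Two of them sharing an object are equal. -/
theorem hi_eq_of_common {M M' B : Subgroup G} (hM : IsHi x M) (hM' : IsHi x M')
    (hB : IsObj p x 2 B) (hBM : B ≤ M) (hBM' : B ≤ M') : M = M' := by
  haveI : Fact (Nat.Prime 2) := ⟨Nat.prime_two⟩
  obtain ⟨R, hR, hRM, hxR, hBR, hR3⟩ := h.exists_high_ge hp5 hM.coatom.1 hM.mem hM.high hB hBM
  obtain ⟨R', hR', hRM', hxR', hBR', hR3'⟩ :=
    h.exists_high_ge hp5 hM'.coatom.1 hM'.mem hM'.high hB hBM'
  obtain ⟨E, hER, hE⟩ := hR3
  obtain ⟨E', hER', hE'⟩ := hR3'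
  rw [h.hi_eq_normalizer_W hp5 hM hE (hER.trans hRM),
    h.hi_eq_normalizer_W hp5 hM' hE' (hER'.trans hRM'),
    h.hyp.W_eq_of_common (h.pow_five hp5) hB.inv (obj_moved hB) hR hxR hBR hE hER hR' hxR' hBR' hE'
      hER']

omit hp5 in
/-- A high group makes a maximal subgroup high. -/
theorem isHi_of_le {M R : Subgroup G} (ht : ¬ IsTriv 2 G) (hM : IsCoatom M) (hx : x ∈ M)
    {B : Subgroup G} (hB : IsObj p x 2 B) (hBR : B ≤ R) (hR : IsPGroup 2 R) (hRM : R ≤ M)
    (hxR : x ∈ normalizer (R : Set G)) (hR3 : HasRank3 2 R) : IsHi x M :=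
  ⟨hM, hx, ht, R, hR, hRM, hxR, fun hc => obj_moved hB (centralizer_le hBR hc), hR3⟩

/-- An invariant 2-group properly over a low object has rank three. -/
theorem hasRank3_of_lt {D R : Subgroup G} (hD : IsObj p x 2 D) (hR : IsPGroup 2 R)
    (hxR : x ∈ normalizer (R : Set G)) (hDR : D < R) : HasRank3 2 R := by
  by_contra h3
  exact hDR.ne ((low_spec (h.pow_five hp5) hR h3 hxR fun hc =>
    obj_moved hD (centralizer_le hDR.le hc)).eq_of_moved D hDR.le hD.inv (obj_moved hD))

variable (ht : ¬ IsTriv 2 G) {D R : Subgroup G} (hD : IsObj p x 2 D) (hlow : ¬ HasRank3 2 D)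
  (hR : IsPGroup 2 R) (hxR : x ∈ normalizer (R : Set G)) (hDR : D ≤ R) (hR3 : HasRank3 2 R)
include ht hD hlow hR hxR hDR hR3

/-- A maximal subgroup over the normaliser of a low object in a high group is high. -/
theorem isHi_over_normalizer {M : Subgroup G} (hM : IsCoatom M)
    (hNM : normalizer (D : Set G) ≤ M) : IsHi x M ∧ D ≤ M := by
  haveI : Fact (Nat.Prime 2) := ⟨Nat.prime_two⟩
  set R' := R ⊓ normalizer (D : Set G)
  have hlt : D < R' := by
    have h1 := exists_gt_inf_normalizer hR (lt_of_le_of_ne hDR fun e => hlow (e ▸ hR3))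
    exact lt_of_le_of_ne (le_inf hDR le_normalizer) fun e => h1.ne (congrArg (fun S : Subgroup G => Nat.card S) e)
  have hxR' : x ∈ normalizer (R' : Set G) :=
    inf_normalizer_le_normalizer_inf ⟨hxR, le_normalizer hD.inv⟩
  exact ⟨h.isHi_of_le ht hM (hNM hD.inv) hD hlt.le (hR.to_le inf_le_left)
    (inf_le_right.trans hNM) hxR' (h.hasRank3_of_lt hp5 hD (hR.to_le inf_le_left) hxR' hlt),
    le_normalizer.trans hNM⟩

/-- A maximal subgroup over the centraliser of a nontrivial element of `Φ(D)` is high. -/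
theorem isHi_over_centralizer {z : G} (hz : z ∈ phiSub D) (hz1 : z ≠ 1) {M : Subgroup G}
    (hM : IsCoatom M) (hzM : centralizer ({z} : Set G) ≤ M) : IsHi x M ∧ D ≤ M := by
  haveI : Fact (Nat.Prime 2) := ⟨Nat.prime_two⟩
  have hS := low_spec (h.pow_five hp5) hD.isPGroup hlow hD.inv (obj_moved hD)
  have hDz : D ≤ centralizer ({z} : Set G) :=
    hS.central.trans (centralizer_le (Set.singleton_subset_iff.mpr hz))
  have hzx : Commute z x := mem_centralizer_singleton_iff.mp (hS.fixed hz)
  have hxz : x ∈ centralizer ({z} : Set G) := mem_centralizer_singleton_iff.mpr hzx.symm.eq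
  obtain ⟨E, hE, hzE, hER⟩ := exists_elem3_mem_phiSub hR hR3 hDR hz (hS.sq_one z hz)
  have hEz : E ≤ centralizer ({z} : Set G) :=
    hE.comm.trans (centralizer_le (Set.singleton_subset_iff.mpr hzE))
  exact ⟨h.isHi_of_le ht hM (hzM hxz) hD (le_inf hDR hDz) (hR.to_le inf_le_left)
    (inf_le_right.trans hzM)
    (inf_normalizer_le_normalizer_inf ⟨hxR, le_normalizer hxz⟩)
    ⟨E, le_inf hER hEz, hE.1, hE.2⟩, hDz.trans hzM⟩

end Ctx

end CfsgLib.TwoGenSolv66
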