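import Cfsg.Agent.TwoGenSolv66.Rank
import Cfsg.Agent.Coprime.Generation

/-!
# Generation by centralisers of elements outside a small central subgroup

A 2-group `B` of class at most two with `Z` elementary central of order at most four and
`|B : Z| ≥ 16` acts on a 3-group `Q`; then `Q` is generated by the `C_Q(a)`, `a ∈ B ∖ Z`.
-/

set_option autoImplicit false
set_option linter.unusedSectionVars false
set_option linter.style.haveILetI false

open scoped commutatorElement

namespace CfsgLib.TwoGenSolv66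

open Subgroup

variable {G : Type*} [Group G] [Finite G]

/-- Generation by centralisers for a group that is elementary abelian modulo a central subgroup
`K` acting trivially. -/
theorem le_of_forall_mod {R A K W : Subgroup G} (hA : IsPGroup 2 A) (hR : IsPGroup 3 R)
    (hAR : A ≤ normalizer (R : Set G)) (hKA : K ≤ A) (hKc : A ≤ centralizer (K : Set G))
    (hKR : R ≤ centralizer (K : Set G)) (hsq : ∀ a ∈ A, a * a ∈ K)
    (hcm : ∀ a ∈ A, ∀ b ∈ A, ⁅a, b⁆ ∈ K) (h4 : 4 * Nat.card K ≤ Nat.card A)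
    (hW : ∀ a ∈ A, a ∉ K → R ⊓ centralizer ({a} : Set G) ≤ W) : R ≤ W := by
  haveI : Fact (Nat.Prime 2) := ⟨Nat.prime_two⟩
  haveI : Fact (Nat.Prime 3) := ⟨Nat.prime_three⟩
  obtain ⟨i, hi⟩ := IsPGroup.iff_card.1 hA
  obtain ⟨j, hj⟩ := IsPGroup.iff_card.1 hR
  have hcop : (Nat.card A).Coprime (Nat.card R) := by
    rw [hi, hj]; exact ((by norm_num : Nat.Coprime 2 3).pow i j)
  have hRK : ∀ x ∈ R, x ∈ K → x = 1 := fun x hx hxK => mem_bot.1 (by
    rw [← Coprime.inf_eq_bot_of_coprime (hcop.coprime_dvd_left (card_dvd_of_le hKA)).symm]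
    exact mem_inf.2 ⟨hx, hxK⟩)
  set N := R ⊔ A
  haveI : (K.subgroupOf N).Normal := (normal_subgroupOf_iff_le_normalizer
    (hKA.trans le_sup_right)).2 (sup_le (hKR.trans (centralizer_le_normalizer _))
      (hKc.trans (centralizer_le_normalizer _)))
  let π := QuotientGroup.mk' (K.subgroupOf N)
  let φ : A →* N ⧸ K.subgroupOf N := π.comp (inclusion le_sup_right)
  let ψ : R →* N ⧸ K.subgroupOf N := π.comp (inclusion le_sup_left)
  have hπ : ∀ x : N, π x = 1 ↔ (x : G) ∈ K := fun x =>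
    (QuotientGroup.eq_one_iff x).trans mem_subgroupOf
  have hφ : ∀ x, φ x = 1 ↔ (x : G) ∈ K := fun x => hπ _
  have hψinj : Function.Injective ψ := (injective_iff_map_eq_one ψ).2 fun x hx =>
    Subtype.ext (hRK x x.2 ((hπ _).1 hx))
  haveI : IsMulCommutative φ.range := ⟨⟨fun u v => Subtype.ext (by
    obtain ⟨a, ha⟩ := u.2
    obtain ⟨b, hb⟩ := v.2
    show (u : N ⧸ K.subgroupOf N) * v = v * u
    rw [← ha, ← hb, ← commutatorElement_eq_one_iff_mul_comm, ← map_commutatorElement, hφ]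
    exact hcm a a.2 b b.2)⟩⟩
  have hcard : Nat.card φ.range * Nat.card K = Nat.card A := by
    rw [← φ.ker.card_mul_index, Subgroup.index_ker, mul_comm,
      show φ.ker = K.subgroupOf A from Subgroup.ext fun x => by
        rw [MonoidHom.mem_ker, hφ, mem_subgroupOf],
      Nat.card_congr (subgroupOfEquivOfLe hKA).toEquiv]
  have hnc : ¬ IsCyclic φ.range := fun hc => by
    have h1 : Monoid.exponent φ.range ∣ 2 := Monoid.exponent_dvd_of_forall_pow_eq_one
      fun u => Subtype.ext (by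
        obtain ⟨a, ha⟩ := u.2
        show (u : N ⧸ K.subgroupOf N) ^ 2 = 1
        rw [← ha, ← map_pow, hφ, pow_two]
        exact hsq a a.2)
    rw [IsCyclic.exponent_eq_card] at h1
    have h2 := Nat.le_of_dvd two_pos h1
    have h3 : Nat.card φ.range * Nat.card K ≤ 2 * Nat.card K := Nat.mul_le_mul_right _ h2
    have : 0 < Nat.card K := Nat.card_pos
    omega
  have hn : φ.range ≤ normalizer (ψ.range : Set (N ⧸ K.subgroupOf N)) := by
    rintro _ ⟨a, rfl⟩
    refine LocalStructure.mem_normalizer_of_forall ?_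
    rintro _ ⟨x, rfl⟩
    exact ⟨⟨(a : G) * x * (a : G)⁻¹, (mem_normalizer_iff.1 (hAR a.2) _).1 x.2⟩, rfl⟩
  have hcop' : (Nat.card φ.range).Coprime (Nat.card ψ.range) :=
    (hcop.coprime_dvd_left (Subgroup.card_range_dvd φ)).coprime_dvd_right
      (Subgroup.card_range_dvd ψ)
  have key : ψ.range ≤ (W.subgroupOf R).map ψ := by
    refine Coprime.le_of_forall_inf_centralizer_le hnc hn hcop' ?_
    rintro _ ⟨a, rfl⟩ ha1 u hu
    obtain ⟨⟨x, rfl⟩, hu⟩ := mem_inf.1 hu
    have haK : (a : G) ∉ K := fun h => ha1 ((hφ a).2 h)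
    refine ⟨x, hW a a.2 haK ⟨x.2, ?_⟩, rfl⟩
    have h1 : ⁅(x : G), (a : G)⁆ ∈ K := (hπ ⁅inclusion le_sup_left x, inclusion le_sup_right a⁆).1
      ((map_commutatorElement π _ _).trans
        (commutatorElement_eq_one_iff_mul_comm.2 (mem_centralizer_singleton_iff.1 hu)))
    have h2 : ⁅(x : G), (a : G)⁆ ∈ R := by
      rw [commutatorElement_def, mul_assoc, mul_assoc]
      refine mul_mem x.2 ?_
      rw [← mul_assoc]
      exact (mem_normalizer_iff.1 (hAR a.2) _).1 (inv_mem x.2)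
    exact mem_centralizer_singleton_iff.2
      (commutatorElement_eq_one_iff_mul_comm.1 (hRK _ h2 h1))
  intro x hx
  obtain ⟨w, hw, e⟩ := key ⟨⟨x, hx⟩, rfl⟩
  rw [hψinj e] at hw
  exact hw

theorem le_iSup_fixed {G : Type*} [Group G] [Finite G] {B Z Q : Subgroup G} (hB : IsPGroup 2 B)
    (hQ : IsPGroup 3 Q) (hBQ : B ≤ normalizer (Q : Set G)) (hZB : Z ≤ B)
    (hZc : B ≤ centralizer (Z : Set G)) (hZ2 : ∀ z ∈ Z, z * z = 1) (hZ4 : Nat.card Z ≤ 4)
    (hsq : ∀ a ∈ B, a * a ∈ Z) (hcm : ∀ a ∈ B, ∀ b ∈ B, ⁅a, b⁆ ∈ Z)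
    (h16 : 16 * Nat.card Z ≤ Nat.card B) :
    Q ≤ ⨆ (a : G) (_ : a ∈ B ∧ a ∉ Z), Q ⊓ centralizer ({a} : Set G) := by
  haveI : Fact (Nat.Prime 2) := ⟨Nat.prime_two⟩
  have hW : ∀ a ∈ B, a ∉ Z → Q ⊓ centralizer ({a} : Set G) ≤
      ⨆ (a : G) (_ : a ∈ B ∧ a ∉ Z), Q ⊓ centralizer ({a} : Set G) := fun a ha haZ =>
    le_iSup₂_of_le a ⟨ha, haZ⟩ le_rfl
  generalize (⨆ (a : G) (_ : a ∈ B ∧ a ∉ Z), Q ⊓ centralizer ({a} : Set G)) = W at hW ⊢
  suffices ∀ n : ℕ, ∀ R : Subgroup G, Nat.card R = n → R ≤ Q → B ≤ normalizer (R : Set G) →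
      R ≤ W from this _ Q rfl le_rfl hBQ
  intro n
  induction n using Nat.strongRecOn with | ind n ih => ?_
  intro R hn hRQ hBR
  have hR := hQ.to_le hRQ
  have hZab : ∀ v ∈ Z, ∀ w ∈ Z, Commute v w := fun v hv w hw =>
    mem_centralizer_iff.1 (hZc (hZB hw)) v hv
  set K := Z ⊓ centralizer (R : Set G) with hKd
  have hKZ : K ≤ Z := inf_le_left
  have hKR : R ≤ centralizer (K : Set G) := le_centralizer_iff.1 inf_le_right
  -- centralisers of elements of `Z` outside the kernel are covered by induction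
  have hrec : ∀ a ∈ Z, a ∉ K → R ⊓ centralizer ({a} : Set G) ≤ W := by
    intro a ha haK
    have hlt : Nat.card ↥(R ⊓ centralizer ({a} : Set G)) < Nat.card R := by
      refine lt_of_le_of_ne (Nat.card_le_card_of_injective _ (inclusion_injective inf_le_left)) ?_
      intro e
      refine haK ⟨ha, mem_centralizer_iff.2 fun x hx => ?_⟩
      have := eq_of_le_of_card_ge (inf_le_left : R ⊓ centralizer ({a} : Set G) ≤ R) e.ge
      exact mem_centralizer_singleton_iff.1 (this.ge hx).2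
    refine ih _ (hn ▸ hlt) _ rfl (inf_le_left.trans hRQ) ?_
    intro b hb
    refine LocalStructure.mem_normalizer_of_forall fun x hx =>
      ⟨(mem_normalizer_iff.1 (hBR hb) x).1 hx.1, mem_centralizer_singleton_iff.2 ?_⟩
    have h1 : Commute b a := (mem_centralizer_iff.1 (hZc hb) a ha).symm
    have h2 : Commute x a := mem_centralizer_singleton_iff.1 hx.2
    exact ((h1.mul_left h2).mul_left h1.inv_left).eq
  have hrest : ∀ a ∈ B, a ∉ Z → R ⊓ centralizer ({a} : Set G) ≤ W := fun a ha haZ =>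
    (inf_le_inf_right _ hRQ).trans (hW a ha haZ)
  have hKpos : 0 < Nat.card K := Nat.card_pos
  by_cases hK : K = Z
  · rw [hK] at hKR
    exact le_of_forall_mod hB hR hBR hZB hZc hKR hsq hcm (by omega) hrest
  by_cases h4 : 4 * Nat.card K ≤ Nat.card Z
  · exact le_of_forall_mod (hB.to_le hZB) hR (hZB.trans hBR) hKZ
      (le_centralizer_iff.2 (fun v hv => mem_centralizer_iff.2 fun w hw => hZab w hw v (hKZ hv)))
      hKR (fun a ha => by rw [hZ2 a ha]; exact one_mem _)
      (fun a ha b hb => by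
        rw [commutatorElement_eq_one_iff_mul_comm.2 (hZab a ha b hb).eq]; exact one_mem _)
      h4 hrec
  -- `Z` acts as a group of order two
  have hidx : (K.subgroupOf Z).index = 2 := by
    have h1 := (K.subgroupOf Z).card_mul_index
    rw [Nat.card_congr (subgroupOfEquivOfLe hKZ).toEquiv] at h1
    have h2 : (K.subgroupOf Z).index ≠ 1 := fun e =>
      hK (le_antisymm hKZ (subgroupOf_eq_top.1 (index_eq_one.1 e)))
    have h3 : (K.subgroupOf Z).index ≠ 0 := Subgroup.FiniteIndex.index_ne_zero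
    have h4' : ¬ 4 ≤ (K.subgroupOf Z).index := fun h => h4 (by
      rw [← h1, mul_comm 4]; exact Nat.mul_le_mul_left _ h)
    have hZp : IsPGroup 2 Z := hB.to_le hZB
    obtain ⟨k, hk⟩ := hZp.index (K.subgroupOf Z)
    rcases k with _ | _ | k
    · exact absurd hk h2
    · exact hk
    · exact absurd (hk ▸ Nat.pow_le_pow_right two_pos (by omega : 2 ≤ k + 1 + 1)) h4'
  obtain ⟨v, w, hv, hw, hvw, hvZ, hwZ⟩ := exists_commute_pair (V := Z) (U := B) (W₁ := Z) hZ4
    le_rfl hZB hZc hZ2 hZc hsq hcm (by omega)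
  obtain ⟨f, hf, hfZ, hf2⟩ : ∃ f ∈ B, f ∉ Z ∧ f * f ∈ K := by
    by_cases h1 : v * v ∈ K
    · exact ⟨v, hv, hvZ, h1⟩
    by_cases h2 : w * w ∈ K
    · exact ⟨w, hw, fun h => hwZ (mem_sup_left h), h2⟩
    refine ⟨v * w, mul_mem hv hw, fun h => hwZ ?_, ?_⟩
    · have := mul_mem (inv_mem (mem_sup_right (mem_zpowers v) : v ∈ Z ⊔ zpowers v)) (mem_sup_left h)
      rwa [inv_mul_cancel_left] at this
    · rw [hvw.symm.mul_mul_mul_comm]
      exact (mem_subgroupOf (h := (⟨v * v, hsq v hv⟩ * ⟨w * w, hsq w hw⟩ : Z))).1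
        ((mul_mem_iff_of_index_two hidx).2 (iff_of_false h1 h2))
  set A := Z ⊔ zpowers f with hAd
  have hAB : A ≤ B := sup_le hZB (zpowers_le.2 hf)
  have hfc : f ∈ centralizer (Z : Set G) := hZc hf
  have hAab := commute_of_sq_sup hZab hfc
  refine le_of_forall_mod (hB.to_le hAB) hR (hAB.trans hBR) (hKZ.trans le_sup_left)
    (le_centralizer_iff.2 fun c hc => mem_centralizer_iff.2 fun d hd =>
      hAab d hd c (mem_sup_left (hKZ hc)))
    hKR ?_ (fun a ha b hb => by
      rw [commutatorElement_eq_one_iff_mul_comm.2 (hAab a ha b hb).eq]; exact one_mem _) ?_ ?_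
  · intro c hc
    obtain ⟨z, hz, _, ⟨i, rfl⟩, rfl⟩ := Coprime.exists_mul_of_mem_sup
      ((zpowers_le.2 hfc).trans (centralizer_le_normalizer _)) hc
    rw [((show Commute z f from mem_centralizer_iff.1 hfc z hz).zpow_right i).symm.mul_mul_mul_comm,
      hZ2 z hz, one_mul, ← zpow_add, ← two_mul, zpow_mul, zpow_two]
    exact zpow_mem hf2 i
  · have h1 := (K.subgroupOf Z).card_mul_index
    rw [Nat.card_congr (subgroupOfEquivOfLe hKZ).toEquiv, hidx] at h1
    have h2 : (Z.subgroupOf A).index ≠ 1 := fun e =>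
      hfZ (subgroupOf_eq_top.1 (index_eq_one.1 e) (mem_sup_right (mem_zpowers f)))
    have h3 := (Z.subgroupOf A).card_mul_index
    rw [Nat.card_congr (subgroupOfEquivOfLe (le_sup_left : Z ≤ A)).toEquiv] at h3
    have h5 : 2 ≤ (Z.subgroupOf A).index := by
      have : (Z.subgroupOf A).index ≠ 0 := Subgroup.FiniteIndex.index_ne_zero
      omega
    have h6 := Nat.mul_le_mul_left (Nat.card Z) h5
    omega
  · intro a ha haK
    by_cases haZ : a ∈ Z
    · exact hrec a haZ haK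
    · exact hrest a (hAB ha) haZ

end CfsgLib.TwoGenSolv66
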