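import Cfsg.Agent.TwoGenSolv66.W

/-!
# Primes with a unique maximal subgroup over the groups of rank three

* `core'_normalizer_eq_bot` : for a trivial prime, local subgroups of rank three have no `q'`-core.
* `le_zjMax` : for a trivial prime at least five, every proper subgroup of rank three lies in the
  normaliser of `Z(J(S))`.
-/

set_option autoImplicit false
set_option linter.unusedSectionVars false
set_option linter.unusedVariables false
set_option linter.style.haveILetI false

open scoped commutatorElement Pointwise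

namespace CfsgLib.TwoGenSolv66

open Subgroup CfsgLib.SolvSig CfsgLib.Transitivity

universe u

variable {G : Type u} [Group G] [Finite G] {q : ℕ} [hq : Fact q.Prime]

namespace MinTwoGen

variable (h : MinTwoGen G)
include h

/-- For a trivial prime, a local subgroup of rank three has trivial `q'`-core. -/
theorem core'_normalizer_eq_bot (ht : IsTriv q G) {Y A : Subgroup G} (hY : IsPGroup q Y)
    (hY1 : Y ≠ ⊥) (hA : IsElem3 q A) (hAY : A ≤ normalizer (Y : Set G)) :
    core' q (normalizer (Y : Set G)) = ⊥ := by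
  set N := normalizer (Y : Set G)
  set K := core' q N
  have hS : IsPGroup q ↥(Y ⊔ A) := hY.to_sup_of_normal_left' hA.isPGroup hAY
  set S := Y ⊔ A
  haveI : (Y.subgroupOf S).Normal := (normal_subgroupOf_iff_le_normalizer le_sup_left).mpr
    (sup_le le_normalizer hAY)
  have hY1' : Y.subgroupOf S ≠ ⊥ := fun e => hY1 (by
    rw [← map_subgroupOf_eq_of_le (le_sup_left : Y ≤ S), e, Subgroup.map_bot])
  obtain ⟨b, hbY, hbc, hbo⟩ := OddOrder.BG4.exists_central_orderOf_prime hS hY1'
  have hbq : (b : G) ^ q = 1 := by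
    rw [← Subgroup.orderOf_coe] at hbo; rw [← hbo]; exact pow_orderOf_eq_one _
  have hb1 : (b : G) ≠ 1 := fun e => by
    rw [← Subgroup.orderOf_coe, e, orderOf_one] at hbo; exact hq.out.ne_one hbo.symm
  have hcen : ∀ s ∈ S, Commute s (b : G) := fun s hs =>
    congrArg Subtype.val (mem_center_iff.mp hbc ⟨s, hs⟩)
  have hAb : IsElem3 q (A ⊔ zpowers (b : G)) :=
    ⟨OddOrder.BG11.elem_sup_zpowers hA.1 hbq (mem_centralizer_iff.mpr fun a ha =>
      hcen a (mem_sup_right ha)),
      hA.2.trans (Nat.card_le_card_of_injective _ (inclusion_injective le_sup_left))⟩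
  have hpt := hAb.point (mem_sup_right (mem_zpowers (b : G))) hb1
  have hYn : Y ≤ normalizer (K : Set G) :=
    le_normalizer.trans (le_normalizer.trans (normalizer_le_normalizer_core' q N))
  have hKY : K ≤ centralizer (Y : Set G) := by
    rw [← commutator_eq_bot_iff_le_centralizer, ← le_bot_iff]
    refine le_trans (le_inf ?_ ?_) (PLocal.disjoint_of_isPGroup_of_coprime hY
      (card_core'_coprime q N)).le
    · rw [commutator_comm]
      exact Coprime.commutator_le_of_le_normalizer (core'_le q N)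
    · exact Coprime.commutator_le_of_le_normalizer hYn
  set L := centralizer ({(b : G)} : Set G)
  haveI := h.sub L (h.centralizer_ne_top hb1)
  have hYL : Y ≤ L := fun y hy => mem_centralizer_singleton_iff.mpr (hcen y (mem_sup_left hy)).eq
  have hKL : K ≤ L := hKY.trans (centralizer_le (Set.singleton_subset_iff.mpr hbY))
  refine le_bot_iff.mp (fun k hk => ?_)
  rw [← ht _ hpt]
  refine ⟨⟨k, hKL hk⟩, ?_, rfl⟩
  refine CfsgLib.Inv53.le_pPrimeCore_of_normalized
    (PLocal.isPConstrained_of_isPSolvable PLocal.isPSolvable_of_isSolvable)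
    (A := Y.subgroupOf L) (X := K.subgroupOf L) hY.comap_subtype ?_ ?_ ?_ hk
  · rw [Nat.card_congr (subgroupOfEquivOfLe hKL).toEquiv]
    exact card_core'_coprime q N
  · intro z hz
    refine mem_centralizer_iff.mpr fun y hy => Subtype.ext ?_
    exact (mem_centralizer_iff.mp (hKY hy) z hz).symm
  · intro c hc
    have hcN : (c : G) ∈ N := centralizer_le_normalizer _ (mem_centralizer_iff.mpr fun y hy =>
      congrArg Subtype.val (mem_centralizer_iff.mp hc ⟨y, hYL hy⟩ hy))
    exact mem_normalizer_iff.mpr fun z => mem_normalizer_iff.mp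
      (normalizer_le_normalizer_core' q N (le_normalizer hcN)) (z : G)

/-- A proper subgroup is `O_{q'}` times the normaliser of a nontrivial `q`-subgroup of its Sylow
subgroup, if it has order divisible by `q`. -/
theorem exists_local_sup {H A : Subgroup G} (hH : H ≠ ⊤) (hA : IsPGroup q A) (hA1 : A ≠ ⊥)
    (hAH : A ≤ H) : ∃ Y : Subgroup G, Y ≠ ⊥ ∧ IsPGroup q Y ∧ A ≤ normalizer (Y : Set G) ∧
      H ≤ core' q H ⊔ normalizer (Y : Set G) := by
  haveI := h.sub H hH
  set U := Cfsg.pPrimePCore q ↥H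
  haveI : U.Normal := Normal.comap inferInstance _
  obtain ⟨R, hR⟩ := (hA.comap_subtype (K := H)).exists_le_sylow
  obtain ⟨T, hT⟩ := UniqueMaximal.exists_sylow_map_eq_inf U R
  set P₀ := (R : Subgroup ↥H) ⊓ U with hP₀
  have hfr := PLocal.normalizer_sylow_pPrimePCore_sup T
  rw [hT] at hfr
  refine ⟨P₀.map H.subtype, fun e => ?_, (R.2.to_le inf_le_left).map _, ?_, ?_⟩
  · have e' : P₀ = ⊥ := (Subgroup.map_eq_bot_iff_of_injective _ H.subtype_injective).mp e
    -- then `U = O_{q'}(H)`, so `H` is a `q'`-group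
    have hsup := PLocal.sylow_pPrimePCore_sup T
    rw [hT, e', bot_sup_eq] at hsup
    have hc : centralizer (Cfsg.pCore q (↥H ⧸ Cfsg.pPrimeCore q ↥H) : Set _) ≤
        Cfsg.pCore q (↥H ⧸ Cfsg.pPrimeCore q ↥H) :=
      PLocal.centralizer_pCore_le (PLocal.isPSolvable_quotient PLocal.isPSolvable_of_isSolvable _)
        (PLocal.pPrimeCore_quotient_pPrimeCore_eq_bot q ↥H)
    have hbot : Cfsg.pCore q (↥H ⧸ Cfsg.pPrimeCore q ↥H) = ⊥ := by
      rw [← PLocal.map_pPrimePCore q ↥H, ← hsup]
      exact (Subgroup.map_eq_bot_iff _).mpr (QuotientGroup.ker_mk' _).ge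
    refine hA1 (eq_bot_iff.mpr fun a ha => ?_)
    have h1 : (⟨a, hAH ha⟩ : ↥H) ∈ (R : Subgroup ↥H) ⊓ U := by
      refine ⟨hR ha, ?_⟩
      show QuotientGroup.mk' _ (⟨a, hAH ha⟩ : ↥H) ∈ Cfsg.pCore q _
      refine hc ?_
      rw [hbot, mem_centralizer_iff]
      intro z hz
      rw [mem_bot.mp hz, one_mul, mul_one]
    rw [← hP₀, e'] at h1
    exact mem_bot.mpr (congrArg Subtype.val (mem_bot.mp h1))
  · refine le_trans ?_ (le_normalizer_map H.subtype)
    rintro a ha
    refine ⟨⟨a, hAH ha⟩, ?_, rfl⟩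
    exact inf_normalizer_le_normalizer_inf
      ⟨le_normalizer (hR ha), (normalizer_eq_top U).ge (mem_top _)⟩
  · intro y hy
    have h1 : (⟨y, hy⟩ : ↥H) ∈ normalizer (P₀ : Set ↥H) ⊔ Cfsg.pPrimeCore q ↥H := by
      rw [hfr]; exact mem_top _
    have h2 := mem_map_of_mem H.subtype h1
    rw [Subgroup.map_sup, sup_comm] at h2
    exact sup_le_sup_left (le_normalizer_map _) _ h2

end MinTwoGen

/-! ### `Z(J)` -/

/-- The normaliser of `Z(J(S))`. -/
abbrev zjMax {G : Type*} [Group G] (S : Subgroup G) : Subgroup G :=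
  normalizer (Cfsg.centerThompsonAOf S : Set G)

theorem zjMax_conj (S : Subgroup G) (g : G) :
    zjMax (S.map (MulAut.conj g).toMonoidHom) = (zjMax S).map (MulAut.conj g).toMonoidHom := by
  rw [zjMax, ← PLocal.map_centerThompsonAOf (f := (MulAut.conj g).toMonoidHom)
    (MulAut.conj g).injective]
  exact (map_equiv_normalizer_eq _ (MulAut.conj g)).symm

theorem le_zjMax_self (S : Subgroup G) : normalizer (S : Set G) ≤ zjMax S :=
  PLocal.normalizer_le_normalizer_centerThompsonAOf S

theorem exists_gt_inf_normalizer {S T : Subgroup G} (hS : IsPGroup q S) (hlt : T < S) :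
    Nat.card T < Nat.card ↥(S ⊓ normalizer (T : Set G)) := by
  haveI := hS.isNilpotent
  have h1 : T.subgroupOf S < ⊤ := lt_top_iff_ne_top.mpr fun e =>
    hlt.not_ge (subgroupOf_eq_top.mp e)
  obtain ⟨s, hs, hs'⟩ := SetLike.exists_of_lt
    (Group.normalizerCondition_of_isNilpotent (T.subgroupOf S) h1)
  refine Set.ncard_lt_ncard (SetLike.coe_ssubset_coe.mpr (lt_of_le_of_ne
    (le_inf hlt.le le_normalizer) fun e => hs' ?_)) (Set.toFinite _)
  have : (s : G) ∈ S ⊓ normalizer (T : Set G) := ⟨s.2, mem_normalizer_iff.mpr fun t =>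
    ⟨fun ht => (mem_normalizer_iff.mp hs ⟨t, hlt.le ht⟩).mp ht, fun ht => by
      have htS : t ∈ S := by
        have := mul_mem (mul_mem (inv_mem s.2) (hlt.le ht)) s.2
        simpa [mul_assoc] using this
      exact (mem_normalizer_iff.mp hs ⟨t, htS⟩).mpr ht⟩⟩
  rw [← e] at this
  exact this

namespace MinTwoGen

variable (h : MinTwoGen G)
include h

theorem zjMax_ne_top {R : Subgroup G} (hR : IsPGroup q R) (hR1 : R ≠ ⊥) : zjMax R ≠ ⊤ :=
  h.normalizer_ne_top (PLocal.centerThompsonAOf_ne_bot hR hR1)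
    (h.ne_top_of_isPGroup (hR.to_le (PLocal.centerThompsonAOf_le R)))

/-- `Z(J)` is normal in a local subgroup of rank three. -/
theorem normalizer_le_zjMax (hq5 : 5 ≤ q) (ht : IsTriv q G) {Y A : Subgroup G} (hY : IsPGroup q Y)
    (hY1 : Y ≠ ⊥) (hA : IsElem3 q A) (hAY : A ≤ normalizer (Y : Set G))
    (R : Sylow q ↥(normalizer (Y : Set G))) :
    normalizer (Y : Set G) ≤
      zjMax ((R : Subgroup ↥(normalizer (Y : Set G))).map (normalizer (Y : Set G)).subtype) := by
  let N := normalizer (Y : Set G)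
  haveI := h.sub N (h.normalizer_ne_top hY1 (h.ne_top_of_isPGroup hY))
  have hbot : Cfsg.pPrimeCore q ↥N = ⊥ :=
    (Subgroup.map_eq_bot_iff_of_injective _ N.subtype_injective).mp
      (h.core'_normalizer_eq_bot ht hY hY1 hA hAY)
  have hn := OddOrder.ZJ.centerThompsonAOf_normal (by omega : q ≠ 2)
    (quadraticStable_of_isSolvable (p := q) (by omega : 3 < q))
    (PLocal.centralizer_pCore_le PLocal.isPSolvable_of_isSolvable hbot) R
  rw [zjMax, ← PLocal.map_centerThompsonAOf N.subtype_injective]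
  intro y hy
  exact le_normalizer_map N.subtype ⟨⟨y, hy⟩, (normalizer_eq_top_iff.mpr hn).ge (mem_top _), rfl⟩

/-- Sylow subgroups meeting in rank three have the same `zjMax`; locals lie in it. -/
theorem zjMax_aux (hq5 : 5 ≤ q) (ht : IsTriv q G) : ∀ k : ℕ,
    (∀ S S' : Sylow q G, HasRank3 q ((S : Subgroup G) ⊓ S' : Subgroup G) →
      Nat.card G - Nat.card ↥((S : Subgroup G) ⊓ S') ≤ k → zjMax (S : Subgroup G) = zjMax S') ∧
    (∀ Y : Subgroup G, IsPGroup q Y → Y ≠ ⊥ → ∀ R : Sylow q ↥(normalizer (Y : Set G)),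
      ∀ R' : Subgroup G, R' = (R : Subgroup ↥(normalizer (Y : Set G))).map
        (normalizer (Y : Set G)).subtype →
      HasRank3 q R' → ∀ S : Sylow q G, R' ≤ S → Nat.card G - Nat.card R' ≤ k →
        normalizer (Y : Set G) ≤ zjMax (S : Subgroup G)) := by
  intro k
  induction k using Nat.strong_induction_on with
  | _ k ih =>
  have hcard : ∀ H : Subgroup G, Nat.card H ≤ Nat.card G := fun H => Subgroup.card_le_card_group H
  refine ⟨fun S S' hrk hk => ?_, fun Y hY hY1 R R' hR' hrk S hRS hk => ?_⟩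
  · set T : Subgroup G := (S : Subgroup G) ⊓ S' with hTd
    rcases eq_or_ne S S' with rfl | hne
    · rfl
    obtain ⟨A, hAT, hA⟩ := hrk
    have hTp : IsPGroup q T := S.2.to_le inf_le_left
    have hT1 : T ≠ ⊥ := fun e => by
      have := hA.2.trans (Nat.card_le_card_of_injective _ (inclusion_injective (e ▸ hAT : A ≤ ⊥)))
      rw [card_bot] at this
      exact absurd this (not_le.mpr (Nat.one_lt_pow (by norm_num) hq.out.one_lt))
    set F := normalizer (T : Set G)
    have hTF : T ≤ F := le_normalizer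
    -- one side
    have side : ∀ U : Sylow q G, T < U → ∃ (R : Sylow q ↥F) (U₁ : Sylow q G),
        (R : Subgroup ↥F).map F.subtype ≤ U₁ ∧ Nat.card T < Nat.card ↥((R : Subgroup ↥F).map F.subtype) ∧
        T ≤ (R : Subgroup ↥F).map F.subtype ∧
        F ≤ zjMax (U₁ : Subgroup G) ∧ zjMax (U : Subgroup G) = zjMax U₁ := by
      intro U hlt
      have hgt := exists_gt_inf_normalizer U.2 hlt
      set D := (U : Subgroup G) ⊓ normalizer (T : Set G)
      obtain ⟨R, hR⟩ := ((U.2.to_le (inf_le_left : D ≤ U)).comap_subtype (K := F)).exists_le_sylow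
      have hDR : D ≤ (R : Subgroup ↥F).map F.subtype := fun d hd => ⟨⟨d, hd.2⟩, hR hd, rfl⟩
      obtain ⟨U₁, hU₁⟩ := (R.2.map F.subtype).exists_le_sylow
      have hTR : T ≤ (R : Subgroup ↥F).map F.subtype := (le_inf hlt.le le_normalizer).trans hDR
      have hlt2 : Nat.card T < Nat.card ↥((R : Subgroup ↥F).map F.subtype) :=
        hgt.trans_le (Nat.card_le_card_of_injective _ (inclusion_injective hDR))
      refine ⟨R, U₁, hU₁, hlt2, hTR, ?_, ?_⟩
      · exact (ih (Nat.card G - Nat.card ↥((R : Subgroup ↥F).map F.subtype))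
          (by have := hcard ((R : Subgroup ↥F).map F.subtype); omega)).2 T hTp hT1 R _ rfl
          ⟨A, hAT.trans hTR, hA⟩ U₁ hU₁ le_rfl
      · have hsub : D ≤ (U : Subgroup G) ⊓ U₁ := le_inf inf_le_left (hDR.trans hU₁)
        have h2 : Nat.card T < Nat.card ↥((U : Subgroup G) ⊓ U₁) :=
          hgt.trans_le (Nat.card_le_card_of_injective _ (inclusion_injective hsub))
        exact (ih (Nat.card G - Nat.card ↥((U : Subgroup G) ⊓ U₁))
          (by have := hcard ((U : Subgroup G) ⊓ U₁); omega)).1 U U₁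
          ⟨A, hAT.trans ((le_inf hlt.le le_normalizer).trans hsub), hA⟩ le_rfl
    have hltS : ∀ U U' : Sylow q G, U ≠ U' → (U : Subgroup G) ⊓ U' < U := fun U U' hne' =>
      lt_of_le_of_ne inf_le_left fun e => hne' (Sylow.ext
        (eq_of_le_of_card_ge (e.ge.trans inf_le_right) (U'.card_eq_multiplicity.trans
          U.card_eq_multiplicity.symm).le))
    obtain ⟨R₁, U₁, hU₁, hgt₁, hT₁, hF₁, he₁⟩ := side S (hltS S S' hne)
    obtain ⟨R₂, U₂, hU₂, -, -, hF₂, he₂⟩ := side S' (by
      rw [hTd, inf_comm]; exact hltS S' S (Ne.symm hne))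
    rw [he₁, he₂]
    obtain ⟨f, hf⟩ := MulAction.exists_smul_eq ↥F R₂ R₁
    set U₃ := (f : G) • U₂ with hU₃
    have hR₁U₃ : (R₁ : Subgroup ↥F).map F.subtype ≤ U₃ := by
      rw [← hf, Sylow.coe_subgroup_smul, Sylow.coe_subgroup_smul]
      rintro _ ⟨_, ⟨r, hr, rfl⟩, rfl⟩
      exact ⟨(r : G), hU₂ ⟨r, hr, rfl⟩, rfl⟩
    have h3 : zjMax (U₃ : Subgroup G) = zjMax (U₂ : Subgroup G) := by
      rw [hU₃, Sylow.coe_subgroup_smul]
      exact (zjMax_conj (U₂ : Subgroup G) (f : G)).trans
        (mem_normalizer_iff_map_conj_eq.mp (le_normalizer (hF₂ f.2)))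
    rw [← h3]
    have h4 : Nat.card T < Nat.card ↥((U₁ : Subgroup G) ⊓ U₃) :=
      hgt₁.trans_le (Nat.card_le_card_of_injective _ (inclusion_injective (le_inf hU₁ hR₁U₃)))
    exact (ih (Nat.card G - Nat.card ↥((U₁ : Subgroup G) ⊓ U₃))
      (by have := hcard ((U₁ : Subgroup G) ⊓ U₃); omega)).1 U₁ U₃
      ⟨A, hAT.trans (hT₁.trans (le_inf hU₁ hR₁U₃)), hA⟩ le_rfl
  · obtain ⟨A, hAR, hA⟩ := hrk
    have hR'p : IsPGroup q R' := S.2.to_le hRS
    have hAY : A ≤ normalizer (Y : Set G) := hAR.trans (hR' ▸ map_subtype_le _)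
    have hle : normalizer (Y : Set G) ≤ zjMax R' := hR' ▸ h.normalizer_le_zjMax hq5 ht hY hY1 hA hAY R
    rcases eq_or_ne R' (S : Subgroup G) with he | hne
    · rwa [← he]
    have hlt : R' < (S : Subgroup G) := lt_of_le_of_ne hRS hne
    have hgt := exists_gt_inf_normalizer S.2 hlt
    set D := (S : Subgroup G) ⊓ normalizer (R' : Set G)
    have hR1 : R' ≠ ⊥ := fun e => by
      have := hA.2.trans (Nat.card_le_card_of_injective _ (inclusion_injective (e ▸ hAR : A ≤ ⊥)))
      rw [card_bot] at this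
      exact absurd this (not_le.mpr (Nat.one_lt_pow (by norm_num) hq.out.one_lt))
    set Z := Cfsg.centerThompsonAOf R'
    have hDZ : D ≤ normalizer (Z : Set G) := inf_le_right.trans (le_zjMax_self R')
    obtain ⟨R₂, hR₂⟩ := ((S.2.to_le (inf_le_left : D ≤ S)).comap_subtype
      (K := normalizer (Z : Set G))).exists_le_sylow
    have hDR : D ≤ (R₂ : Subgroup ↥(normalizer (Z : Set G))).map
        (normalizer (Z : Set G)).subtype := fun d hd => ⟨⟨d, hDZ hd⟩, hR₂ hd, rfl⟩
    obtain ⟨S₂, hS₂⟩ := (R₂.2.map (normalizer (Z : Set G)).subtype).exists_le_sylow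
    have hAD : A ≤ D := le_inf (hAR.trans hRS) (hAR.trans le_normalizer)
    have h2 : Nat.card R' < Nat.card ↥((R₂ : Subgroup ↥(normalizer (Z : Set G))).map
        (normalizer (Z : Set G)).subtype) :=
      hgt.trans_le (Nat.card_le_card_of_injective _ (inclusion_injective hDR))
    have h3 : Nat.card R' < Nat.card ↥((S : Subgroup G) ⊓ S₂) := hgt.trans_le
      (Nat.card_le_card_of_injective _ (inclusion_injective (le_inf inf_le_left (hDR.trans hS₂))))
    have e1 := (ih (Nat.card G - Nat.card ↥((S : Subgroup G) ⊓ S₂))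
      (by have := hcard ((S : Subgroup G) ⊓ S₂); omega)).1 S S₂
      ⟨A, hAD.trans (le_inf inf_le_left (hDR.trans hS₂)), hA⟩ le_rfl
    rw [e1]
    exact hle.trans ((ih (Nat.card G - Nat.card ↥((R₂ : Subgroup ↥(normalizer (Z : Set G))).map
        (normalizer (Z : Set G)).subtype))
      (by have := hcard ((R₂ : Subgroup ↥(normalizer (Z : Set G))).map (normalizer (Z : Set G)).subtype)
          omega)).2 Z (hR'p.to_le (PLocal.centerThompsonAOf_le R'))
      (PLocal.centerThompsonAOf_ne_bot hR'p hR1) R₂ _ rfl ⟨A, hAD.trans hDR, hA⟩ S₂ hS₂ le_rfl)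

/-- For a trivial prime at least five, proper subgroups of rank three lie in `zjMax`. -/
theorem le_zjMax (hq5 : 5 ≤ q) (ht : IsTriv q G) {H A : Subgroup G} (hH : H ≠ ⊤)
    (hA : IsElem3 q A) (hAH : A ≤ H) (S : Sylow q G) (hAS : A ≤ S) :
    H ≤ zjMax (S : Subgroup G) := by
  have hloc : ∀ Y : Subgroup G, IsPGroup q Y → Y ≠ ⊥ → A ≤ normalizer (Y : Set G) →
      normalizer (Y : Set G) ≤ zjMax (S : Subgroup G) := by
    intro Y hY hY1 hAY
    obtain ⟨R, hR⟩ := (hA.isPGroup.comap_subtype (K := normalizer (Y : Set G))).exists_le_sylow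
    set R' := (R : Subgroup ↥(normalizer (Y : Set G))).map (normalizer (Y : Set G)).subtype
    have hAR : A ≤ R' := fun a ha => ⟨⟨a, hAY ha⟩, hR ha, rfl⟩
    obtain ⟨S₁, hS₁⟩ := (R.2.map (normalizer (Y : Set G)).subtype).exists_le_sylow
    rw [(h.zjMax_aux hq5 ht _).1 S S₁ ⟨A, le_inf hAS (hAR.trans hS₁), hA⟩ le_rfl]
    exact (h.zjMax_aux hq5 ht _).2 Y hY hY1 R R' rfl ⟨A, hAR, hA⟩ S₁ hS₁ le_rfl
  have hA1 : A ≠ ⊥ := card_ne_zero_pow_two
    ((Nat.pow_le_pow_right hq.out.pos (by norm_num)).trans hA.2)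
  obtain ⟨Y, hY1, hY, hAY, hle⟩ := h.exists_local_sup hH hA.isPGroup hA1 hAH
  refine hle.trans (sup_le ?_ (hloc Y hY hY1 hAY))
  haveI := hA.1.1
  refine Coprime.le_of_forall_inf_centralizer_le (not_isCyclic_of_elab hA.1
    ((Nat.pow_le_pow_right hq.out.pos (by norm_num)).trans hA.2))
    ((hAH.trans le_normalizer).trans (normalizer_le_normalizer_core' q H))
    (coprime_card_of_elab hA.1 (hq.out.coprime_iff_not_dvd.mp (card_core'_coprime q H).symm))
    fun a ha ha1 => ?_
  have hca : centralizer ({a} : Set G) ≤ normalizer ((zpowers a : Subgroup G) : Set G) := by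
    rw [centralizer_singleton_eq]; exact centralizer_le_normalizer _
  refine (inf_le_right.trans hca).trans (hloc _ (hA.isPGroup.to_le (zpowers_le.mpr ha))
    (by rwa [Ne, zpowers_eq_bot]) ?_)
  exact le_trans (hA.comm.trans (centralizer_le (Set.singleton_subset_iff.mpr ha))) hca

end MinTwoGen

end CfsgLib.TwoGenSolv66
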