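import Cfsg.Agent.TwoGenSolv66.Strong

/-!
# Moved groups and their maximal subgroups

* `IsObj p x r A` : an `x`-invariant `r`-group `A = [A,x] ≠ 1`.
* `Ctx.eq_of_strong` : objects at a strong prime lie in a unique maximal subgroup through `x`.
-/

set_option autoImplicit false
set_option linter.unusedSectionVars false
set_option linter.unusedVariables false
set_option linter.style.haveILetI false

open scoped commutatorElement

namespace CfsgLib.TwoGenSolv66

open Subgroup CfsgLib.SolvSig CfsgLib.Transitivity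

universe u

/-- An `x`-invariant `r`-group, `r ≠ p`, equal to its commutator with `x`. -/
structure IsObj {G : Type*} [Group G] (p : ℕ) (x : G) (r : ℕ) (A : Subgroup G) : Prop where
  prime : r.Prime
  ne : r ≠ p
  ne_bot : A ≠ ⊥
  isPGroup : IsPGroup r A
  inv : x ∈ normalizer (A : Set G)
  eq : ⁅A, zpowers x⁆ = A

/-- Maximal subgroups through `x` containing an object are determined by it. -/
def UniqueObj {G : Type*} [Group G] (p : ℕ) (x : G) : Prop :=
  ∀ r A, IsObj p x r A → ∀ M M' : Subgroup G, IsCoatom M → x ∈ M → A ≤ M → IsCoatom M' → x ∈ M' →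
    A ≤ M' → M = M'

variable {G : Type u} [Group G] [Finite G] {p : ℕ} [hp : Fact p.Prime] {x : G}

namespace Ctx

variable (h : Ctx G p x)
include h

theorem not_dvd_of_isPGroup {r : ℕ} (hr : r.Prime) (hne : r ≠ p) {R : Subgroup G}
    (hR : IsPGroup r R) : ¬ p ∣ Nat.card R := by
  haveI := Fact.mk hr
  obtain ⟨n, hn⟩ := IsPGroup.iff_card.mp hR
  rw [hn]
  exact fun hd => hne ((Nat.prime_dvd_prime_iff_eq hp.out hr).mp (hp.out.dvd_of_dvd_pow hd)).symm

theorem obj_of_moved {r : ℕ} (hr : r.Prime) (hne : r ≠ p) {R : Subgroup G} (hR : IsPGroup r R)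
    (hn : x ∈ normalizer (R : Set G)) (hmv : x ∉ centralizer (R : Set G)) :
    IsObj p x r ⁅R, zpowers x⁆ ∧ ⁅R, zpowers x⁆ ≤ R := by
  have hle : ⁅R, zpowers x⁆ ≤ R := Coprime.commutator_le_of_le_normalizer (zpowers_le.mpr hn)
  refine ⟨⟨hr, hne, fun e => hmv ?_, hR.to_le hle, ?_, ?_⟩, hle⟩
  · rw [commutator_comm, commutator_eq_bot_iff_le_centralizer] at e
    exact e (mem_zpowers x)
  · exact normalizer_commutator_ge_right R (zpowers x) (mem_zpowers x)
  · exact Coprime.commutator_commutator_eq (zpowers_le.mpr hn)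
      (h.coprime (h.not_dvd_of_isPGroup hr hne hR))

omit h in
theorem obj_moved {r : ℕ} {A : Subgroup G} (hA : IsObj p x r A) : x ∉ centralizer (A : Set G) :=
  fun hc => hA.ne_bot <| by
    rw [← hA.eq, commutator_comm, commutator_eq_bot_iff_le_centralizer, zpowers_le]
    exact hc

theorem obj_lt {r : ℕ} {A : Subgroup G} (hA : IsObj p x r A) : r < p := by
  haveI := Fact.mk hA.prime
  refine lt_of_le_of_ne (h.max r hA.prime ?_) hA.ne
  obtain ⟨n, hn⟩ := IsPGroup.iff_card.mp hA.isPGroup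
  have h1 := card_subgroup_dvd_card A
  rw [hn] at h1
  refine (dvd_pow_self r ?_).trans h1
  rintro rfl
  exact hA.ne_bot (card_eq_one.mp (by rw [hn, pow_zero]))

theorem obj_le_core' {r : ℕ} {A H : Subgroup G} (hA : IsObj p x r A) (hH : H ≠ ⊤) (hx : x ∈ H)
    (hAH : A ≤ H) : A ≤ core' p H :=
  hA.eq.ge.trans (h.commutator_le_core' hH hx hAH hA.inv
    (h.not_dvd_of_isPGroup hA.prime hA.ne hA.isPGroup))

theorem obj_rank {r : ℕ} {A : Subgroup G} (hA : IsObj p x r A) (h25 : ¬ (r = 2 ∧ p = 5)) :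
    HasRank3 r A := by
  haveI := Fact.mk hA.prime
  exact (hasRank3_of_moved h.five (h.obj_lt hA) h.pow_eq hA.isPGroup hA.inv
    (obj_moved hA)).resolve_right h25

/-- A proper subgroup through `x` with a noncommuting conjugate contains an object. -/
theorem exists_obj {H : Subgroup G} (hH : H ≠ ⊤) (hx : x ∈ H) {y : G} (hy : IsConj x y)
    (hyH : y ∈ H) (hxy : ¬ Commute y x) : ∃ r A, IsObj p x r A ∧ A ≤ H := by
  by_contra hno
  refine hxy (h.commute_of_unmoved hH hx (fun t ht hne => ?_) hy hyH)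
  intro c hc
  rw [mem_centralizer_singleton_iff]
  by_contra hcx
  have hn : x ∈ normalizer (core t H : Set G) := le_normalizer_core t H hx
  obtain ⟨hobj, hle⟩ := h.obj_of_moved ht hne (core_isPGroup t H) hn fun hcen =>
    hcx (mem_centralizer_iff.mp hcen c hc)
  exact hno ⟨t, _, hobj, hle.trans (core_le t H)⟩

theorem coatom_normalizer_eq {M : Subgroup G} (hM : IsCoatom M) (hx : x ∈ M) :
    normalizer (M : Set G) = M := by
  rcases hM.le_iff.mp (le_normalizer (H := M)) with e | e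
  · exact absurd e (h.hyp.normalizer_ne_top (fun e' => h.ne_one (mem_bot.mp (e' ▸ hx))) hM.1)
  · exact e

/-- `x` moves the top of `O_{r',r}`, so it has rank three. -/
theorem obj_top_rank {r : ℕ} {A H : Subgroup G} (hA : IsObj p x r A) (h25 : ¬ (r = 2 ∧ p = 5))
    (hH : H ≠ ⊤) (hx : x ∈ H) (hAH : A ≤ H) (P : Sylow r (Cfsg.pPrimePCore r ↥H)) :
    HasRank3 r (((P : Subgroup (Cfsg.pPrimePCore r ↥H)).map
      (Cfsg.pPrimePCore r ↥H).subtype).map H.subtype) := by
  haveI := Fact.mk hA.prime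
  haveI := h.hyp.sub H hH
  let K := Cfsg.pPrimeCore r ↥H
  let π := QuotientGroup.mk' K
  let Ū := Cfsg.pCore r (↥H ⧸ K)
  let y := π ⟨x, hx⟩
  have hy : y ^ p = 1 := by
    rw [← map_pow, show (⟨x, hx⟩ : ↥H) ^ p = 1 from Subtype.ext h.pow_eq, map_one]
  have hn : y ∈ normalizer (Ū : Set (↥H ⧸ K)) := (normalizer_eq_top Ū).ge (mem_top _)
  have hmv : y ∉ centralizer (Ū : Set (↥H ⧸ K)) := by
    intro hc
    have hyU : y ∈ Ū := PLocal.centralizer_pCore_le
      (PLocal.isPSolvable_quotient PLocal.isPSolvable_of_isSolvable _)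
      (PLocal.pPrimeCore_quotient_pPrimeCore_eq_bot r ↥H) hc
    obtain ⟨k, hk⟩ := PLocal.isPGroup_pCore r (↥H ⧸ K) ⟨y, hyU⟩
    have hy1 : y = 1 := orderOf_eq_one_iff.mp (Nat.eq_one_of_dvd_coprimes
      (((Nat.coprime_primes hA.prime hp.out).mpr hA.ne).pow_left k)
      (orderOf_dvd_of_pow_eq_one (congrArg Subtype.val hk)) (orderOf_dvd_of_pow_eq_one hy))
    have hxK : zpowers x ≤ core' r H := zpowers_le.mpr ⟨_, (QuotientGroup.eq_one_iff _).mp hy1, rfl⟩
    refine hA.ne_bot (le_bot_iff.mp ?_)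
    refine le_trans (le_inf le_rfl (hA.eq.ge.trans ?_))
      (PLocal.disjoint_of_isPGroup_of_coprime hA.isPGroup (card_core'_coprime r H)).le
    rw [commutator_comm]
    exact (commutator_mono hxK le_rfl).trans
      ((commutator_comm (core' r H) A).trans_le (by
        rw [commutator_comm]
        exact Coprime.commutator_le_of_le_normalizer
          ((hAH.trans le_normalizer).trans (normalizer_le_normalizer_core' r H))))
  obtain ⟨E, hEU, hE, hE3⟩ := (hasRank3_of_moved (r := r) h.five (h.obj_lt hA) hy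
    (PLocal.isPGroup_pCore r _) hn hmv).resolve_right h25
  let U := Cfsg.pPrimePCore r ↥H
  set P' := (P : Subgroup U).map U.subtype
  have hinj : Function.Injective (π.comp P'.subtype) :=
    PLocal.injective_comp_subtype_of_coprime (P.2.map U.subtype)
      (by rw [QuotientGroup.ker_mk']; exact PLocal.coprime_card_pPrimeCore r ↥H)
  have hmap : P'.map π = Ū := by
    show P'.map π = Cfsg.pCore r _
    rw [← PLocal.map_pPrimePCore r ↥H, ← PLocal.sylow_pPrimePCore_sup P, Subgroup.map_sup,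
      (Subgroup.map_eq_bot_iff (H := Cfsg.pPrimeCore r ↥H)).mpr (QuotientGroup.ker_mk' _).ge,
      sup_bot_eq]
  set E₀ := (E.comap π) ⊓ P'
  have hE₀ : E₀.map π = E := by
    refine le_antisymm ((map_mono inf_le_left).trans (map_comap_le _ _)) fun e he => ?_
    obtain ⟨w, hw, hwe⟩ := hmap.ge (hEU he)
    exact ⟨w, ⟨by show π w ∈ E; rw [hwe]; exact he, hw⟩, hwe⟩
  have hinj₀ : ∀ a ∈ E₀, ∀ b ∈ E₀, π a = π b → a = b := fun a ha b hb e =>
    congrArg Subtype.val (@hinj ⟨a, ha.2⟩ ⟨b, hb.2⟩ e)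
  have hE₀el : Cfsg.IsElementaryAbelian r E₀ := by
    refine ⟨⟨⟨fun a b => Subtype.ext ?_⟩⟩, fun a ha => ?_⟩
    · refine hinj₀ _ (mul_mem a.2 b.2) _ (mul_mem b.2 a.2) ?_
      show π ((a : ↥H) * b) = π ((b : ↥H) * a)
      rw [map_mul π (a : ↥H) b, map_mul π (b : ↥H) a]
      haveI := hE.1
      exact setLike_mul_comm (s := E) (hE₀.le ⟨a, a.2, rfl⟩) (hE₀.le ⟨b, b.2, rfl⟩)
    · refine hinj₀ _ (pow_mem ha r) _ (one_mem _) ?_
      rw [map_pow, map_one]
      exact hE.2 _ (hE₀.le ⟨a, ha, rfl⟩)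
  refine ⟨E₀.map H.subtype, map_mono inf_le_right, OddOrder.isElementaryAbelian_map _ hE₀el, ?_⟩
  rw [card_map_of_injective H.subtype_injective]
  refine hE3.trans ?_
  rw [← hE₀]
  exact Nat.card_le_card_of_surjective (fun a : E₀ => (⟨π a, mem_map_of_mem π a.2⟩ : E₀.map π))
    (by rintro ⟨_, a, ha, rfl⟩; exact ⟨⟨a, ha⟩, rfl⟩)

/-- Objects at a prime with nontrivial cores, or trivial and at least five, are uniquely covered. -/
theorem eq_of_strong {r : ℕ} {A : Subgroup G} (hA : IsObj p x r A) (h25 : ¬ (r = 2 ∧ p = 5))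
    (hs : 5 ≤ r ∨ ¬ IsTriv r G) {M M' : Subgroup G} (hM : IsCoatom M) (hxM : x ∈ M) (hAM : A ≤ M)
    (hM' : IsCoatom M') (hxM' : x ∈ M') (hAM' : A ≤ M') : M = M' := by
  haveI := Fact.mk hA.prime
  obtain ⟨E, hEA, hE⟩ := h.obj_rank hA h25
  suffices hL : ∃ L : Subgroup G, L ≠ ⊤ ∧
      ∀ H : Subgroup G, H ≠ ⊤ → x ∈ H → A ≤ H → H ≤ L by
    obtain ⟨L, hL, hall⟩ := hL
    exact ((hM.le_iff.mp (hall M hM.1 hxM hAM)).resolve_left hL).symm.trans
      ((hM'.le_iff.mp (hall M' hM'.1 hxM' hAM')).resolve_left hL)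
  by_cases ht : IsTriv r G
  · obtain ⟨S, hS⟩ := hA.isPGroup.exists_le_sylow
    refine ⟨zjMax (S : Subgroup G), h.hyp.zjMax_ne_top S.2 (fun e => hA.ne_bot
      (eq_bot_iff.mpr (hS.trans e.le))), fun H hH _ hAH => ?_⟩
    exact h.hyp.le_zjMax (hs.resolve_right fun e => e ht) ht hH hE (hEA.trans hAH) S (hEA.trans hS)
  · refine ⟨normalizer (W r E : Set G), h.hyp.normalizer_W_ne_top hE (h.hyp.W_ne_bot hE ht),
      fun H hH hx hAH => ?_⟩
    obtain ⟨P⟩ : Nonempty (Sylow r (Cfsg.pPrimePCore r ↥H)) := inferInstance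
    exact h.hyp.le_normalizer_W hE hH (hEA.trans hAH) P (h.obj_top_rank hA h25 hH hx hAH P)

end Ctx

end CfsgLib.TwoGenSolv66
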