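import Cfsg.Agent.TwoGenSolv66.Four
import Cfsg.Agent.TwoGenSolv66.Objects

/-!
# A subgroup with an invariant 2-group of rank three has a top of rank three

For `p = 5`, a proper subgroup through `x` with a moved 2-group and an invariant 2-group of rank
three normalises the signalizer closure of each of its elementary groups of order eight.
-/

set_option autoImplicit false
set_option linter.unusedSectionVars false
set_option linter.unusedVariables false
set_option linter.style.haveILetI false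

open scoped commutatorElement

namespace CfsgLib.TwoGenSolv66

open Subgroup CfsgLib.SolvSig CfsgLib.Transitivity

universe u

variable {G : Type u} [Group G] [Finite G]

/-- Elements of `U` that a group `T` normalising `U` fixes modulo `D`. -/
def fixMod (T U D : Subgroup G) (hTD : T ≤ normalizer (D : Set G)) (hUD : U ≤ normalizer (D : Set G)) :
    Subgroup G where
  carrier := {u | u ∈ U ∧ ∀ t ∈ T, ⁅t, u⁆ ∈ D}
  one_mem' := ⟨one_mem _, fun t _ => by simp⟩
  mul_mem' := fun {a b} ha hb => ⟨mul_mem ha.1 hb.1, fun t ht => by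
    rw [commutatorElement_mul_right_eq_mul_conj, mul_assoc, mul_assoc]
    refine mul_mem (ha.2 t ht) ?_
    rw [← mul_assoc]
    exact (mem_normalizer_iff.mp (hUD ha.1) _).mp (hb.2 t ht)⟩
  inv_mem' := fun {a} ha => ⟨inv_mem ha.1, fun t ht => by
    rw [show ⁅t, a⁻¹⁆ = a⁻¹ * (⁅t, a⁆)⁻¹ * a by simp only [commutatorElement_def]; group]
    have := (mem_normalizer_iff.mp (hUD (inv_mem ha.1)) _).mp (inv_mem (ha.2 t ht))
    rwa [inv_inv] at this⟩

theorem fixMod_le {T U D : Subgroup G} (hTD : T ≤ normalizer (D : Set G))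
    (hUD : U ≤ normalizer (D : Set G)) : fixMod T U D hTD hUD ≤ U := fun _ hu => hu.1

theorem mem_normalizer_fixMod {T U D : Subgroup G} (hTD : T ≤ normalizer (D : Set G))
    (hUD : U ≤ normalizer (D : Set G)) {g : G} (hgT : g ∈ normalizer (T : Set G))
    (hgU : g ∈ normalizer (U : Set G)) (hgD : g ∈ normalizer (D : Set G)) :
    g ∈ normalizer (fixMod T U D hTD hUD : Set G) :=
  LocalStructure.mem_normalizer_of_forall fun u hu => by
    refine ⟨(mem_normalizer_iff.mp hgU u).mp hu.1, fun t ht => ?_⟩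
    have h1 := (mem_normalizer_iff.mp hgD _).mp
      (hu.2 (g⁻¹ * t * g) (by simpa using (mem_normalizer_iff.mp (inv_mem hgT) t).mp ht))
    rwa [show g * ⁅g⁻¹ * t * g, u⁆ * g⁻¹ = ⁅t, g * u * g⁻¹⁆ by
      simp only [commutatorElement_def]; group] at h1

/-- A `p`-group fixes points of a section it normalises. -/
theorem exists_fixMod {q : ℕ} [Fact q.Prime] {T U D : Subgroup G} (hT : IsPGroup q T)
    (hU : IsPGroup q U) (hTU : T ≤ normalizer (U : Set G)) (hDU : D ≤ U)
    (hTD : T ≤ normalizer (D : Set G)) (hUD : U ≤ normalizer (D : Set G)) (hne : ¬ U ≤ D) :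
    ∃ u ∈ fixMod T U D hTD hUD, u ∉ D := by
  set S := U ⊔ T
  have hS : IsPGroup q S := hU.to_sup_of_normal_left' hT hTU
  haveI : (D.subgroupOf S).Normal :=
    (normal_subgroupOf_iff_le_normalizer (hDU.trans le_sup_left)).mpr (sup_le hUD hTD)
  haveI : (U.subgroupOf S).Normal :=
    (normal_subgroupOf_iff_le_normalizer le_sup_left).mpr (sup_le le_normalizer hTU)
  let π := QuotientGroup.mk' (D.subgroupOf S)
  have hne' : (U.subgroupOf S).map π ≠ ⊥ := fun e0 => by
    rw [Subgroup.map_eq_bot_iff, QuotientGroup.ker_mk'] at e0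
    exact hne fun d hd => e0 (x := ⟨d, mem_sup_left hd⟩) hd
  haveI : ((U.subgroupOf S).map π).Normal :=
    (inferInstance : (U.subgroupOf S).Normal).map π (QuotientGroup.mk'_surjective _)
  obtain ⟨z, hz, hzc, hzo⟩ := OddOrder.BG4.exists_central_orderOf_prime
    (hS.of_surjective π (QuotientGroup.mk'_surjective _)) hne'
  obtain ⟨d, hd, rfl⟩ := hz
  refine ⟨d, ⟨hd, fun t ht => ?_⟩, fun hdD => ?_⟩
  · have h1 : π ⁅(⟨t, mem_sup_right ht⟩ : S), d⁆ = 1 := by
      rw [map_commutatorElement]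
      exact commutatorElement_eq_one_iff_mul_comm.mpr (mem_center_iff.mp hzc _)
    exact (QuotientGroup.eq_one_iff (N := D.subgroupOf S) _).mp h1
  · have : π d = 1 := (QuotientGroup.eq_one_iff d).mpr hdD
    rw [this, orderOf_one] at hzo
    exact (Fact.out : q.Prime).ne_one hzo.symm

variable {y : G}

/-- Invariant 2-groups act trivially on the Frattini quotient of a low group. -/
theorem LowSpec.trivial_of_two_group {U T : Subgroup G} (hS : LowSpec y U) (hU : IsPGroup 2 U)
    (hT : IsPGroup 2 T) (hTU : T ≤ normalizer (U : Set G)) (hyU : y ∈ normalizer (U : Set G))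
    (hyT : y ∈ normalizer (T : Set G)) : ∀ t ∈ T, ∀ u ∈ U, ⁅t, u⁆ ∈ phiSub U := by
  haveI : Fact (Nat.Prime 2) := ⟨Nat.prime_two⟩
  have hTD : T ≤ normalizer (phiSub U : Set G) := hTU.trans (normalizer_le_normalizer_phiSub U)
  have hUD : U ≤ normalizer (phiSub U : Set G) := le_normalizer.trans (normalizer_le_normalizer_phiSub U)
  have hne : ¬ U ≤ phiSub U := fun hle => by
    have h1 := Nat.card_le_card_of_injective _ (inclusion_injective hle)
    have h2 := hS.card_eq
    have h0 : 0 < Nat.card (phiSub U) := Nat.card_pos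
    omega
  obtain ⟨e, he, heD⟩ := exists_fixMod hT hU hTU (phiSub_le U) hTD hUD hne
  have hE : fixMod T U (phiSub U) hTD hUD = U := hS.eq_of_moved _ (fixMod_le hTD hUD)
    (mem_normalizer_fixMod hTD hUD hyT hyU (normalizer_le_normalizer_phiSub U hyU))
    fun hc => heD (hS.fix_le ⟨he.1, mem_centralizer_singleton_iff.mpr
      (mem_centralizer_iff.mp hc e he)⟩)
  exact fun t ht u hu => (hE.ge hu).2 t ht

/-- In a group whose `O_2` is low, moved and self centralising, invariant 2-groups lie in `O_2`. -/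
theorem le_pCore_of_low {H : Type u} [Group H] [Finite H] {y : H} (hy : y ^ 5 = 1)
    (hc : centralizer (Cfsg.pCore 2 H : Set H) ≤ Cfsg.pCore 2 H)
    (hlow : ¬ HasRank3 2 (Cfsg.pCore 2 H)) (hmv : y ∉ centralizer (Cfsg.pCore 2 H : Set H))
    {T : Subgroup H} (hT : IsPGroup 2 T) (hyT : y ∈ normalizer (T : Set H)) :
    T ≤ Cfsg.pCore 2 H := by
  haveI : Fact (Nat.Prime 2) := ⟨Nat.prime_two⟩
  set U := Cfsg.pCore 2 H
  haveI hUn : U.Normal := LocalStructure.pCore_normal
  have hU : IsPGroup 2 U := PLocal.isPGroup_pCore 2 H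
  have hyU : y ∈ normalizer (U : Set H) := (normalizer_eq_top U).ge (mem_top _)
  have hS := low_spec hy hU hlow hyU hmv
  set Φ := phiSub U
  have hΦn : ∀ g : H, g ∈ normalizer (Φ : Set H) := fun g =>
    normalizer_le_normalizer_phiSub U ((normalizer_eq_top U).ge (mem_top g))
  let K : Subgroup H :=
    { carrier := {g | ∀ u ∈ U, ⁅g, u⁆ ∈ Φ}
      one_mem' := fun u _ => by simp
      mul_mem' := fun {a b} ha hb u hu => by
        rw [show ⁅a * b, u⁆ = a * ⁅b, u⁆ * a⁻¹ * ⁅a, u⁆ by
          simp only [commutatorElement_def]; group]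
        exact mul_mem ((mem_normalizer_iff.mp (hΦn a) _).mp (hb u hu)) (ha u hu)
      inv_mem' := fun {a} ha u hu => by
        rw [show ⁅a⁻¹, u⁆ = a⁻¹ * (⁅a, u⁆)⁻¹ * (a⁻¹)⁻¹ by simp only [commutatorElement_def]; group]
        exact (mem_normalizer_iff.mp (hΦn a⁻¹) _).mp (inv_mem (ha u hu)) }
  haveI hKn : K.Normal := ⟨fun g hg k u hu => by
    have h1 := (mem_normalizer_iff.mp (hΦn k) _).mp
      (hg (k⁻¹ * u * k) (by simpa using hUn.conj_mem u hu k⁻¹))
    rwa [show k * ⁅g, k⁻¹ * u * k⁆ * k⁻¹ = ⁅k * g * k⁻¹, u⁆ by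
      simp only [commutatorElement_def]; group] at h1⟩
  have hKp : IsPGroup 2 K := by
    intro g
    obtain ⟨k, m, hm, hgo⟩ := Nat.exists_eq_two_pow_mul_odd (orderOf_pos g).ne'
    refine ⟨k, Subtype.ext ?_⟩
    set h := (g : H) ^ 2 ^ k with hh
    have hhK : h ∈ K := pow_mem g.2 _
    have hhm : h ^ m = 1 := by
      have hg1 : (g : H) ^ orderOf g = 1 := by
        rw [← SubmonoidClass.coe_pow, pow_orderOf_eq_one, OneMemClass.coe_one]
      rw [hh, ← pow_mul, ← hgo, hg1]
    have hcop : (Nat.card (zpowers h)).Coprime (Nat.card U) := by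
      obtain ⟨n, hn⟩ := IsPGroup.iff_card.mp hU
      rw [Nat.card_zpowers, hn]
      exact ((hm.coprime_two_right).coprime_dvd_left (orderOf_dvd_of_pow_eq_one hhm)).pow_right n
    have hhΦ : Φ ≤ centralizer ({h} : Set H) := by
      refine (phiSub_le_of (R := U) (N := Φ ⊓ centralizer ({h} : Set H))
        (inf_le_left.trans (phiSub_le U)) (fun a ha b hb => mem_inf.2
          ⟨commutator_mem_phiSub hU ha hb, ?_⟩)
        (fun a ha => mem_inf.2 ⟨sq_mem_phiSub hU ha, ?_⟩) ?_).trans inf_le_right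
      · refine mem_centralizer_singleton_iff.mpr ?_
        have hz : ∀ z ∈ Φ, ∀ r ∈ U, Commute z r := fun z hz r hr =>
          mem_centralizer_iff.mp (hS.central hr) z hz
        have hu := hhK a ha
        have hv := hhK b hb
        have e1 : h * ⁅a, b⁆ * h⁻¹ = ⁅⁅h, a⁆ * a, ⁅h, b⁆ * b⁆ := by
          simp only [commutatorElement_def]; group
        rw [commutatorElement_mul_central (hz _ hu a ha) (hz _ hu b hb)
          (hz _ hu _ (phiSub_le U hv)) (hz _ hv a ha) (hz _ hv b hb)] at e1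
        exact (mul_inv_eq_iff_eq_mul.mp e1).symm
      · refine mem_centralizer_singleton_iff.mpr ?_
        have hu := hhK a ha
        have hc1 : Commute ⁅h, a⁆ a := mem_centralizer_iff.mp (hS.central ha) _ hu
        have e1 : h * (a * a) * h⁻¹ = ⁅h, a⁆ * a * (⁅h, a⁆ * a) := by
          simp only [commutatorElement_def]; group
        rw [hc1.symm.mul_mul_mul_comm, hS.sq_one _ hu, one_mul] at e1
        exact (mul_inv_eq_iff_eq_mul.mp e1).symm
      · intro r hr
        refine LocalStructure.mem_normalizer_of_forall fun z hz => ?_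
        rw [(mem_centralizer_iff.mp (hS.central hr) z hz.1).symm, mul_inv_cancel_right]
        exact hz
    have hh1 : h = 1 := by
      have hcen : h ∈ centralizer (U : Set H) := by
        refine Coprime.le_centralizer_of_commutator_commutator_eq_bot
          (le_normalizer_of_normal) hcop ?_ (mem_zpowers h)
        rw [commutator_eq_bot_iff_le_centralizer, ← centralizer_singleton_eq]
        refine le_trans ?_ hhΦ
        rw [commutator_comm, commutator_le]
        intro g hg u hu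
        exact (zpowers_le.mpr hhK hg) u hu
      obtain ⟨n, hn⟩ := hU ⟨h, hc hcen⟩
      exact orderOf_eq_one_iff.mp (Nat.eq_one_of_dvd_coprimes ((hm.coprime_two_right).pow_right n)
        (orderOf_dvd_of_pow_eq_one hhm) (orderOf_dvd_of_pow_eq_one (congrArg Subtype.val hn)))
    rw [SubmonoidClass.coe_pow, ← hh, hh1, OneMemClass.coe_one]
  exact fun t ht => PLocal.le_pCore hKp (hS.trivial_of_two_group hU hT le_normalizer_of_normal
    hyU hyT t ht)

namespace Ctx

variable {p : ℕ} [hp : Fact p.Prime] {x : G} (h : Ctx G p x)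
include h

/-- An invariant 2-group of rank three makes the top of rank three. -/
theorem le_normalizer_W_of_high (hp5 : p = 5) {B H R E : Subgroup G} (hB : IsObj p x 2 B)
    (hH : H ≠ ⊤) (hx : x ∈ H) (hBH : B ≤ H) (hR : IsPGroup 2 R)
    (hxR : x ∈ normalizer (R : Set G)) (hRH : R ≤ H) (hR3 : HasRank3 2 R) (hE : IsElem3 2 E)
    (hEH : E ≤ H) : H ≤ normalizer (W 2 E : Set G) := by
  haveI : Fact (Nat.Prime 2) := ⟨Nat.prime_two⟩
  haveI := h.hyp.sub H hH
  obtain ⟨P⟩ : Nonempty (Sylow 2 (Cfsg.pPrimePCore 2 ↥H)) := inferInstance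
  refine h.hyp.le_normalizer_W hE hH hEH P ?_
  let K := Cfsg.pPrimeCore 2 ↥H
  let π := QuotientGroup.mk' K
  let U₀ := Cfsg.pCore 2 (↥H ⧸ K)
  let y := π ⟨x, hx⟩
  have hy : y ^ 5 = 1 := by
    rw [← map_pow, show (⟨x, hx⟩ : ↥H) ^ 5 = 1 from Subtype.ext (hp5 ▸ h.pow_eq), map_one]
  have hc : centralizer (U₀ : Set (↥H ⧸ K)) ≤ U₀ := PLocal.centralizer_pCore_le
    (PLocal.isPSolvable_quotient PLocal.isPSolvable_of_isSolvable _)
    (PLocal.pPrimeCore_quotient_pPrimeCore_eq_bot 2 ↥H)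
  have hmv : y ∉ centralizer (U₀ : Set (↥H ⧸ K)) := by
    intro hcy
    have hyU : y ∈ U₀ := hc hcy
    obtain ⟨k, hk⟩ := PLocal.isPGroup_pCore 2 (↥H ⧸ K) ⟨y, hyU⟩
    have hy1 : y = 1 := orderOf_eq_one_iff.mp (Nat.eq_one_of_dvd_coprimes
      (Nat.Coprime.pow_left k (by norm_num : Nat.Coprime 2 5))
      (orderOf_dvd_of_pow_eq_one (congrArg Subtype.val hk)) (orderOf_dvd_of_pow_eq_one hy))
    have hxK : zpowers x ≤ core' 2 H :=
      zpowers_le.mpr ⟨_, (QuotientGroup.eq_one_iff _).mp hy1, rfl⟩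
    refine hB.ne_bot (le_bot_iff.mp ?_)
    refine le_trans (le_inf le_rfl (hB.eq.ge.trans ?_))
      (PLocal.disjoint_of_isPGroup_of_coprime hB.isPGroup (card_core'_coprime 2 H)).le
    rw [commutator_comm]
    exact (commutator_mono hxK le_rfl).trans
      ((commutator_comm (core' 2 H) B).trans_le (by
        rw [commutator_comm]
        exact Coprime.commutator_le_of_le_normalizer
          ((hBH.trans le_normalizer).trans (normalizer_le_normalizer_core' 2 H))))
  have hhigh : HasRank3 2 U₀ := by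
    by_contra hlow
    set R' := R.subgroupOf H
    have hinj : Function.Injective (π.comp R'.subtype) :=
      PLocal.injective_comp_subtype_of_coprime hR.comap_subtype
        (by rw [QuotientGroup.ker_mk']; exact PLocal.coprime_card_pPrimeCore 2 ↥H)
    have hxR' : (⟨x, hx⟩ : ↥H) ∈ normalizer (R' : Set ↥H) :=
      mem_normalizer_iff.mpr fun c => mem_normalizer_iff.mp hxR (c : G)
    have hle : R'.map π ≤ U₀ := le_pCore_of_low hy hc hlow hmv (hR.comap_subtype.map π)
      (le_normalizer_map π ⟨_, hxR', rfl⟩)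
    obtain ⟨A, hAR, hA, hA3⟩ := hR3
    refine hlow ⟨(A.subgroupOf H).map π, (map_mono (subgroupOf_mono H hAR)).trans hle,
      OddOrder.isElementaryAbelian_map _ ?_, hA3.trans ?_⟩
    · haveI := hA.1
      exact ⟨⟨⟨fun a b => Subtype.ext (Subtype.ext (setLike_mul_comm (s := A) a.2 b.2))⟩⟩,
        fun a ha => Subtype.ext (by rw [SubmonoidClass.coe_pow]; exact hA.2 _ ha)⟩
    · refine Nat.card_le_card_of_injective
        (fun a : A => (⟨π ⟨a, hRH (hAR a.2)⟩, ⟨a, hRH (hAR a.2)⟩, a.2, rfl⟩ :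
          (A.subgroupOf H).map π)) fun a b e => ?_
      have := @hinj ⟨⟨a, hRH (hAR a.2)⟩, hAR a.2⟩ ⟨⟨b, hRH (hAR b.2)⟩, hAR b.2⟩
        (congrArg Subtype.val e)
      exact Subtype.ext (congrArg (fun z : R' => ((z : ↥H) : G)) this)
  obtain ⟨E₁, hEU, hE₁, hE13⟩ := hhigh
  let U := Cfsg.pPrimePCore 2 ↥H
  set P' := (P : Subgroup U).map U.subtype
  have hinj : Function.Injective (π.comp P'.subtype) :=
    PLocal.injective_comp_subtype_of_coprime (P.2.map U.subtype)
      (by rw [QuotientGroup.ker_mk']; exact PLocal.coprime_card_pPrimeCore 2 ↥H)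
  have hmap : P'.map π = U₀ := by
    show P'.map π = Cfsg.pCore 2 _
    rw [← PLocal.map_pPrimePCore 2 ↥H, ← PLocal.sylow_pPrimePCore_sup P, Subgroup.map_sup,
      (Subgroup.map_eq_bot_iff (H := Cfsg.pPrimeCore 2 ↥H)).mpr (QuotientGroup.ker_mk' _).ge,
      sup_bot_eq]
  set E₀ := (E₁.comap π) ⊓ P'
  have hE₀ : E₀.map π = E₁ := by
    refine le_antisymm ((map_mono inf_le_left).trans (map_comap_le _ _)) fun e he => ?_
    obtain ⟨w, hw, hwe⟩ := hmap.ge (hEU he)
    exact ⟨w, ⟨by show π w ∈ E₁; rw [hwe]; exact he, hw⟩, hwe⟩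
  have hinj₀ : ∀ a ∈ E₀, ∀ b ∈ E₀, π a = π b → a = b := fun a ha b hb e =>
    congrArg Subtype.val (@hinj ⟨a, ha.2⟩ ⟨b, hb.2⟩ e)
  have hE₀el : Cfsg.IsElementaryAbelian 2 E₀ := by
    refine ⟨⟨⟨fun a b => Subtype.ext ?_⟩⟩, fun a ha => ?_⟩
    · refine hinj₀ _ (mul_mem a.2 b.2) _ (mul_mem b.2 a.2) ?_
      show π ((a : ↥H) * b) = π ((b : ↥H) * a)
      rw [map_mul, map_mul]
      haveI := hE₁.1
      exact setLike_mul_comm (s := E₁) (hE₀.le ⟨a, a.2, rfl⟩) (hE₀.le ⟨b, b.2, rfl⟩)
    · refine hinj₀ _ (pow_mem ha 2) _ (one_mem _) ?_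
      rw [map_pow, map_one]
      exact hE₁.2 _ (hE₀.le ⟨a, ha, rfl⟩)
  refine ⟨E₀.map H.subtype, map_mono inf_le_right, OddOrder.isElementaryAbelian_map _ hE₀el, ?_⟩
  rw [card_map_of_injective H.subtype_injective]
  refine hE13.trans ?_
  rw [← hE₀]
  exact Nat.card_le_card_of_surjective (fun a : E₀ => (⟨π a, mem_map_of_mem π a.2⟩ : E₀.map π))
    (by rintro ⟨_, a, ha, rfl⟩; exact ⟨⟨a, ha⟩, rfl⟩)

end Ctx

end CfsgLib.TwoGenSolv66
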