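import Cfsg.Agent.TwoGenSolv66.Four
import Cfsg.Agent.TwoGenSolv66.Top
import Cfsg.Agent.TwoGenSolv66.Strong

/-!
# A moved group without low moved subgroups

If a moved invariant low group `B` with `|Φ(B)| ≤ 2` lies in a group `R` of rank three whose fixed
points lie in `Φ(B)`, then some moved invariant subgroup of `R` has all its moved invariant
subgroups of rank three.
-/

set_option autoImplicit false
set_option linter.unusedSectionVars false
set_option linter.style.haveILetI false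

open scoped commutatorElement

namespace CfsgLib.TwoGenSolv66

open Subgroup CfsgLib.SolvSig CfsgLib.Transitivity

universe u

variable {G : Type u} [Group G] [Finite G] {y : G}

/-- The Frattini subgroup of a low moved group is not trivial. -/
theorem LowSpec.two_le_card {B : Subgroup G} (hS : LowSpec y B) (hB : IsPGroup 2 B)
    (hlow : ¬ HasRank3 2 B) : 2 ≤ Nat.card (phiSub B) := by
  by_contra h
  have h0 : 0 < Nat.card (phiSub B) := Nat.card_pos
  have hbot : phiSub B = ⊥ := card_eq_one.mp (by omega)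
  have hsq : ∀ a ∈ B, a * a = 1 := fun a ha => mem_bot.mp (hbot ▸ sq_mem_phiSub hB ha)
  refine hlow ⟨B, le_rfl, ⟨⟨⟨fun a b => Subtype.ext (mul_comm_of_sq (hsq a a.2) (hsq b b.2)
    (hsq _ (mul_mem a.2 b.2)))⟩⟩, fun a ha => by rw [pow_two]; exact hsq a ha⟩, ?_⟩
  rw [hS.card_eq]
  omega

/-- An element fixed modulo fixed involutions by a non-trivial power of `y` is fixed. -/
theorem commute_of_fixed_mod (hy : y ^ 5 = 1) {k : ℕ} (hk : ¬ 5 ∣ k) {f φ : G} (hφ : Commute y φ)
    (hφ2 : φ * φ = 1) (e : y ^ k * f * (y ^ k)⁻¹ = f * φ) : Commute y f := by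
  have h1 : y ^ (2 * k) * f * (y ^ (2 * k))⁻¹ = f := by
    calc y ^ (2 * k) * f * (y ^ (2 * k))⁻¹ = y ^ k * (f * φ) * (y ^ k)⁻¹ := by
          rw [← e, two_mul, pow_add]; group
      _ = (y ^ k * f * (y ^ k)⁻¹) * (y ^ k * φ * (y ^ k)⁻¹) := by group
      _ = f := by rw [e, (hφ.pow_left k).eq, mul_inv_cancel_right, mul_assoc, hφ2, mul_one]
  have h2 : Commute (y ^ (2 * k)) f := mul_inv_eq_iff_eq_mul.mp h1
  have hc : Nat.Coprime (2 * k) (orderOf y) := by
    refine Nat.Coprime.coprime_dvd_right (orderOf_dvd_of_pow_eq_one hy) ?_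
    refine ((Nat.prime_five.coprime_iff_not_dvd).mpr fun h => ?_).symm
    rcases Nat.prime_five.dvd_mul.mp h with h | h
    · norm_num at h
    · exact hk h
  obtain ⟨m, hm⟩ := exists_pow_eq_self_of_coprime hc
  rw [← hm]
  exact h2.pow_left m

section Low

variable (hy : y ^ 5 = 1) {B : Subgroup G} (hB : IsPGroup 2 B) (hyB : y ∈ normalizer (B : Set G))
  (hS : LowSpec y B) (h2 : Nat.card (phiSub B) = 2) (hlow : ¬ HasRank3 2 B)
  {f : G} (hf : f ∈ B) (hfΦ : f ∉ phiSub B) (hff : f * f = 1)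

include hy hB hyB hS h2 hlow hf hfΦ hff

/-- An outside involution does not commute with its conjugates. -/
theorem not_commute_conj {k : ℕ} (hk : ¬ 5 ∣ k) : ¬ Commute f (y ^ k * f * (y ^ k)⁻¹) := by
  intro hc
  haveI : Fact (Nat.Prime 2) := ⟨Nat.prime_two⟩
  set Φ := phiSub B
  set g := y ^ k * f * (y ^ k)⁻¹ with hg
  have hgB : g ∈ B := (mem_normalizer_iff.mp (pow_mem hyB k) f).mp hf
  have hgg : g * g = 1 := by
    rw [hg, show y ^ k * f * (y ^ k)⁻¹ * (y ^ k * f * (y ^ k)⁻¹) = y ^ k * (f * f) * (y ^ k)⁻¹ by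
      group, hff]; group
  have hfy : ∀ z ∈ Φ, Commute y z := fun z hz =>
    (mem_centralizer_singleton_iff.mp (hS.fixed hz)).symm
  have hgΦ : g ∉ Φ := fun h => hfΦ (by
    have := (hfy g h).pow_left k
    have e : f = g := by
      rw [hg] at this ⊢
      have h1 := mul_inv_eq_iff_eq_mul.mpr this.eq
      calc f = (y ^ k)⁻¹ * (y ^ k * f * (y ^ k)⁻¹) * y ^ k := by group
        _ = (y ^ k)⁻¹ * (y ^ k * (y ^ k * f * (y ^ k)⁻¹) * (y ^ k)⁻¹) * y ^ k := by rw [h1]
        _ = _ := by group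
    exact e ▸ h)
  have hΦel : Cfsg.IsElementaryAbelian 2 Φ :=
    ⟨le_centralizer_iff_isMulCommutative.mp ((phiSub_le B).trans hS.central),
      fun z hz => by rw [pow_two]; exact hS.sq_one z hz⟩
  have hF := OddOrder.BG11.elem_sup_zpowers hΦel (by rw [pow_two]; exact hff) (hS.central hf)
  have hgF : g ∈ centralizer ((Φ ⊔ zpowers f : Subgroup G) : Set G) := by
    refine (le_centralizer_iff.mp (sup_le (le_centralizer_iff.mp (zpowers_le.mpr (hS.central hgB)))
      ?_)) (mem_zpowers g)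
    rw [le_centralizer_iff, zpowers_le, ← centralizer_singleton_eq]
    exact mem_centralizer_singleton_iff.mpr hc.symm.eq
  have hgn : g ∉ Φ ⊔ zpowers f := by
    intro h
    obtain ⟨φ, hφ, _, ⟨i, rfl⟩, e⟩ := Coprime.exists_mul_of_mem_sup
      ((zpowers_le.mpr (hS.central hf)).trans (centralizer_le_normalizer _)) h
    replace e := e.symm
    simp only at e
    rcases Int.even_or_odd' i with ⟨l, rfl | rfl⟩
    · refine hgΦ ?_
      rw [e, zpow_mul, zpow_two, hff, one_zpow, mul_one]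
      exact hφ
    · refine hfΦ (hS.fix_le ⟨hf, mem_centralizer_singleton_iff.mpr ?_⟩)
      rw [zpow_add_one, zpow_mul, zpow_two, hff, one_zpow, one_mul] at e
      exact (commute_of_fixed_mod hy hk (hfy φ hφ) (hS.sq_one φ hφ)
        (e.trans ((show Commute φ f from mem_centralizer_iff.mp (hS.central hf) φ hφ).eq))).symm.eq
  refine hlow ⟨Φ ⊔ zpowers f ⊔ zpowers g, sup_le (sup_le (phiSub_le B) (zpowers_le.mpr hf))
    (zpowers_le.mpr hgB), OddOrder.BG11.elem_sup_zpowers hF (by rw [pow_two]; exact hgg) hgF, ?_⟩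
  rw [LocalEven48.KlingerMason.card_elem_sup (p := 2) (by rw [pow_two]; exact hgg) hgF hgn,
    LocalEven48.KlingerMason.card_elem_sup (p := 2) (by rw [pow_two]; exact hff) (hS.central hf)
      hfΦ, h2]
  norm_num

end Low

theorem exists_sub_all_high (hy : y ^ 5 = 1) {R B : Subgroup G} (hR : IsPGroup 2 R)
    (hyR : y ∈ normalizer (R : Set G)) (hBR : B ≤ R) (hyB : y ∈ normalizer (B : Set G))
    (hmv : y ∉ centralizer (B : Set G)) (hlow : ¬ HasRank3 2 B) (hhigh : HasRank3 2 R)
    (hfix : R ⊓ centralizer ({y} : Set G) ≤ phiSub B) (h2 : Nat.card (phiSub B) ≤ 2) :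
    ∃ A : Subgroup G, A ≤ R ∧ y ∈ normalizer (A : Set G) ∧ y ∉ centralizer (A : Set G) ∧
      ∀ D ≤ A, y ∈ normalizer (D : Set G) → y ∉ centralizer (D : Set G) → HasRank3 2 D := by
  haveI : Fact (Nat.Prime 2) := ⟨Nat.prime_two⟩
  haveI : Fact (Nat.Prime 5) := ⟨Nat.prime_five⟩
  have hB := hR.to_le hBR
  have hS := low_spec hy hB hlow hyB hmv
  set Φ := phiSub B with hΦ
  have hΦ2 : Nat.card Φ = 2 := le_antisymm h2 (hS.two_le_card hB hlow)
  have hBlt : B < R := lt_of_le_of_ne hBR fun e => hlow (e ▸ hhigh)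
  set D := R ⊓ normalizer (B : Set G) with hD
  have hDlt : Nat.card B < Nat.card D := exists_gt_inf_normalizer hR hBlt
  have hyD : y ∈ normalizer (D : Set G) :=
    inf_normalizer_le_normalizer_inf ⟨hyR, le_normalizer hyB⟩
  have hcm : ∀ d ∈ D, ∀ b ∈ B, ⁅d, b⁆ ∈ Φ :=
    hS.trivial_of_two_group hB (hR.to_le inf_le_left) inf_le_right hyB hyD
  have hΦD : Φ ≤ D := (phiSub_le B).trans (le_inf hBR le_normalizer)
  have hDΦ : D ≤ centralizer (Φ : Set G) := fun d hd => mem_centralizer_iff.mpr fun z hz => by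
    rcases eq_or_ne z 1 with rfl | hz1
    · simp
    have hdz : d * z * d⁻¹ ∈ Φ :=
      (mem_normalizer_iff.mp (normalizer_le_normalizer_phiSub B hd.2) z).mp hz
    obtain ⟨w, hw⟩ := (Nat.card_eq_two_iff' (1 : Φ)).mp hΦ2
    have h1 : (⟨_, hdz⟩ : Φ) = w := hw.2 _ fun e => hz1 (conj_eq_one_iff.mp (congrArg Subtype.val e))
    have h2 : (⟨z, hz⟩ : Φ) = w := hw.2 _ fun e => hz1 (congrArg Subtype.val e)
    exact (mul_inv_eq_iff_eq_mul.mp (congrArg Subtype.val (h1.trans h2.symm))).symm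
  set C := R ⊓ centralizer (B : Set G) with hC
  have hcount : ∀ n, ∀ K : Subgroup G, Nat.card B - Nat.card K = n → Φ ≤ K → K ≤ B →
      Nat.card ↥(D ⊓ centralizer (K : Set G)) * Nat.card K ≤ Nat.card C * Nat.card B := by
    intro n
    induction n using Nat.strong_induction_on with | _ n ih => ?_
    intro K hn hΦK hKB
    rcases eq_or_lt_of_le hKB with rfl | hlt
    · exact Nat.mul_le_mul_right _ (Nat.card_le_card_of_injective _
        (inclusion_injective (inf_le_inf_right _ inf_le_left)))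
    obtain ⟨b, hb, hbK⟩ := SetLike.exists_of_lt hlt
    set K' := K ⊔ zpowers b
    have hK' : K' ≤ B := sup_le hKB (zpowers_le.mpr hb)
    have hlt' : Nat.card K < Nat.card K' := Set.ncard_lt_ncard
      (SetLike.coe_ssubset_coe.mpr (le_sup_left.lt_of_ne fun e =>
        hbK (e.ge (mem_sup_right (mem_zpowers b))))) (Set.toFinite _)
    have h2K : 2 * Nat.card K ≤ Nat.card K' := by
      obtain ⟨m, hm⟩ := card_dvd_of_le (le_sup_left : K ≤ K')
      have : 2 ≤ m := by
        by_contra hh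
        rw [hm] at hlt'
        have := Nat.mul_le_mul_left (Nat.card K) (show m ≤ 1 by omega)
        omega
      rw [hm, mul_comm 2]
      exact Nat.mul_le_mul_left _ this
    have h3 : Nat.card ↥(D ⊓ centralizer (K : Set G)) ≤
        Nat.card ↥(D ⊓ centralizer (K : Set G) ⊓ centralizer ({b} : Set G)) * 2 := by
      rw [← hΦ2]
      exact card_le_of_commutator (le_inf hΦD fun z hz => mem_centralizer_iff.mpr fun k hk =>
        (mem_centralizer_iff.mp (hS.central (hKB hk)) z hz).symm)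
        (inf_le_left.trans hDΦ) fun c hc => hcm c hc.1 b hb
    have h4 : Nat.card ↥(D ⊓ centralizer (K : Set G) ⊓ centralizer ({b} : Set G)) ≤
        Nat.card ↥(D ⊓ centralizer (K' : Set G)) := by
      have hle : D ⊓ centralizer (K : Set G) ⊓ centralizer ({b} : Set G) ≤
          D ⊓ centralizer (K' : Set G) := fun c hc => by
        refine ⟨hc.1.1, ?_⟩
        refine (le_centralizer_iff.mp (sup_le (le_centralizer_iff.mp (zpowers_le.mpr hc.1.2)) ?_))
          (mem_zpowers c)
        rw [le_centralizer_iff, zpowers_le, ← centralizer_singleton_eq]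
        exact hc.2
      exact Nat.card_le_card_of_injective _ (inclusion_injective hle)
    have hKle := Nat.card_le_card_of_injective _ (inclusion_injective hK')
    have h5 := ih _ (by omega) K' rfl (hΦK.trans le_sup_left) hK'
    calc Nat.card ↥(D ⊓ centralizer (K : Set G)) * Nat.card K
        ≤ Nat.card ↥(D ⊓ centralizer (K' : Set G)) * 2 * Nat.card K :=
          Nat.mul_le_mul_right _ (h3.trans (Nat.mul_le_mul_right _ h4))
      _ ≤ Nat.card ↥(D ⊓ centralizer (K' : Set G)) * Nat.card K' := by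
          rw [mul_assoc]; exact Nat.mul_le_mul_left _ h2K
      _ ≤ _ := h5
  have hDC := hcount _ Φ rfl le_rfl (phiSub_le B)
  rw [inf_eq_left.mpr hDΦ] at hDC
  have hyC : y ∈ normalizer (C : Set G) := inf_normalizer_le_normalizer_inf
    ⟨hyR, CharPLocal.normalizer_le_normalizer_centralizer B hyB⟩
  have hfixed : ∀ {K : Subgroup G}, K ≤ R → y ∈ centralizer (K : Set G) → K ≤ Φ :=
    fun {K} hK hc k hk => hfix ⟨hK hk,
      mem_centralizer_singleton_iff.mpr (mem_centralizer_iff.mp hc k hk)⟩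
  have hmvC : y ∉ centralizer (C : Set G) := fun hc => by
    have h1 : Nat.card C ≤ Nat.card Φ :=
      Nat.card_le_card_of_injective _ (inclusion_injective (hfixed inf_le_left hc))
    have h2 := hS.card_eq
    rw [hΦ2] at h1 h2 hDC
    have := Nat.mul_le_mul_right (Nat.card B) h1
    omega
  by_cases hall : ∀ B₂ ≤ C, y ∈ normalizer (B₂ : Set G) → y ∉ centralizer (B₂ : Set G) → HasRank3 2 B₂
  · exact ⟨C, inf_le_left, hyC, hmvC, hall⟩
  push Not at hall
  obtain ⟨B₂, hB₂C, hyB₂, hmv₂, hlow₂⟩ := hall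
  have hB₂ := hR.to_le (hB₂C.trans inf_le_left)
  have hS₂ := low_spec hy hB₂ hlow₂ hyB₂ hmv₂
  have hΦ₂ : phiSub B₂ = Φ := by
    refine eq_of_le_of_card_ge (fun z hz => hfix ⟨(hB₂C (phiSub_le B₂ hz)).1, hS₂.fixed hz⟩) ?_
    rw [hΦ2]
    exact hS₂.two_le_card hB₂ hlow₂
  obtain ⟨f, hf, hfΦ, hff⟩ := exists_involution_outside hB hS hΦ2.le
  obtain ⟨g, hg, hgΦ, hgg⟩ := exists_involution_outside hB₂ hS₂ (hΦ₂ ▸ hΦ2.le)
  have hcomm : ∀ a ∈ B, ∀ b ∈ B₂, Commute a b := fun a ha b hb =>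
    mem_centralizer_iff.mp (hB₂C hb).2 a ha
  let u : ℕ → G := fun i => y ^ i * (f * g) * (y ^ i)⁻¹
  have hu0 : ∀ k, Commute (f * g) (u k) := fun k => by
    by_cases hk : 5 ∣ k
    · obtain ⟨m, rfl⟩ := hk
      simp [u, pow_mul, hy]
    set f' := y ^ k * f * (y ^ k)⁻¹ with hf'
    set g' := y ^ k * g * (y ^ k)⁻¹ with hg'
    have hf'B : f' ∈ B := (mem_normalizer_iff.mp (pow_mem hyB k) f).mp hf
    have hg'B : g' ∈ B₂ := (mem_normalizer_iff.mp (pow_mem hyB₂ k) g).mp hg
    have e : u k = f' * g' := by simp only [u, hf', hg']; group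
    have hz1 := commutator_mem_phiSub hB hf hf'B
    have hz2 : ⁅g, g'⁆ ∈ Φ := hΦ₂ ▸ commutator_mem_phiSub hB₂ hg hg'B
    have heq : ⁅f, f'⁆ = ⁅g, g'⁆ := by
      obtain ⟨w, hw⟩ := (Nat.card_eq_two_iff' (1 : Φ)).mp hΦ2
      refine congrArg Subtype.val ((hw.2 ⟨_, hz1⟩ fun e1 => ?_).trans (hw.2 ⟨_, hz2⟩ fun e1 => ?_).symm)
      · exact not_commute_conj hy hB hyB hS hΦ2 hlow hf hfΦ hff hk
          (commutatorElement_eq_one_iff_commute.mp (congrArg Subtype.val e1))
      · exact not_commute_conj hy hB₂ hyB₂ hS₂ (hΦ₂ ▸ hΦ2) hlow₂ hg hgΦ hgg hk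
          (commutatorElement_eq_one_iff_commute.mp (congrArg Subtype.val e1))
    rw [e]
    show f * g * (f' * g') = f' * g' * (f * g)
    rw [(hcomm f' hf'B g hg).symm.mul_mul_mul_comm, (hcomm f hf g' hg'B).symm.mul_mul_mul_comm,
      show f * f' = ⁅f, f'⁆ * (f' * f) by rw [commutatorElement_def]; group,
      show g * g' = ⁅g, g'⁆ * (g' * g) by rw [commutatorElement_def]; group]
    have hc : Commute (f' * f) ⁅g, g'⁆ :=
      (mem_centralizer_iff.mp (hS.central (mul_mem hf'B hf)) _ hz2).symm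
    rw [heq, mul_assoc, ← mul_assoc (f' * f), hc.eq, mul_assoc _ (f' * f), ← mul_assoc ⁅g, g'⁆,
      hS.sq_one _ hz2, one_mul]
  have hucomm : ∀ i j, Commute (u i) (u j) := by
    intro i j
    have key : ∀ i k, Commute (u i) (u (i + k)) := fun i k => by
      have e : u (i + k) = y ^ i * u k * (y ^ i)⁻¹ := by simp only [u, pow_add]; group
      rw [e]
      exact (hu0 k).map (MulAut.conj (y ^ i)).toMonoidHom
    rcases le_total i j with h | h
    · obtain ⟨k, rfl⟩ := Nat.exists_eq_add_of_le h; exact key i k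
    · obtain ⟨k, rfl⟩ := Nat.exists_eq_add_of_le h; exact (key j k).symm
  set A := closure (Set.range u) with hA
  have hAR : A ≤ R := by
    rw [hA, closure_le]
    rintro _ ⟨i, rfl⟩
    exact (mem_normalizer_iff.mp (pow_mem hyR i) _).mp
      (mul_mem (hBR hf) (hB₂C hg).1)
  have hAab : A ≤ centralizer (A : Set G) := by
    rw [hA, closure_le]
    rintro _ ⟨i, rfl⟩
    rw [SetLike.mem_coe, ← zpowers_le, le_centralizer_iff, closure_le]
    rintro _ ⟨j, rfl⟩
    rw [SetLike.mem_coe, ← centralizer_singleton_eq, mem_centralizer_singleton_iff]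
    exact (hucomm j i).eq
  have hAsq : ∀ a ∈ A, a * a = 1 := by
    intro a ha
    induction ha using closure_induction with
    | mem a ha =>
      obtain ⟨i, rfl⟩ := ha
      rw [show u i * u i = y ^ i * (f * g * (f * g)) * (y ^ i)⁻¹ by simp only [u]; group,
        (hcomm f hf g hg).symm.mul_mul_mul_comm, hff, hgg]
      group
    | one => exact one_mul 1
    | mul a b ha hb ha2 hb2 =>
      rw [(show Commute a b from (mem_centralizer_iff.mp (hAab ha) b hb).symm).symm.mul_mul_mul_comm,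
        ha2, hb2, one_mul]
    | inv a _ ha2 => rw [← mul_inv_rev, ha2, inv_one]
  have hyA : y ∈ normalizer (A : Set G) := LocalStructure.mem_normalizer_of_forall fun a ha => by
    have : A ≤ A.comap (MulAut.conj y).toMonoidHom := by
      rw [hA, closure_le]
      rintro _ ⟨i, rfl⟩
      exact subset_closure ⟨i + 1, by simp [u, pow_succ', mul_assoc]⟩
    exact this ha
  refine ⟨A, hAR, hyA, fun hc => ?_, fun K hKA hyK hKmv => ⟨K, le_rfl, ?_,
    cube_le_card (p := 5) le_rfl (by norm_num) hy (hR.to_le (hKA.trans hAR)) hyK hKmv⟩⟩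
  · have h1 : f * g ∈ Φ := hfixed hAR hc (subset_closure ⟨0, by simp [u]⟩)
    have hgB : g ∈ B := by
      have := mul_mem (inv_mem hf) (phiSub_le B h1)
      rwa [inv_mul_cancel_left] at this
    set Z := B ⊓ centralizer (B : Set G)
    have hyZ : y ∈ normalizer (Z : Set G) := inf_normalizer_le_normalizer_inf
      ⟨hyB, CharPLocal.normalizer_le_normalizer_centralizer B hyB⟩
    by_cases hZ : y ∈ centralizer (Z : Set G)
    · exact hgΦ (hΦ₂ ▸ hfixed (inf_le_left.trans hBR) hZ ⟨hgB, (hB₂C hg).2⟩)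
    · have hZB := hS.eq_of_moved Z inf_le_left hyZ hZ
      refine not_commute_conj hy hB hyB hS hΦ2 hlow hf hfΦ hff (k := 1) (by norm_num) ?_
      exact mem_centralizer_iff.mp (hZB.ge ((mem_normalizer_iff.mp (pow_mem hyB 1) f).mp hf)).2 f hf
  · exact ⟨le_centralizer_iff_isMulCommutative.mp (hKA.trans (hAab.trans
      (centralizer_le hKA))), fun a ha => by rw [pow_two]; exact hAsq a (hKA ha)⟩

end CfsgLib.TwoGenSolv66
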