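import Cfsg.Agent.TwoGenSolv66.LowType
import Cfsg.Agent.TwoGenSolv66.LowGen
import Cfsg.Agent.TwoGenSolv66.Poor

/-!
# The high member contains the carrier of `x`

For `p = 5` and nontrivial cores at `2` there is at most one high maximal subgroup `L` through `x`;
it contains the carrier of `x` and every 2-object.

* `Det x L D` : every maximal subgroup through `x` and `D` is `L`.
-/

set_option autoImplicit false
set_option linter.unusedSectionVars false
set_option linter.unusedVariables false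
set_option linter.style.haveILetI false

open scoped commutatorElement Pointwise

namespace CfsgLib.TwoGenSolv66

open Subgroup CfsgLib.SolvSig CfsgLib.Transitivity

universe u

/-- Every maximal subgroup through `x` and `D` is `L`. -/
def Det {G : Type*} [Group G] (x : G) (L D : Subgroup G) : Prop :=
  ∀ M : Subgroup G, IsCoatom M → x ∈ M → D ≤ M → M = L

variable {G : Type u} [Group G] [Finite G]

/-- Commuting elements of coprime orders are powers of their product. -/
theorem mem_zpowers_mul_of_coprime {u v : G} (hc : Commute u v)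
    (ho : (orderOf u).Coprime (orderOf v)) : u ∈ zpowers (u * v) ∧ v ∈ zpowers (u * v) := by
  have hu : u ∈ zpowers (u * v) := by
    obtain ⟨m, hm⟩ := exists_pow_eq_self_of_coprime ho.symm
    refine ⟨((orderOf v * m : ℕ) : ℤ), ?_⟩
    show (u * v) ^ ((orderOf v * m : ℕ) : ℤ) = u
    rw [zpow_natCast, hc.mul_pow, pow_mul v, pow_orderOf_eq_one, one_pow, mul_one, pow_mul, hm]
  refine ⟨hu, ?_⟩
  have := mul_mem (inv_mem hu) (mem_zpowers (u * v))
  rwa [inv_mul_cancel_left] at this

/-- Orders of elements of groups of coprime prime powers are coprime. -/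
theorem coprime_orderOf_of_pGroup {q r : ℕ} [Fact q.Prime] [Fact r.Prime] (hqr : q ≠ r)
    {U V : Subgroup G} (hU : IsPGroup q U) (hV : IsPGroup r V) {u v : G} (hu : u ∈ U) (hv : v ∈ V) :
    (orderOf u).Coprime (orderOf v) := by
  obtain ⟨i, hi⟩ := IsPGroup.iff_card.mp hU
  obtain ⟨j, hj⟩ := IsPGroup.iff_card.mp hV
  have h1 : orderOf u ∣ Nat.card U := by
    rw [← Subgroup.orderOf_mk u hu]; exact orderOf_dvd_natCard _
  have h2 : orderOf v ∣ Nat.card V := by
    rw [← Subgroup.orderOf_mk v hv]; exact orderOf_dvd_natCard _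
  exact ((((Nat.coprime_primes Fact.out Fact.out).mpr hqr).pow i j).coprime_dvd_left
    (hi ▸ h1)).coprime_dvd_right (hj ▸ h2)

/-- A low moved group is not elementary. -/
theorem exists_phiSub_ne_one {y : G} {D : Subgroup G} (hD : IsPGroup 2 D) (hS : LowSpec y D)
    (hlow : ¬ HasRank3 2 D) : ∃ z ∈ phiSub D, z ≠ 1 := by
  by_contra! hh
  have hsq : ∀ a ∈ D, a * a = 1 := fun a ha => hh _ (sq_mem_phiSub hD ha)
  refine hlow ⟨D, le_rfl, ⟨⟨⟨fun a b => Subtype.ext (mul_comm_of_sq (hsq a a.2) (hsq b b.2)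
    (hsq _ (mul_mem a.2 b.2)))⟩⟩, fun a ha => by rw [pow_two]; exact hsq a ha⟩, ?_⟩
  rw [hS.card_eq]
  have : 0 < Nat.card (phiSub D) := Nat.card_pos
  omega

variable {p : ℕ} [hp : Fact p.Prime] {x : G}

namespace Ctx

variable (h : Ctx G p x)
include h

/-- A subgroup with an object has one centralising a given fixed involution in it. -/
theorem exists_obj_centralizer {L A : Subgroup G} (hL : L ≠ ⊤) (hx : x ∈ L)
    (hA : IsObj p x 2 A) (hAL : A ≤ L) {z : G} (hz : z ∈ L) (hz2 : z * z = 1)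
    (hzx : Commute z x) : ∃ A' : Subgroup G, IsObj p x 2 A' ∧ A' ≤ L ∧
      A' ≤ centralizer ({z} : Set G) := by
  haveI : Fact (Nat.Prime 2) := ⟨Nat.prime_two⟩
  set K := core' p L
  have hn : L ≤ normalizer (K : Set G) := le_normalizer.trans (normalizer_le_normalizer_core' p L)
  set Z := zpowers z
  have hZ2 : IsPGroup 2 Z := fun g => by
    obtain ⟨i, hi⟩ := mem_zpowers_iff.mp g.2
    refine ⟨1, Subtype.ext ?_⟩
    rw [SubmonoidClass.coe_pow, ← hi, pow_one, ← zpow_natCast, ← zpow_mul, mul_comm, zpow_mul,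
      zpow_natCast, pow_two, hz2, one_zpow, OneMemClass.coe_one]
  set K₂ := K ⊔ Z
  have hK₂L : K₂ ≤ L := sup_le (core'_le p L) (zpowers_le.mpr hz)
  have hxZ : x ∈ normalizer (Z : Set G) := centralizer_le_normalizer _ (mem_centralizer_iff.mpr
    fun g hg => by obtain ⟨i, rfl⟩ := hg; exact (hzx.zpow_left i).eq)
  have hxK₂ : x ∈ normalizer (K₂ : Set G) :=
    normalizer_inf_normalizer_le_normalizer_sup _ _ ⟨hn hx, hxZ⟩
  have hK₂p : ¬ p ∣ Nat.card K₂ := by
    intro hd
    have hd' : p ∣ Nat.card K * Nat.card Z := by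
      rw [mul_comm, ← PLocal.card_sup_mul_card_inf ((zpowers_le.mpr hz).trans hn), sup_comm]
      exact hd.trans (dvd_mul_right _ _)
    rcases hp.out.dvd_mul.mp hd' with e | e
    · exact PLocal.not_dvd_iff_coprime.mp (card_core'_coprime p L) e
    · exact h.not_dvd_of_isPGroup Nat.prime_two h.two_ne hZ2 e
  obtain ⟨T, hzT, hT⟩ := Coprime.exists_invariant_sylow_ge (zpowers_le.mpr hxK₂) (h.coprime hK₂p)
    (Or.inl (isSolvable_zpowers' x)) (le_sup_right : Z ≤ K₂) hZ2 (zpowers_le.mpr hxZ)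
  set T' := (T : Subgroup K₂).map K₂.subtype
  have hxT : x ∈ normalizer (T' : Set G) := hT (mem_zpowers x)
  -- `x` moves `T`
  have hmvT : x ∉ centralizer (T' : Set G) := by
    intro hc
    obtain ⟨S, hAS, hS⟩ := Coprime.exists_invariant_sylow_ge (zpowers_le.mpr hxK₂) (h.coprime hK₂p)
      (Or.inl (isSolvable_zpowers' x)) ((h.obj_le_core' hA hL hx hAL).trans (le_sup_left : K ≤ K₂))
      hA.isPGroup (zpowers_le.mpr hA.inv)
    obtain ⟨c, hc', hconj⟩ := Coprime.exists_conj_map_sylow T S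
    obtain ⟨k, hk, hkU⟩ := Coprime.exists_conj_eq_of_invariant (zpowers_le.mpr hxK₂)
      (h.coprime hK₂p) (Or.inl (isSolvable_zpowers' x)) hT hS hc' hconj
    refine obj_moved hA (mem_centralizer_iff.mpr fun a ha => ?_)
    obtain ⟨v, hv, rfl⟩ := hkU.ge (hAS ha)
    have h1 : Commute v x := mem_centralizer_iff.mp hc v hv
    have h2 : Commute k x := (mem_centralizer_iff.mp hk.2 x (mem_zpowers x)).symm
    exact ((h2.mul_left h1).mul_left h2.inv_left).eq
  -- so it moves the centraliser of `z` in `T`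
  have hZT : Z ≤ normalizer (T' : Set G) := hzT.trans le_normalizer
  set D := T' ⊓ centralizer ({z} : Set G) with hD
  have hxD : x ∈ normalizer (D : Set G) := inf_normalizer_le_normalizer_inf
    ⟨hxT, le_normalizer (mem_centralizer_singleton_iff.mpr hzx.symm.eq)⟩
  have hmvD : x ∉ centralizer (D : Set G) := by
    intro hc
    refine hmvT (Coprime.le_centralizer_of_inf_centralizer_le (p := 2) (U := T') (P := Z)
      (Q := zpowers x) hZ2 ?_ (T.2.map _) ?_ hZT (zpowers_le.mpr hxT) ?_ (mem_zpowers x))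
    · rw [Nat.card_zpowers, h.ord]
      exact (Nat.coprime_primes hp.out Nat.prime_two).mpr h.two_ne.symm
    · rw [zpowers_le, mem_centralizer_iff]
      intro g hg
      obtain ⟨i, rfl⟩ := hg
      exact (hzx.symm.zpow_left i).eq
    · rw [← centralizer_singleton_eq, ← hD, ← centralizer_singleton_eq]
      exact fun d hd => mem_centralizer_singleton_iff.mpr (mem_centralizer_iff.mp hc d hd)
  obtain ⟨hobj, hle⟩ := h.obj_of_moved Nat.prime_two h.two_ne
    ((T.2.map _).to_le inf_le_left) hxD hmvD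
  exact ⟨_, hobj, hle.trans (inf_le_left.trans ((map_subtype_le _).trans hK₂L)),
    hle.trans inf_le_right⟩

variable (hp5 : p = 5)
include hp5

variable {L : Subgroup G} (hL : IsHi x L)
include hL

theorem det_of_high {D : Subgroup G} (hD : IsObj p x 2 D) (hDL : D ≤ L) (h3 : HasRank3 2 D) :
    Det x L D := fun M hM hxM hDM =>
  h.hi_eq_of_common hp5
    (h.isHi_of_le hL.ntriv hM hxM hD le_rfl hD.isPGroup hDM hD.inv h3) hL hD hDM hDL

/-- A low object with fixed elements outside it, or with Frattini group of order four, determines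
the high member. -/
theorem det_of_free {D R : Subgroup G} (hD : IsObj p x 2 D) (hlow : ¬ HasRank3 2 D)
    (hR : IsPGroup 2 R) (hxR : x ∈ normalizer (R : Set G)) (hDR : D ≤ R) (hR3 : HasRank3 2 R)
    (hRL : R ≤ L) (hfree : (∃ n ∈ R, Commute n x ∧ n ∉ phiSub D) ∨ 4 ≤ Nat.card (phiSub D)) :
    Det x L D := by
  haveI : Fact (Nat.Prime 2) := ⟨Nat.prime_two⟩
  haveI : Fact (Nat.Prime 3) := ⟨Nat.prime_three⟩
  intro M hM hxM hDM
  by_contra hne
  have hlowM : ¬ HighIn x M := fun hh =>
    hne (h.hi_eq_of_common hp5 ⟨hM, hxM, hL.ntriv, hh⟩ hL hD hDM (hDR.trans hRL))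
  have hS := low_spec (h.pow_five hp5) hD.isPGroup hlow hD.inv (obj_moved hD)
  have hN : normalizer (D : Set G) ≤ L := by
    obtain ⟨N, hN, hle⟩ := h.hyp.exists_maximal
      (h.hyp.normalizer_ne_top hD.ne_bot (h.hyp.ne_top_of_isPGroup hD.isPGroup))
    obtain ⟨hHi, hDN⟩ := h.isHi_over_normalizer hp5 hL.ntriv hD hlow hR hxR hDR hR3 hN hle
    exact hle.trans (h.hi_eq_of_common hp5 hHi hL hD hDN (hDR.trans hRL)).le
  set Q := core 3 M with hQd
  have hQp : IsPGroup 3 Q := core_isPGroup 3 M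
  have hDQ : D ≤ normalizer (Q : Set G) := hDM.trans (le_normalizer_core 3 M)
  have hQL : Q ≤ L := by
    rcases hfree with ⟨n, hn, hnx, hnD⟩ | h4
    · refine (le_iSup_fixed hD.isPGroup hQp hDQ (phiSub_le D) hS.central hS.sq_one hS.card_le
        (fun a ha => sq_mem_phiSub hD.isPGroup ha)
        (fun a ha b hb => commutator_mem_phiSub hD.isPGroup ha hb) hS.card_eq.ge).trans
        (iSup₂_le fun a ha => fun d hd => ?_)
      obtain ⟨hdQ, hda⟩ := mem_inf.mp hd
      obtain ⟨M', hM', hle⟩ := h.hyp.exists_maximal (h.hyp.gen (x * n) (a * d))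
      have h1 := zpowers_le.mpr (hle (subset_closure (Set.mem_insert (x * n) _)))
      have h2 := zpowers_le.mpr
        (hle (subset_closure (Set.mem_insert_of_mem (x * n) (Set.mem_singleton (a * d)))))
      haveI := Fact.mk (show Nat.Prime 5 by norm_num)
      have hxn := mem_zpowers_mul_of_coprime hnx.symm (coprime_orderOf_of_pGroup (q := 5) (r := 2)
        (by norm_num) (hp5 ▸ h.isPGroup) hR (mem_zpowers x) hn)
      have had := mem_zpowers_mul_of_coprime
        (show Commute a d from (mem_centralizer_singleton_iff.mp hda).symm)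
        (coprime_orderOf_of_pGroup (by norm_num) hD.isPGroup hQp ha.1 hdQ)
      have hxM' : x ∈ M' := h1 hxn.1
      set D₁ := M' ⊓ D
      have hD₁ : D₁ = D := by
        refine hS.eq_of_moved D₁ inf_le_right
          (inf_normalizer_le_normalizer_inf ⟨le_normalizer hxM', hD.inv⟩) fun hc => ?_
        exact ha.2 (hS.fix_le ⟨ha.1, mem_centralizer_singleton_iff.mpr
          (mem_centralizer_iff.mp hc a ⟨h2 had.1, ha.1⟩)⟩)
      have hDM' : D ≤ M' := hD₁.ge.trans inf_le_left
      have hnD' : n ∉ D := fun e => hnD (hS.fix_le ⟨e, mem_centralizer_singleton_iff.mpr hnx.eq⟩)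
      have hlt : D < M' ⊓ R := lt_of_le_of_ne (le_inf hDM' hDR) fun e =>
        hnD' (e.ge ⟨h1 hxn.2, hn⟩)
      have hxR' : x ∈ normalizer ((M' ⊓ R : Subgroup G) : Set G) :=
        inf_normalizer_le_normalizer_inf ⟨le_normalizer hxM', hxR⟩
      have hHi := h.isHi_of_le hL.ntriv hM' hxM' hD hlt.le (hR.to_le inf_le_right) inf_le_left hxR'
        (h.hasRank3_of_lt hp5 hD (hR.to_le inf_le_right) hxR' hlt)
      rw [← h.hi_eq_of_common hp5 hHi hL hD hDM' (hDR.trans hRL)]
      exact h2 had.2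
    · have hΦel : Cfsg.IsElementaryAbelian 2 (phiSub D) :=
        ⟨le_centralizer_iff_isMulCommutative.mp ((phiSub_le D).trans hS.central),
          fun z hz => by rw [pow_two]; exact hS.sq_one z hz⟩
      haveI := hΦel.1
      refine Coprime.le_of_forall_inf_centralizer_le
        (not_isCyclic_of_elab hΦel (le_trans (by norm_num) h4)) ((phiSub_le D).trans hDQ)
        (coprime_card_of_elab hΦel ?_) fun z hz hz1 => ?_
      · obtain ⟨j, hj⟩ := IsPGroup.iff_card.mp hQp
        rw [hj]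
        exact fun hd => absurd (Nat.prime_two.dvd_of_dvd_pow hd) (by norm_num)
      · obtain ⟨N, hN', hle⟩ := h.hyp.exists_maximal (h.hyp.centralizer_ne_top (a := z) hz1)
        obtain ⟨hHi, hDN⟩ :=
          h.isHi_over_centralizer hp5 hL.ntriv hD hlow hR hxR hDR hR3 hz hz1 hN' hle
        exact inf_le_right.trans (hle.trans (h.hi_eq_of_common hp5 hHi hL hD hDN (hDR.trans hRL)).le)
  have hML : M ≤ L := (h.le_sup_normalizer hp5 hM.1 hxM hD hDM hlowM).trans
    (sup_le hQL (inf_le_right.trans hN))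
  exact hne ((hM.le_iff.mp hML).resolve_left hL.coatom.1).symm

/-- An object of the high member all of whose subobjects determine it. -/
theorem exists_hook : ∃ A, IsObj p x 2 A ∧ A ≤ L ∧ ∀ D ≤ A, IsObj p x 2 D → Det x L D := by
  haveI : Fact (Nat.Prime 2) := ⟨Nat.prime_two⟩
  obtain ⟨R, hR, hRL, hxR, hmv, hR3⟩ := hL.high
  by_cases hpoor : ∃ D ≤ R, IsObj p x 2 D ∧ ¬ HasRank3 2 D ∧
      R ⊓ centralizer ({x} : Set G) ≤ phiSub D ∧ Nat.card (phiSub D) ≤ 2
  · obtain ⟨D, hDR, hD, hlow, hfix, h2⟩ := hpoor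
    obtain ⟨A, hAR, hxA, hAmv, hall⟩ := exists_sub_all_high (h.pow_five hp5) hR hxR hDR hD.inv
      (obj_moved hD) hlow hR3 hfix h2
    obtain ⟨hobj, hle⟩ := h.obj_of_moved Nat.prime_two h.two_ne (hR.to_le hAR) hxA hAmv
    exact ⟨_, hobj, hle.trans (hAR.trans hRL), fun D' hD' hD'o => h.det_of_high hp5 hL hD'o
      (hD'.trans (hle.trans (hAR.trans hRL))) (hall D' (hD'.trans hle) hD'o.inv (obj_moved hD'o))⟩
  · push Not at hpoor
    obtain ⟨hobj, hle⟩ := h.obj_of_moved Nat.prime_two h.two_ne hR hxR hmv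
    refine ⟨_, hobj, hle.trans hRL, fun D hD hDo => ?_⟩
    by_cases h3 : HasRank3 2 D
    · exact h.det_of_high hp5 hL hDo (hD.trans (hle.trans hRL)) h3
    refine h.det_of_free hp5 hL hDo h3 hR hxR (hD.trans hle) hR3 hRL ?_
    by_cases hfix : R ⊓ centralizer ({x} : Set G) ≤ phiSub D
    · refine Or.inr ?_
      have h2 := hpoor D (hD.trans hle) hDo h3 hfix
      obtain ⟨k, hk⟩ := IsPGroup.iff_card.mp (hDo.isPGroup.to_le (phiSub_le D))
      rw [hk] at h2 ⊢
      exact (Nat.pow_le_pow_right (n := 2) (by norm_num) (show 2 ≤ k by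
        by_contra hk1
        have := Nat.pow_le_pow_right (n := 2) (by norm_num) (show k ≤ 1 by omega)
        omega)).trans' (by norm_num)
    · obtain ⟨n, hn, hnD⟩ := SetLike.not_le_iff_exists.mp hfix
      exact Or.inl ⟨n, hn.1, mem_centralizer_singleton_iff.mp hn.2, hnD⟩

theorem hi_centralizer_le : centralizer ({x} : Set G) ≤ L := by
  obtain ⟨A, hA, hAL, hdet⟩ := h.exists_hook hp5 hL
  intro c hc
  have hc' : c ∈ normalizer ((zpowers x : Subgroup G) : Set G) :=
    centralizer_le_normalizer _ (centralizer_singleton_eq x ▸ hc)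
  obtain ⟨d, hd, hdx⟩ : ∃ d ∈ A, ¬ Commute d x := by
    by_contra! hh
    exact obj_moved hA (mem_centralizer_iff.mpr fun d hd => (hh d hd).eq)
  obtain ⟨M, hM, hxM, hcM, hJ⟩ := h.exists_coatom_commutator hA.inv
    (h.not_dvd_of_isPGroup hA.prime hA.ne hA.isPGroup) hd hc'
  have hwM : d⁻¹ * x * d ∈ M := hJ (subset_closure (Set.mem_insert_of_mem _ rfl))
  have hu : ⁅x, d⁻¹ * x * d⁆ ∈ A := by
    simpa using comm_conj_mem (x := x) hA.inv hA.inv (Commute.refl x) (inv_mem hd)
  have hu1 : ⁅x, d⁻¹ * x * d⁆ ≠ 1 := fun e => hdx <| by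
    have h1 := h.commute_of_commute_conj hA.prime hA.ne hA.isPGroup hA.inv (inv_mem hd)
      (by rw [inv_inv]; exact (commutatorElement_eq_one_iff_commute.mp e).symm)
    simpa using h1.inv_left
  obtain ⟨hobj, hle, -⟩ := h.inter_obj hA.prime hA.ne hA.isPGroup hA.inv hxM hwM hu hu1
  exact (hdet _ (hle.trans inf_le_right) hobj M hM hxM (hle.trans inf_le_left)).le hcM

/-- An invariant Sylow 2-subgroup of `O_{p'}(L)` for two commuting elements is moved. -/
theorem exists_inv_sylow {y : G} (hyL : y ∈ L) (hxy : Commute x y) (hyp : y ^ p = 1) :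
    ∃ S : Sylow 2 ↥(core' p L),
      x ∈ normalizer (((S : Subgroup ↥(core' p L)).map (core' p L).subtype : Subgroup G) : Set G) ∧
      y ∈ normalizer (((S : Subgroup ↥(core' p L)).map (core' p L).subtype : Subgroup G) : Set G) ∧
      x ∉ centralizer
        (((S : Subgroup ↥(core' p L)).map (core' p L).subtype : Subgroup G) : Set G) := by
  haveI : Fact (Nat.Prime 2) := ⟨Nat.prime_two⟩
  obtain ⟨A, hA, hAL, -⟩ := h.exists_hook hp5 hL
  have hn : L ≤ normalizer (core' p L : Set G) :=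
    le_normalizer.trans (normalizer_le_normalizer_core' p L)
  set B := zpowers x ⊔ zpowers y
  have hB : IsPGroup p B := by
    refine h.isPGroup.to_sup_of_normal_left' ?_ ?_
    · intro g
      obtain ⟨k, hk⟩ := mem_zpowers_iff.mp g.2
      refine ⟨1, Subtype.ext ?_⟩
      rw [pow_one, SubgroupClass.coe_pow, ← hk, ← zpow_natCast, ← zpow_mul, mul_comm, zpow_mul,
        zpow_natCast, hyp, one_zpow, OneMemClass.coe_one]
    · refine zpowers_le.mpr (centralizer_le_normalizer _ (mem_centralizer_iff.mpr ?_))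
      intro g hg
      obtain ⟨k, rfl⟩ := mem_zpowers_iff.mp hg
      exact (hxy.zpow_left k).eq
  have hcop : (Nat.card B).Coprime (Nat.card ↥(core' p L)) := by
    obtain ⟨k, hk⟩ := IsPGroup.iff_card.mp hB
    rw [hk]
    exact ((card_core'_coprime p L).symm).pow_left k
  obtain ⟨P, hP⟩ := Coprime.exists_invariant_sylow
    ((sup_le (zpowers_le.mpr hL.mem) (zpowers_le.mpr hyL)).trans hn) hcop
    (Or.inl (haveI := hB.isNilpotent; inferInstance)) 2
  refine ⟨P, hP (mem_sup_left (mem_zpowers x)), hP (mem_sup_right (mem_zpowers y)), fun hc => ?_⟩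
  obtain ⟨S, hAS, hS⟩ := h.exists_sylow_obj hA hL.coatom.1 hL.mem hAL
  obtain ⟨k, hk, hkx, he⟩ := h.exists_conj_fixed hL.mem P S (hP (mem_sup_left (mem_zpowers x))) hS
  refine obj_moved hA (mem_centralizer_iff.mpr fun a ha => ?_)
  obtain ⟨v, hv, rfl⟩ := he.ge (hAS ha)
  have h1 : Commute v x := mem_centralizer_iff.mp hc v hv
  exact ((hkx.mul_left h1).mul_left hkx.inv_left).eq

theorem hi_carrier_subset : carrier x ⊆ L := by
  haveI : Fact (Nat.Prime 2) := ⟨Nat.prime_two⟩
  intro n hn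
  set y := n * x * n⁻¹ with hy
  have hyL : y ∈ L := h.hi_centralizer_le hp5 hL (mem_centralizer_singleton_iff.mpr hn.eq)
  have hyp : y ^ p = 1 := by rw [hy, conj_pow, h.pow_eq, mul_one, mul_inv_cancel]
  set L₁ := L.map (MulAut.conj n).toMonoidHom
  have hco₁ : IsCoatom L₁ :=
    (OrderIso.isCoatom_iff (MulEquiv.mapSubgroup (MulAut.conj n)) L).mpr hL.coatom
  have hL1 : centralizer ({y} : Set G) ≤ L₁ := by
    intro c hc
    refine ⟨n⁻¹ * c * n, h.hi_centralizer_le hp5 hL (mem_centralizer_singleton_iff.mpr ?_),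
      by simp [mul_assoc]⟩
    have := (show Commute c y from mem_centralizer_singleton_iff.mp hc).map
      (MulAut.conj n⁻¹).toMonoidHom
    rw [hy] at this
    simp only [MulEquiv.coe_toMonoidHom, MulAut.conj_apply, inv_inv] at this
    rw [show n⁻¹ * (n * x * n⁻¹) * n = x by group] at this
    exact this.eq
  have hxL1 : x ∈ L₁ := hL1 (mem_centralizer_singleton_iff.mpr hn.symm.eq)
  have finish : L₁ = L → n ∈ L := fun he =>
    (h.coatom_normalizer_eq hL.coatom hL.mem).le (mem_normalizer_iff_map_conj_eq.mpr he)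
  obtain ⟨S, hxU, hyU, hmv⟩ := h.exists_inv_sylow hp5 hL hyL hn.symm hyp
  set U := (S : Subgroup ↥(core' p L)).map (core' p L).subtype
  have hUp : IsPGroup 2 U := S.2.map _
  have hUL : U ≤ L := (map_subtype_le _).trans (core'_le p L)
  obtain ⟨hA1, hA1U⟩ := h.obj_of_moved Nat.prime_two h.two_ne hUp hxU hmv
  by_cases hdet : ∀ D ≤ U, IsObj p x 2 D → Det x L D
  · by_cases hall : ∀ e ∈ U, Commute (e * y * e⁻¹) x
    · have hAy : ⁅U, zpowers x⁆ ≤ centralizer ({y} : Set G) := by
        rw [commutator_le]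
        intro e he g hg
        obtain ⟨k, rfl⟩ := mem_zpowers_iff.mp hg
        have h2 : Commute y (e * x ^ k * e⁻¹) := by
          have h3 := (hall e⁻¹ (inv_mem he)).map (MulAut.conj e).toMonoidHom
          simp only [MulEquiv.coe_toMonoidHom, MulAut.conj_apply, inv_inv] at h3
          rw [show e * (e⁻¹ * y * e) * e⁻¹ = y by group] at h3
          have := h3.zpow_right k
          rwa [conj_zpow] at this
        refine mem_centralizer_singleton_iff.mpr ?_
        rw [commutatorElement_def]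
        exact (h2.mul_right (hn.zpow_right k).inv_right).symm.eq
      exact finish (hdet _ hA1U hA1 L₁ hco₁ hxL1 (hAy.trans hL1))
    · push Not at hall
      obtain ⟨e, he, hne⟩ := hall
      obtain ⟨M, hM, hxM, hgM, hgxM⟩ := h.exists_coatom_conj (c := (1 : G)) (one_mem _) (e * n)⁻¹
      have heyM : e * y * e⁻¹ ∈ M := by
        rw [inv_inv] at hgxM
        simpa [hy, mul_assoc] using hgxM
      obtain ⟨hobj, hle, -⟩ := h.inter_obj Nat.prime_two h.two_ne hUp hxU hxM heyM
        (comm_conj_mem hxU hyU hn.symm he)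
        (fun e' => hne (commutatorElement_eq_one_iff_commute.mp e').symm)
      have h2 : e * n ∈ L := by
        rw [← hdet _ (hle.trans inf_le_right) hobj M hM hxM (hle.trans inf_le_left)]
        simpa using inv_mem hgM
      have h3 := mul_mem (inv_mem (hUL he)) h2
      rwa [inv_mul_cancel_left] at h3
  · push Not at hdet
    obtain ⟨D, hDU, hD, hnd⟩ := hdet
    have hDlow : ¬ HasRank3 2 D := fun h3 => hnd (h.det_of_high hp5 hL hD (hDU.trans hUL) h3)
    have hSD := low_spec (h.pow_five hp5) hD.isPGroup hDlow hD.inv (obj_moved hD)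
    -- `U` has rank three
    have hU3 : HasRank3 2 U := by
      by_contra hU3
      have hDU' : D = U :=
        (low_spec (h.pow_five hp5) hUp hU3 hxU hmv).eq_of_moved D hDU hD.inv (obj_moved hD)
      obtain ⟨R, hR, hRL, hxR, hDR, hR3⟩ :=
        h.exists_high_ge hp5 hL.coatom.1 hL.mem hL.high hD (hDU.trans hUL)
      refine hnd (h.det_of_free hp5 hL hD hDlow hR hxR hDR hR3 hRL (Or.inl ?_))
      obtain ⟨hRo, hRR⟩ := h.obj_of_moved Nat.prime_two h.two_ne hR hxR fun hc =>
        obj_moved hD (centralizer_le hDR hc)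
      obtain ⟨T, hRT, hT⟩ := h.exists_sylow_obj hRo hL.coatom.1 hL.mem (hRR.trans hRL)
      obtain ⟨k, -, -, he⟩ := h.exists_conj_fixed hL.mem T S hT hxU
      have hlowT : ¬ HasRank3 2 ⁅R, zpowers x⁆ := fun h3 =>
        hU3 (((h3.mono hRT).conj k).mono he.le)
      have hRe : D = ⁅R, zpowers x⁆ :=
        (low_spec (h.pow_five hp5) hRo.isPGroup hlowT hRo.inv (obj_moved hRo)).eq_of_moved D
          (hD.eq.ge.trans (commutator_mono hDR le_rfl)) hD.inv (obj_moved hD)
      by_contra! hfix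
      refine hDlow (hR3.mono ?_)
      refine (Coprime.commutator_sup_centralizer (zpowers_le.mpr hxR)
        (h.coprime (h.not_dvd_of_isPGroup Nat.prime_two h.two_ne hR))
        (Or.inl (isSolvable_zpowers' x))).ge.trans (sup_le hRe.ge fun c hc => ?_)
      exact phiSub_le D (hfix c hc.1
        (mem_centralizer_iff.mp hc.2 x (mem_zpowers x)).symm)
    -- a poor object
    have hpoor : U ⊓ centralizer ({x} : Set G) ≤ phiSub D ∧ Nat.card (phiSub D) < 4 := by
      refine ⟨fun c hc => ?_, ?_⟩ <;> by_contra hh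
      · exact hnd (h.det_of_free hp5 hL hD hDlow hUp hxU hDU hU3 hUL
          (Or.inl ⟨c, hc.1, mem_centralizer_singleton_iff.mp hc.2, hh⟩))
      · exact hnd (h.det_of_free hp5 hL hD hDlow hUp hxU hDU hU3 hUL (Or.inr (by omega)))
    obtain ⟨z, hz, hz1⟩ := exists_phiSub_ne_one hD.isPGroup hSD hDlow
    have hzx : Commute z x := mem_centralizer_singleton_iff.mp (hSD.fixed hz)
    have hzy : Commute z y := by
      have hw : y * z * y⁻¹ ∈ phiSub D := hpoor.1 ⟨(mem_normalizer_iff.mp hyU z).mp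
        (hDU (phiSub_le D hz)), mem_centralizer_singleton_iff.mpr
          ((hn.symm.mul_right hzx.symm).mul_right hn.symm.inv_right).symm.eq⟩
      have hw1 : y * z * y⁻¹ ≠ 1 := fun e => hz1 (by
        rwa [mul_inv_eq_one, mul_eq_left] at e)
      by_contra hne
      have hne' : y * z * y⁻¹ ≠ z := fun e => hne (mul_inv_eq_iff_eq_mul.mp e).symm
      have h3 : ({1, z, y * z * y⁻¹} : Set G).ncard = 3 :=
        Set.ncard_eq_three.mpr ⟨1, z, y * z * y⁻¹, Ne.symm hz1, Ne.symm hw1, Ne.symm hne', rfl⟩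
      have := Set.ncard_le_ncard (s := ({1, z, y * z * y⁻¹} : Set G)) (t := (phiSub D : Set G)) (by
        rintro g (rfl | rfl | rfl)
        · exact one_mem _
        · exact hz
        · exact hw) (Set.toFinite _)
      rw [h3, ← Nat.card_coe_set_eq, SetLike.coe_sort_coe] at this
      obtain ⟨k, hk⟩ := IsPGroup.iff_card.mp (hD.isPGroup.to_le (phiSub_le D))
      have h4 := hpoor.2
      rw [hk] at this h4
      have : k < 2 := (Nat.pow_lt_pow_iff_right (a := 2) (by norm_num)).mp (by simpa using h4)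
      interval_cases k <;> simp at *
    obtain ⟨N, hN, hNle⟩ := h.hyp.exists_maximal (h.hyp.centralizer_ne_top (a := z) hz1)
    have hCz : centralizer ({z} : Set G) ≤ L := by
      obtain ⟨hHi, hDN⟩ :=
        h.isHi_over_centralizer hp5 hL.ntriv hD hDlow hUp hxU hDU hU3 hz hz1 hN hNle
      exact hNle.trans (h.hi_eq_of_common hp5 hHi hL hD hDN (hDU.trans hUL)).le
    by_cases hyc : y ∈ centralizer (U : Set G)
    · have hUL1 : U ≤ L₁ := fun u hu => hL1 (mem_centralizer_singleton_iff.mpr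
        (mem_centralizer_iff.mp hyc u hu))
      exact finish (h.hi_eq_of_common hp5 (h.isHi_of_le hL.ntriv hco₁ hxL1 hD hDU hUp hUL1 hxU hU3)
        hL hD (hDU.trans hUL1) (hDU.trans hUL))
    have h' : Ctx G p y := h.conj n
    have hLy : IsHi y L := ⟨hL.coatom, hyL, hL.ntriv, U, hUp, hUL, hyU, hyc, hU3⟩
    have hyL1 : y ∈ L₁ := ⟨x, hL.mem, rfl⟩
    obtain ⟨R, hR, hRL, hxR, hmvR, hR3⟩ := hL.high
    set R₁ := R.map (MulAut.conj n).toMonoidHom
    have hyR₁ : y ∈ normalizer (R₁ : Set G) := le_normalizer_map _ ⟨x, hxR, rfl⟩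
    have hmvR₁ : y ∉ centralizer (R₁ : Set G) := fun hc => hmvR (mem_centralizer_iff.mpr fun r hr => by
      have h1 : Commute ((MulAut.conj n) r) ((MulAut.conj n) x) :=
        mem_centralizer_iff.mp hc _ ⟨r, hr, rfl⟩
      exact (MulAut.conj n).injective (by rw [map_mul, map_mul]; exact h1.eq))
    have hL1y : IsHi y L₁ := ⟨hco₁, hyL1, hL.ntriv, R₁, hR.map _, map_mono hRL, hyR₁, hmvR₁,
      hR3.conj n⟩
    obtain ⟨hA2, hA2R⟩ := h'.obj_of_moved Nat.prime_two h'.two_ne (hR.map _) hyR₁ hmvR₁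
    obtain ⟨A3, hA3, hA3L1, hA3z⟩ := h'.exists_obj_centralizer hco₁.1 hyL1 hA2
      (hA2R.trans (map_mono hRL)) (hL1 (mem_centralizer_singleton_iff.mpr hzy.eq))
      (hSD.sq_one z hz) hzy
    exact finish (h'.hi_eq_of_common hp5 hL1y hLy hA3 hA3L1 (hA3z.trans hCz))

theorem hi_big : Big x L := ⟨hL.coatom, h.hi_carrier_subset hp5 hL⟩

/-- There is at most one high member. -/
theorem hi_unique {L' : Subgroup G} (hL' : IsHi x L') : L = L' := by
  haveI : Fact (Nat.Prime 2) := ⟨Nat.prime_two⟩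
  obtain ⟨R, hR, hRL, -, -, E, hER, hE⟩ := id hL.high
  obtain ⟨R', hR', hRL', -, -, E', hER', hE'⟩ := id hL'.high
  obtain ⟨S, hS⟩ := (hR.to_le hER).exists_le_sylow
  obtain ⟨S', hS'⟩ := (hR'.to_le hER').exists_le_sylow
  obtain ⟨g, hg⟩ := MulAction.exists_smul_eq G S S'
  have hEg : E.map (MulAut.conj g).toMonoidHom ≤ S' := by
    rw [← hg, Sylow.coe_subgroup_smul]
    exact map_mono hS
  have key : L' = L.map (MulAut.conj g).toMonoidHom := by
    rw [h.hi_eq_normalizer_W hp5 hL hE (hER.trans hRL),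
      h.hi_eq_normalizer_W hp5 hL' hE' (hER'.trans hRL'),
      h.hyp.W_eq_of_pGroup S'.2 hE' (IsElem3.conj hE g) hS' hEg,
      MinTwoGen.W_conj (fun a ha ha1 => IsElem3.point hE ha ha1) g]
    exact (map_equiv_normalizer_eq _ (MulAut.conj g)).symm
  obtain ⟨w, hw, hwx⟩ := key.le hL'.mem
  have hgx : g⁻¹ * x * (g⁻¹)⁻¹ ∈ L := by
    have : w = g⁻¹ * x * g := by rw [← hwx]; simp [mul_assoc]
    rw [inv_inv, ← this]; exact hw
  have hgL : g ∈ L := by
    simpa using inv_mem (h.mem_of_conj_mem_big (h.hi_big hp5 hL) hgx)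
  rw [key]
  exact (mem_normalizer_iff_map_conj_eq.mp (le_normalizer hgL)).symm

/-- The high member contains every 2-object. -/
theorem obj_le_hi {B : Subgroup G} (hB : IsObj p x 2 B) : B ≤ L := by
  haveI : Fact (Nat.Prime 2) := ⟨Nat.prime_two⟩
  by_contra hBL
  have hlow : ¬ HasRank3 2 B := fun h3 => by
    obtain ⟨N, hN, hle⟩ := h.hyp.exists_maximal
      (h.hyp.normalizer_ne_top hB.ne_bot (h.hyp.ne_top_of_isPGroup hB.isPGroup))
    have hBN := le_normalizer.trans hle
    exact hBL (hBN.trans (h.hi_unique hp5 hL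
      (h.isHi_of_le hL.ntriv hN (hle hB.inv) hB le_rfl hB.isPGroup hBN hB.inv h3)).ge)
  have hS := low_spec (h.pow_five hp5) hB.isPGroup hlow hB.inv (obj_moved hB)
  obtain ⟨z, hz, hz1⟩ := exists_phiSub_ne_one hB.isPGroup hS hlow
  have hzx : Commute z x := mem_centralizer_singleton_iff.mp (hS.fixed hz)
  obtain ⟨A, hA, hAL, -⟩ := h.exists_hook hp5 hL
  have hCL := h.hi_centralizer_le hp5 hL
  obtain ⟨A', hA', hA'L, hA'z⟩ := h.exists_obj_centralizer hL.coatom.1 hL.mem hA hAL
    (hCL (mem_centralizer_singleton_iff.mpr hzx.eq)) (hS.sq_one z hz) hzx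
  obtain ⟨M, hM, hle⟩ := h.hyp.exists_maximal (h.hyp.centralizer_ne_top (a := z) hz1)
  have hxM : x ∈ M := hle (mem_centralizer_singleton_iff.mpr hzx.symm.eq)
  have hBM : B ≤ M :=
    (hS.central.trans (centralizer_le (Set.singleton_subset_iff.mpr hz))).trans hle
  have hlowM : ¬ HighIn x M := fun hh =>
    hBL (hBM.trans (h.hi_unique hp5 hL ⟨hM, hxM, hL.ntriv, hh⟩).ge)
  obtain ⟨k, -, hkx, he⟩ := h.exists_conj_obj hp5 hM.1 hxM hB hBM hlowM hA' (hA'z.trans hle)
  refine hBL (he.ge.trans ?_)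
  rintro _ ⟨a, ha, rfl⟩
  have hkL : k ∈ L := hCL (mem_centralizer_singleton_iff.mpr hkx.eq)
  exact mul_mem (mul_mem hkL (hA'L ha)) (inv_mem hkL)

end Ctx

end CfsgLib.TwoGenSolv66
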