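import Cfsg.Agent.TwoGenSolv66.PushEq

/-!
# The member over an `x`-part

* `Member p x s F M` : a maximal subgroup through `x` with an object avoiding `F`.
* `IsHub p x s F X J` : `J` contains `C(x)` and `O_{p'}` of every member with `x`-part `X`.
* `Ctx.member_eq_hub` : every such member is `J`.
* `Ctx.hub_big` : `J` contains the carrier of `x`.
-/

set_option autoImplicit false
set_option linter.unusedSectionVars false
set_option linter.unusedVariables false
set_option linter.style.haveILetI false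

open scoped commutatorElement Pointwise

namespace CfsgLib.TwoGenSolv66

open Subgroup CfsgLib.SolvSig CfsgLib.Transitivity

universe u

/-- A maximal subgroup through `x` with an object avoiding `F`. -/
def Member {G : Type*} [Group G] (p : ℕ) (x : G) (s : ℕ) (F : Finset (Subgroup G))
    (M : Subgroup G) : Prop :=
  IsCoatom M ∧ x ∈ M ∧ ∃ A, Avoids p x s F A ∧ A ≤ M

/-- A maximal subgroup for the `x`-part `X`. -/
structure IsHub {G : Type*} [Group G] (p : ℕ) (x : G) (s : ℕ) (F : Finset (Subgroup G))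
    (X J : Subgroup G) : Prop where
  coatom : IsCoatom J
  centralizer_le : centralizer ({x} : Set G) ≤ J
  core'_le : ∀ M, Member p x s F M → xPart s x M = X → core' p M ≤ J

variable {G : Type u} [Group G] [Finite G] {p : ℕ} [hp : Fact p.Prime] {x : G} {s : ℕ}
  {F : Finset (Subgroup G)}

omit [Finite G] hp in
theorem core_map_equiv (s : ℕ) (e : G ≃* G) (J : Subgroup G) :
    core s (J.map e.toMonoidHom) = (core s J).map e.toMonoidHom := by
  have key : ∀ (e : G ≃* G) (J : Subgroup G),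
      (core s J).map e.toMonoidHom ≤ core s (J.map e.toMonoidHom) := fun e J =>
    le_core (map_mono (core_le s J)) ((map_mono (le_normalizer_core s J)).trans
      (le_normalizer_map _)) ((core_isPGroup s J).map _)
  refine le_antisymm ?_ (key e J)
  have hJ : (J.map e.toMonoidHom).map e.symm.toMonoidHom = J := by
    rw [map_map]
    convert Subgroup.map_id J
    ext a; simp
  intro g hg
  refine ⟨e.symm g, ?_, by simp⟩
  have := key e.symm (J.map e.toMonoidHom) ⟨g, hg, rfl⟩
  rwa [hJ] at this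

namespace Ctx

variable (h : Ctx G p x)
include h

/-- `O_s(H)` lies in `O_{p'}(H)`. -/
theorem core_le_core'' (hs : s.Prime) (hne : s ≠ p) (H : Subgroup G) : core s H ≤ core' p H := by
  haveI := Fact.mk hs
  refine le_core' (core_le s H) (le_normalizer_core s H) ?_
  obtain ⟨k, hk⟩ := IsPGroup.iff_card.mp (core_isPGroup s H)
  rw [hk]
  exact ((Nat.coprime_primes hs hp.out).mpr hne).pow_left k

/-- An element carrying `x` by a commutator into a big subgroup lies in it. -/
theorem mem_of_commutator_mem_big {L : Subgroup G} (hL : Big x L) {w : G} (hw : ⁅x, w⁆ ∈ L) :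
    ∀ g : G, w = g * x * g⁻¹ → g ∈ L := by
  rintro g rfl
  refine h.mem_of_conj_mem_big hL (h.mem_of_conj_mem_big hL ?_)
  have h1 := inv_mem (mul_mem (inv_mem hL.mem) hw)
  rwa [show (x⁻¹ * ⁅x, g * x * g⁻¹⁆)⁻¹ = g * x * g⁻¹ * x * (g * x * g⁻¹)⁻¹ by
    rw [commutatorElement_def]; group] at h1

variable (hS : Setup p x s F)
include hS

theorem member_typed {M : Subgroup G} (hM : Member p x s F M) : Typed p x s M :=
  hS.cls M hM.1 hM.2.1 hM.2.2

/-- The `x`-part of a member is an avoiding object. -/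
theorem xPart_avoids {M : Subgroup G} (hM : Member p x s F M) :
    Avoids p x s F (xPart s x M) ∧ xPart s x M ≤ M := by
  obtain ⟨hco, hxM, A, hA, hAM⟩ := id hM
  have hAX : A ≤ xPart s x M := hA.1.eq.ge.trans
    ((h.member_typed hS hM).le_part A hA.1.isPGroup hAM hA.1.inv)
  have hmv : x ∉ centralizer (core s M : Set G) := fun hc => obj_moved hA.1
    (centralizer_le (s := (A : Set G)) (fun a ha => xPart_le hxM (hAX ha)) hc)
  obtain ⟨hobj, hle⟩ := h.obj_of_moved hS.weak.prime hS.weak.ne (core_isPGroup s M)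
    (le_normalizer_core s M hxM) hmv
  exact ⟨hA.mono hobj hAX, hle.trans (core_le s M)⟩

theorem pureT_xPart {M : Subgroup G} (hM : Member p x s F M) : PureT p x s F (xPart s x M) :=
  ⟨(h.xPart_avoids hS hM).1.1.isPGroup, (h.xPart_avoids hS hM).1.1.inv, _,
    (h.xPart_avoids hS hM).1, le_rfl⟩

/-- A commutator outside `F` in an invariant group gives an avoiding object. -/
theorem exists_avoids_inter {U M : Subgroup G} (hU : IsPGroup s U)
    (hxU : x ∈ normalizer (U : Set G)) (hxM : x ∈ M) {w g : G} (hwM : w ∈ M)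
    (hu : ⁅x, w⁆ ∈ U) (hu1 : ⁅x, w⁆ ≠ 1) (hwg : w = g * x * g⁻¹) (hg : ∀ L ∈ F, g ∉ L) :
    ∃ B, Avoids p x s F B ∧ B ≤ M ∧ B ≤ U := by
  obtain ⟨hobj, hle, hmem⟩ := h.inter_obj hS.weak.prime hS.weak.ne hU hxU hxM hwM hu hu1
  exact ⟨_, ⟨hobj, fun L hL hBL => hg L hL
    (h.mem_of_commutator_mem_big (hS.big L hL) (hBL hmem) g hwg)⟩,
    hle.trans inf_le_left, hle.trans inf_le_right⟩

/-- `C(x)` normalises the `x`-part of a member. -/
theorem centralizer_le_normalizer_xPart {M : Subgroup G} (hM : Member p x s F M) :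
    centralizer ({x} : Set G) ≤ normalizer (xPart s x M : Set G) := by
  obtain ⟨hXa, hXM⟩ := h.xPart_avoids hS hM
  set X := xPart s x M with hXd
  intro c hc
  obtain ⟨d, hd, hdx, hdL⟩ := h.exists_avoid hXa.1.prime hXa.1.ne hXa.1.isPGroup hXa.1.inv
    (obj_moved hXa.1) F hS.big hS.small hXa.2
  have hcn : c ∈ normalizer ((zpowers x : Subgroup G) : Set G) :=
    centralizer_le_normalizer _ (centralizer_singleton_eq x ▸ hc)
  obtain ⟨M', hM', hxM', hcM', hJ⟩ := h.exists_coatom_commutator hXa.1.inv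
    (h.not_dvd_of_isPGroup hXa.1.prime hXa.1.ne hXa.1.isPGroup) hd hcn
  have hwM : d⁻¹ * x * d ∈ M' := hJ (subset_closure (Set.mem_insert_of_mem _ rfl))
  have hu : ⁅x, d⁻¹ * x * d⁆ ∈ X := by
    simpa using comm_conj_mem (x := x) hXa.1.inv hXa.1.inv (Commute.refl x) (inv_mem hd)
  have hu1 : ⁅x, d⁻¹ * x * d⁆ ≠ 1 := fun e => hdx <| by
    have h1 := h.commute_of_commute_conj hXa.1.prime hXa.1.ne hXa.1.isPGroup hXa.1.inv (inv_mem hd)
      (by rw [inv_inv]; exact (commutatorElement_eq_one_iff_commute.mp e).symm)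
    simpa using h1.inv_left
  obtain ⟨B, hB, hBM', hBX⟩ := h.exists_avoids_inter hS hXa.1.isPGroup hXa.1.inv hxM' hwM hu hu1
    (g := d⁻¹) (by rw [inv_inv]) fun L hL e => hdL L hL (by simpa using inv_mem e)
  have hT : PureT p x s F B := ⟨hB.1.isPGroup, hB.1.inv, B, hB, le_rfl⟩
  have e := h.xPart_eq hS hT hM.1 hM.2.1 (hBX.trans hXM) hM' hxM' hBM'
  rw [hXd, e]
  refine CharPLocal.inf_normalizer_le_normalizer_commutator _ _
    ⟨le_normalizer_core s M' hcM', centralizer_le_normalizer _ ?_⟩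
  rw [← centralizer_singleton_eq]
  exact hc

/-- Normaliser growth: `O_s(J) ∩ M ≤ O_s(M)` gives `O_s(J) ≤ O_s(M)`. -/
theorem core_le_core_of_inf_le {J M : Subgroup G} (hM : IsCoatom M) (hxM : x ∈ M)
    (hne : core s M ≠ ⊥) (hMJ : core s M ≤ J) (hD : core s J ⊓ M ≤ core s M) :
    core s J ≤ core s M := by
  haveI := Fact.mk hS.weak.prime
  set Q₁ := core s M
  have hn : Q₁ ≤ normalizer (core s J : Set G) := hMJ.trans (le_normalizer_core s J)
  by_contra hnle
  have hlt : Q₁ < core s J ⊔ Q₁ :=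
    lt_of_le_of_ne le_sup_right fun e => hnle (le_sup_left.trans e.ge)
  have h1 := exists_gt_inf_normalizer
    ((core_isPGroup s J).to_sup_of_normal_left' (core_isPGroup s M) hn) hlt
  have hMM : normalizer (Q₁ : Set G) ≤ M := by
    rcases hM.le_iff.mp (le_normalizer_core s M) with e | e
    · exact absurd e (h.hyp.normalizer_ne_top hne (h.hyp.ne_top_of_isPGroup (core_isPGroup s M)))
    · exact e.le
  have h2 : (core s J ⊔ Q₁) ⊓ normalizer (Q₁ : Set G) ≤ Q₁ := by
    intro g hg
    obtain ⟨a, ha, c, hc, rfl⟩ := Coprime.exists_mul_of_mem_sup hn hg.1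
    refine mul_mem (hD ⟨ha, ?_⟩) hc
    have := mul_mem (hMM hg.2) (inv_mem (core_le s M hc))
    rwa [mul_inv_cancel_right] at this
  exact h1.not_ge (Nat.card_le_card_of_injective _ (inclusion_injective h2))

variable {M₀ J : Subgroup G} (hM₀ : Member p x s F M₀)
  (hJ : IsHub p x s F (xPart s x M₀) J)
include hM₀ hJ

theorem hub_member : Member p x s F J ∧ xPart s x J = xPart s x M₀ := by
  obtain ⟨hXa, hXM⟩ := h.xPart_avoids hS hM₀
  have hXJ : xPart s x M₀ ≤ J := ((xPart_le hM₀.2.1).trans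
    (h.core_le_core'' hS.weak.prime hS.weak.ne M₀)).trans (hJ.core'_le M₀ hM₀ rfl)
  have hxJ : x ∈ J := hJ.centralizer_le (self_mem_centralizer x)
  exact ⟨⟨hJ.coatom, hxJ, _, hXa, hXJ⟩,
    h.xPart_eq hS (h.pureT_xPart hS hM₀) hJ.coatom hxJ hXJ hM₀.1 hM₀.2.1 hXM⟩

/-- Every member with this `x`-part is `J`. -/
theorem member_eq_hub {M : Subgroup G} (hM : Member p x s F M)
    (hX : xPart s x M = xPart s x M₀) : M = J := by
  haveI := Fact.mk hS.weak.prime
  obtain ⟨hJm, hJX⟩ := h.hub_member hS hM₀ hJ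
  -- `O_s(J) ≤ O_s(M')` for the members `M'` with this part
  have key : ∀ M' : Subgroup G, Member p x s F M' → xPart s x M' = xPart s x M₀ →
      core s M' ≤ J ∧ core s J ≤ core s M' := by
    intro M' hM' hX'
    obtain ⟨hXa', hXM'⟩ := h.xPart_avoids hS hM'
    have hQJ : core s M' ≤ J :=
      (h.core_le_core'' hS.weak.prime hS.weak.ne M').trans (hJ.core'_le M' hM' hX')
    have hne : core s M' ≠ ⊥ := fun e => hXa'.1.ne_bot
      (le_bot_iff.mp ((xPart_le hM'.2.1).trans e.le))
    refine ⟨hQJ, h.core_le_core_of_inf_le hS hM'.1 hM'.2.1 hne hQJ ?_⟩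
    refine (h.member_typed hS hM').core_le _ ((core_isPGroup s J).to_le inf_le_left) inf_le_right
      (inf_normalizer_le_normalizer_inf
        ⟨le_normalizer_core s J hJm.2.1, le_normalizer hM'.2.1⟩)
      ((le_inf (((xPart_le hM'.2.1).trans hQJ).trans (le_normalizer_core s J))
        (hXM'.trans le_normalizer)).trans inf_normalizer_le_normalizer_inf)
      ((le_inf ((inf_le_right.trans hJ.centralizer_le).trans (le_normalizer_core s J))
        (inf_le_left.trans le_normalizer)).trans inf_normalizer_le_normalizer_inf)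
  obtain ⟨hXa, hXM⟩ := h.xPart_avoids hS hM
  obtain ⟨hQJ, hJQ⟩ := key M hM hX
  have hJne : core s J ≠ ⊥ := fun e => (h.xPart_avoids hS hJm).1.1.ne_bot
    (le_bot_iff.mp ((xPart_le hJm.2.1).trans e.le))
  have hNJ : normalizer (core s J : Set G) ≤ J := by
    rcases hJ.coatom.le_iff.mp (le_normalizer_core s J) with e | e
    · exact absurd e (h.hyp.normalizer_ne_top hJne (h.hyp.ne_top_of_isPGroup (core_isPGroup s J)))
    · exact e.le
  have hMJ : M ≤ J := by
    intro g hg
    have hgQ : g ∈ normalizer (core s M : Set G) := le_normalizer_core s M hg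
    have hxg : g⁻¹ * x * g ∈ J := by
      obtain ⟨o, ho, hc⟩ := h.exists_conj_commute hM.1.1 hM.2.1 (y := g⁻¹ * x * g)
        (isConj_iff.mpr ⟨g⁻¹, by rw [inv_inv]⟩) (mul_mem (mul_mem (inv_mem hg) hM.2.1) hg)
      have hoJ := hJ.core'_le M hM hX ho
      have h1 : o * (g⁻¹ * x * g) * o⁻¹ ∈ J :=
        hJ.centralizer_le (mem_centralizer_singleton_iff.mpr hc.eq)
      have := mul_mem (mul_mem (inv_mem hoJ) h1) hoJ
      simpa [mul_assoc] using this
    set J' := J.map (MulAut.conj g).toMonoidHom with hJ'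
    have hco : IsCoatom J' :=
      (OrderIso.isCoatom_iff (MulEquiv.mapSubgroup (MulAut.conj g)) J).mpr hJ.coatom
    have hxJ' : x ∈ J' := ⟨g⁻¹ * x * g, hxg, by simp [mul_assoc]⟩
    have hXJ' : xPart s x M ≤ J' := by
      refine (xPart_le hM.2.1).trans ?_
      rw [← mem_normalizer_iff_map_conj_eq.mp hgQ]
      exact map_mono hQJ
    have hmem' : Member p x s F J' := ⟨hco, hxJ', _, hXa, hXJ'⟩
    have hX' : xPart s x J' = xPart s x M₀ :=
      (h.xPart_eq hS (h.pureT_xPart hS hM) hco hxJ' hXJ' hM.1 hM.2.1 hXM).trans hX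
    obtain ⟨-, hle⟩ := key J' hmem' hX'
    have hcore : (core s J).map (MulAut.conj g).toMonoidHom = core s J' :=
      (core_map_equiv s (MulAut.conj g) J).symm
    refine hNJ (mem_normalizer_iff_map_conj_eq.mpr (eq_of_le_of_card_ge (hle.trans hcore.ge) ?_).symm)
    rw [card_map_of_injective (MulAut.conj g).injective]
  exact ((hM.1.le_iff.mp hMJ).resolve_left hJ.coatom.1).symm

/-- The member over an `x`-part contains the carrier of `x`. -/
theorem hub_big : Big x J := by
  haveI := Fact.mk hS.weak.prime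
  obtain ⟨hJm, hJX⟩ := h.hub_member hS hM₀ hJ
  obtain ⟨hXa, hXJ⟩ := h.xPart_avoids hS hJm
  refine ⟨hJ.coatom, fun n hn => ?_⟩
  set y := n * x * n⁻¹ with hy
  set X := xPart s x J
  have hyJ : y ∈ J := hJ.centralizer_le (mem_centralizer_singleton_iff.mpr hn.eq)
  have hyX : y ∈ normalizer (X : Set G) :=
    h.centralizer_le_normalizer_xPart hS hJm (mem_centralizer_singleton_iff.mpr hn.eq)
  -- the elements moving `x` only inside `C(y)`, modulo the Frattini subgroup
  set Φ := (frattini ↥X).map X.subtype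
  set D := X ⊓ centralizer ({y} : Set G) ⊔ Φ with hD
  have hΦX : Φ ≤ X := map_subtype_le _
  have hDX : D ≤ X := sup_le inf_le_left hΦX
  have hXXD : ⁅X, X⁆ ≤ D := by
    refine le_trans ?_ le_sup_right
    rw [← map_subtype_commutator]
    exact map_mono (Solvable.commutator_le_frattini hXa.1.isPGroup)
  have hXD : ∀ b ∈ X, ∀ t ∈ D, b⁻¹ * t * b ∈ D := fun b hb t ht => by
    rw [show b⁻¹ * t * b = ⁅b⁻¹, t⁆ * t by rw [commutatorElement_def]; group]
    exact mul_mem (hXXD (commutator_mem_commutator (inv_mem hb) (hDX ht))) ht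
  have hxy : x ∈ normalizer ((centralizer ({y} : Set G) : Subgroup G) : Set G) :=
    le_normalizer (mem_centralizer_singleton_iff.mpr hn.symm.eq)
  have hxD : x ∈ normalizer (D : Set G) := normalizer_inf_normalizer_le_normalizer_sup _ _
    ⟨inf_normalizer_le_normalizer_inf ⟨hXa.1.inv, hxy⟩,
      normalizer_le_normalizer_map_char X _ hXa.1.inv⟩
  let H : Subgroup G :=
    { carrier := {e | e ∈ X ∧ e⁻¹ * (x * e * x⁻¹) ∈ D}
      mul_mem' := fun {a b} ha hb => ⟨mul_mem ha.1 hb.1, by
        rw [show (a * b)⁻¹ * (x * (a * b) * x⁻¹) =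
          b⁻¹ * (a⁻¹ * (x * a * x⁻¹)) * b * (b⁻¹ * (x * b * x⁻¹)) by group]
        exact mul_mem (hXD b hb.1 _ ha.2) hb.2⟩
      one_mem' := ⟨one_mem _, by simp⟩
      inv_mem' := fun {a} ha => ⟨inv_mem ha.1, by
        rw [show (a⁻¹)⁻¹ * (x * a⁻¹ * x⁻¹) = (a⁻¹)⁻¹ * (a⁻¹ * (x * a * x⁻¹))⁻¹ * a⁻¹ by group]
        exact hXD a⁻¹ (inv_mem ha.1) _ (inv_mem ha.2)⟩ }
  have hxH : x ∈ normalizer (H : Set G) := LocalStructure.mem_normalizer_of_forall fun e he =>
    ⟨(mem_normalizer_iff.mp hXa.1.inv e).mp he.1, by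
      rw [show (x * e * x⁻¹)⁻¹ * (x * (x * e * x⁻¹) * x⁻¹) =
        x * (e⁻¹ * (x * e * x⁻¹)) * x⁻¹ by group]
      exact (mem_normalizer_iff.mp hxD _).mp he.2⟩
  have hfix : X ⊓ centralizer ({x} : Set G) ≤ H := fun e he => ⟨he.1, by
    rw [show x * e * x⁻¹ = e by
      rw [← mem_centralizer_singleton_iff.mp he.2, mul_inv_cancel_right], inv_mul_cancel]
    exact one_mem _⟩
  by_cases hXH : X ≤ H
  · -- `y` centralises `X`
    have hXy : X ≤ centralizer ({y} : Set G) := by
      have h1 : X ≤ D := by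
        refine hXa.1.eq.ge.trans (commutator_le.mpr fun e he g hg => ?_)
        obtain ⟨k, rfl⟩ := mem_powers_iff_mem_zpowers.mpr hg
        show ⁅e, x ^ k⁆ ∈ D
        clear hg
        induction k with
        | zero => simp
        | succ k ih =>
          rw [show ⁅e, x ^ (k + 1)⁆ = ((e⁻¹)⁻¹ * (x * e⁻¹ * x⁻¹)) * (x * ⁅e, x ^ k⁆ * x⁻¹) by
            rw [commutatorElement_def, commutatorElement_def, pow_succ']; group]
          exact mul_mem (hXH (inv_mem he)).2 ((mem_normalizer_iff.mp hxD _).mp ih)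
      have h2 : (centralizer ({y} : Set G)).subgroupOf X ⊔ frattini ↥X = ⊤ := by
        rw [← (map_injective X.subtype_injective).eq_iff, Subgroup.map_sup, subgroupOf_map_subtype,
          ← MonoidHom.range_eq_map, range_subtype, inf_comm]
        exact le_antisymm hDX h1
      exact subgroupOf_eq_top.mp (frattini_nongenerating h2)
    have hCy : centralizer ({y} : Set G) ≤ J.map (MulAut.conj n).toMonoidHom := by
      intro c hc
      refine ⟨n⁻¹ * c * n, hJ.centralizer_le (mem_centralizer_singleton_iff.mpr ?_),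
        by simp [mul_assoc]⟩
      have := (show Commute c y from mem_centralizer_singleton_iff.mp hc).map
        (MulAut.conj n⁻¹).toMonoidHom
      rw [hy] at this
      simp only [MulEquiv.coe_toMonoidHom, MulAut.conj_apply, inv_inv] at this
      rw [show n⁻¹ * (n * x * n⁻¹) * n = x by group] at this
      exact this.eq
    have hco : IsCoatom (J.map (MulAut.conj n).toMonoidHom) :=
      (OrderIso.isCoatom_iff (MulEquiv.mapSubgroup (MulAut.conj n)) J).mpr hJ.coatom
    have hxn : x ∈ J.map (MulAut.conj n).toMonoidHom :=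
      hCy (mem_centralizer_singleton_iff.mpr hn.symm.eq)
    have he : J.map (MulAut.conj n).toMonoidHom = J :=
      h.member_eq_hub hS hM₀ hJ ⟨hco, hxn, _, hXa, hXy.trans hCy⟩
        ((h.xPart_eq hS (h.pureT_xPart hS hJm) hco hxn (hXy.trans hCy) hJm.1 hJm.2.1 hXJ).trans hJX)
    exact (h.coatom_normalizer_eq hJ.coatom hJm.2.1).le (mem_normalizer_iff_map_conj_eq.mpr he)
  · obtain ⟨e, heX, heH, heL⟩ := h.exists_avoid_of_not_le hXa.1.prime hXa.1.ne hXa.1.isPGroup
      hXa.1.inv hxH hfix hXH F hS.big hS.small hXa.2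
    have hne : ¬ Commute (e * y * e⁻¹) x := fun hc => heH ⟨heX, mem_sup_left <| mem_inf.2
      ⟨mul_mem (inv_mem heX) ((mem_normalizer_iff.mp hXa.1.inv e).mp heX), by
        have h1 := hc.map (MulAut.conj e⁻¹).toMonoidHom
        simp only [MulEquiv.coe_toMonoidHom, MulAut.conj_apply, inv_inv] at h1
        rw [show e⁻¹ * (e * y * e⁻¹) * e = y by group] at h1
        rw [show e⁻¹ * (x * e * x⁻¹) = e⁻¹ * x * e * x⁻¹ by group]
        exact mem_centralizer_singleton_iff.mpr (h1.mul_right hn.inv_right).symm.eq⟩⟩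
    obtain ⟨M, hM, hxM, hgM, hgxM⟩ := h.exists_coatom_conj (c := (1 : G)) (one_mem _) (e * n)⁻¹
    have heyM : e * y * e⁻¹ ∈ M := by
      rw [inv_inv] at hgxM
      simpa [hy, mul_assoc] using hgxM
    obtain ⟨B, hB, hBM, hBX⟩ := h.exists_avoids_inter hS hXa.1.isPGroup hXa.1.inv hxM heyM
      (comm_conj_mem hXa.1.inv hyX hn.symm heX)
      (fun e' => hne (commutatorElement_eq_one_iff_commute.mp e').symm)
      (g := e * n) (by rw [hy]; group) (fun L hL he => heL L hL (by
        have := mul_mem he (inv_mem ((hS.big L hL).carrier_le hn))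
        rwa [mul_inv_cancel_right] at this))
    have hMX : xPart s x M = xPart s x M₀ :=
      (h.xPart_eq hS ⟨hB.1.isPGroup, hB.1.inv, B, hB, le_rfl⟩ hM hxM hBM hJm.1 hJm.2.1
        (hBX.trans hXJ)).trans hJX
    have hen : e * n ∈ J := by
      rw [← h.member_eq_hub hS hM₀ hJ ⟨hM, hxM, B, hB, hBM⟩ hMX]
      simpa using inv_mem hgM
    have := mul_mem (inv_mem (hXJ heX)) hen
    rwa [inv_mul_cancel_left] at this

end Ctx

end CfsgLib.TwoGenSolv66
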