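import Cfsg.Agent.TwoGenSolv66.Rank
import Cfsg.Agent.TwoGroups.FourGroupIndex

/-!
# 2-groups of rank at most two moved by an element of order five

By MacWilliams' theorem such a group has Frattini quotient of order 16, the element is fixed point
free on it and centralises the Frattini subgroup, which is central, elementary and of order at most 4.
-/

set_option autoImplicit false
set_option linter.unusedSectionVars false
set_option linter.unusedVariables false
set_option linter.style.haveILetI false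

open scoped commutatorElement

namespace CfsgLib.TwoGenSolv66

open Subgroup CfsgLib.SolvSig CfsgLib.Transitivity

universe u

/-- The Frattini subgroup of a subgroup. -/
abbrev phiSub {G : Type*} [Group G] (R : Subgroup G) : Subgroup G := (frattini ↥R).map R.subtype

/-- The structure of a 2-group of rank at most two moved by an element of order five. -/
structure LowSpec {G : Type*} [Group G] (y : G) (R : Subgroup G) : Prop where
  card_eq : Nat.card R = 16 * Nat.card (phiSub R)
  fixed : phiSub R ≤ centralizer ({y} : Set G)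
  central : R ≤ centralizer (phiSub R : Set G)
  fix_le : R ⊓ centralizer ({y} : Set G) ≤ phiSub R
  sq_one : ∀ z ∈ phiSub R, z * z = 1
  card_le : Nat.card (phiSub R) ≤ 4
  comm_eq : ⁅R, zpowers y⁆ = R
  eq_of_moved : ∀ B ≤ R, y ∈ normalizer (B : Set G) → y ∉ centralizer (B : Set G) → B = R

variable {G : Type u} [Group G] [Finite G]

theorem phiSub_le (R : Subgroup G) : phiSub R ≤ R := map_subtype_le _

theorem normalizer_le_normalizer_phiSub (R : Subgroup G) :
    normalizer (R : Set G) ≤ normalizer (phiSub R : Set G) :=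
  normalizer_le_normalizer_map_char R _

theorem commutator_mem_phiSub {R : Subgroup G} (hR : IsPGroup 2 R) {a b : G} (ha : a ∈ R)
    (hb : b ∈ R) : ⁅a, b⁆ ∈ phiSub R :=
  haveI : Fact (Nat.Prime 2) := ⟨Nat.prime_two⟩
  ⟨⁅(⟨a, ha⟩ : R), ⟨b, hb⟩⁆, Solvable.commutator_le_frattini hR
    (commutator_mem_commutator (mem_top _) (mem_top _)), map_commutatorElement R.subtype _ _⟩

theorem sq_mem_phiSub {R : Subgroup G} (hR : IsPGroup 2 R) {a : G} (ha : a ∈ R) :
    a * a ∈ phiSub R :=
  haveI : Fact (Nat.Prime 2) := ⟨Nat.prime_two⟩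
  ⟨(⟨a, ha⟩ : R) ^ 2, Solvable.pow_mem_frattini hR _, by simp [pow_two]⟩

theorem phiSub_le_of {R N : Subgroup G} (hNR : N ≤ R) (hc : ∀ a ∈ R, ∀ b ∈ R, ⁅a, b⁆ ∈ N)
    (hs : ∀ a ∈ R, a * a ∈ N) (hn : R ≤ normalizer (N : Set G)) : phiSub R ≤ N := by
  haveI : Fact (Nat.Prime 2) := ⟨Nat.prime_two⟩
  have h1 : frattini ↥R ≤ N.subgroupOf R := by
    refine CfsgLib.LocalStructure.frattini_le_of_commutator_le_of_pow_mem (p := 2) ?_ ?_
    · rw [commutator_def, commutator_le]
      exact fun a _ b _ => hc a a.2 b b.2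
    · intro a
      show ((a ^ 2 : R) : G) ∈ N
      rw [SubgroupClass.coe_pow, pow_two]
      exact hs a a.2
  rintro _ ⟨z, hz, rfl⟩
  exact h1 hz

theorem lt_of_phiSub {R : Subgroup G} (hR : IsPGroup 2 R) (hne : R ≠ ⊥) : phiSub R < R := by
  refine lt_of_le_of_ne (phiSub_le R) fun e => hne ?_
  have h1 : frattini ↥R = ⊤ := by
    rw [eq_top_iff]
    intro a _
    obtain ⟨b, hb, hba⟩ := e.ge a.2
    exact (R.subtype_injective hba) ▸ hb
  have h2 : (⊥ : Subgroup R) = ⊤ := frattini_nongenerating (by rw [h1, sup_top_eq])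
  rw [← subgroupOf_self, eq_comm, subgroupOf_eq_bot] at h2
  exact disjoint_self.mp h2

/-- The Frattini quotient of a 2-group without normal elementary subgroups of order eight. -/
theorem card_le_of_low {R : Subgroup G} (hR : IsPGroup 2 R) (hlow : ¬ HasRank3 2 R) :
    Nat.card R ≤ 16 * Nat.card (phiSub R) := by
  haveI : Fact (Nat.Prime 2) := ⟨Nat.prime_two⟩
  have h4 : Cfsg.SectionalPRankLE 2 4 ↥R := by
    refine CfsgLib.TwoGroups.FourGroup.sectionalPRankLE_four hR fun E _ hEc hE2 => ?_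
    by_contra h5
    refine hlow ⟨E.map R.subtype, map_subtype_le _,
      OddOrder.isElementaryAbelian_map _ ⟨hEc, hE2⟩, ?_⟩
    rw [card_map_of_injective R.subtype_injective]
    obtain ⟨k, hk⟩ := IsPGroup.iff_card.mp (hR.to_subgroup E)
    rw [hk] at h5 ⊢
    refine Nat.pow_le_pow_right (by norm_num) ?_
    by_contra hk3
    exact h5 (Nat.pow_le_pow_right (n := 2) (by norm_num) (by omega : k ≤ 2))
  let g := (QuotientGroup.mk' (frattini ↥R)).comp
    (Subgroup.topEquiv : (⊤ : Subgroup ↥R) ≃* ↥R).toMonoidHom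
  have hg : Function.Surjective g :=
    (QuotientGroup.mk'_surjective _).comp (Subgroup.topEquiv : (⊤ : Subgroup ↥R) ≃* _).surjective
  let q := QuotientGroup.quotientKerEquivOfSurjective g hg
  have hcm : ∀ a b : ↥R ⧸ frattini ↥R, a * b = b * a := by
    intro a b
    induction a using QuotientGroup.induction_on with
    | H a =>
    induction b using QuotientGroup.induction_on with
    | H b =>
    rw [← commutatorElement_eq_one_iff_mul_comm, ← QuotientGroup.mk'_apply,
      ← QuotientGroup.mk'_apply, ← map_commutatorElement, QuotientGroup.mk'_apply,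
      QuotientGroup.eq_one_iff]
    exact Solvable.commutator_le_frattini hR
      (Subgroup.commutator_mem_commutator (Subgroup.mem_top _) (Subgroup.mem_top _))
  have hsq : ∀ a : ↥R ⧸ frattini ↥R, a ^ 2 = 1 := by
    intro a
    induction a using QuotientGroup.induction_on with
    | H a =>
    rw [← QuotientGroup.mk_pow, QuotientGroup.eq_one_iff]
    exact Solvable.pow_mem_frattini hR a
  have hA := h4 ⊤ g.ker ⊤ ⟨⟨fun a b => Subtype.ext (q.injective (by
      simp only [Subgroup.coe_mul, map_mul]; exact hcm _ _))⟩⟩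
    (fun a _ => q.injective (by rw [map_pow, map_one]; exact hsq _))
  rw [Subgroup.card_top, Nat.card_congr q.toEquiv] at hA
  rw [card_map_of_injective R.subtype_injective, card_eq_card_quotient_mul_card_subgroup (frattini ↥R)]
  exact Nat.mul_le_mul_right _ hA

variable {y : G}

/-- A moved section over the Frattini subgroup is the whole group. -/
theorem card_of_section (hy : y ^ 5 = 1) {R B D : Subgroup G} (hR : IsPGroup 2 R)
    (hlow : ¬ HasRank3 2 R) (hBR : B ≤ R) (hDB : D ≤ B) (hΦD : phiSub R ≤ D)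
    (hyB : y ∈ normalizer (B : Set G)) (hyD : y ∈ normalizer (D : Set G))
    (hmv : ¬ ∀ c ∈ B, ⁅y, c⁆ ∈ D) : B = R ∧ D = phiSub R ∧ Nat.card R = 16 * Nat.card (phiSub R) := by
  haveI : Fact (Nat.Prime 5) := ⟨by norm_num⟩
  haveI : Fact (Nat.Prime 2) := ⟨Nat.prime_two⟩
  have hBn : B ≤ normalizer (D : Set G) := fun b hb =>
    LocalStructure.mem_normalizer_of_forall fun d hd => by
      rw [show b * d * b⁻¹ = ⁅b, d⁆ * d by rw [commutatorElement_def]; group]
      exact mul_mem (hΦD (commutator_mem_phiSub hR (hBR hb) (hBR (hDB hd)))) hd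
  obtain ⟨n, j, hc, hj, hd⟩ := exists_section_dvd (r := 2) hy (by norm_num) (hR.to_le hBR) hDB hBn
    hyD hyB hmv
  have h4 : 4 ≤ n := by
    by_contra h
    have hnj : n - j = 1 ∨ n - j = 2 ∨ n - j = 3 := by omega
    rcases hnj with e | e | e <;> rw [e] at hd <;> norm_num at hd
  have h1 := card_le_of_low hR hlow
  have h2 : Nat.card B ≤ Nat.card R := Nat.card_le_card_of_injective _ (inclusion_injective hBR)
  have h3 : Nat.card (phiSub R) ≤ Nat.card D :=
    Nat.card_le_card_of_injective _ (inclusion_injective hΦD)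
  have h16 : 16 * Nat.card D ≤ Nat.card B := by
    rw [hc]
    exact Nat.mul_le_mul_right _ (Nat.pow_le_pow_right (n := 2) (by norm_num) h4)
  refine ⟨eq_of_le_of_card_ge hBR (by omega), (eq_of_le_of_card_ge hΦD (by omega)).symm, by omega⟩

theorem isPGroup_five (hy : y ^ 5 = 1) : IsPGroup 5 (zpowers y) := fun g => ⟨1, by
  obtain ⟨k, hk⟩ := mem_zpowers_iff.mp g.2
  refine Subtype.ext ?_
  rw [SubmonoidClass.coe_pow, ← hk, OneMemClass.coe_one, pow_one, ← zpow_natCast, ← zpow_mul,
    mul_comm, zpow_mul, zpow_natCast, hy, one_zpow]⟩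

theorem coprime_five (hy : y ^ 5 = 1) {R : Subgroup G} (hR : IsPGroup 2 R) :
    (Nat.card (zpowers y)).Coprime (Nat.card R) :=
  haveI : Fact (Nat.Prime 5) := ⟨by norm_num⟩
  haveI : Fact (Nat.Prime 2) := ⟨Nat.prime_two⟩
  coprime_zpowers hy (by norm_num) hR

theorem low_spec (hy : y ^ 5 = 1) {R : Subgroup G} (hR : IsPGroup 2 R) (hlow : ¬ HasRank3 2 R)
    (hn : y ∈ normalizer (R : Set G)) (hmv : y ∉ centralizer (R : Set G)) : LowSpec y R := by
  haveI : Fact (Nat.Prime 5) := ⟨by norm_num⟩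
  haveI : Fact (Nat.Prime 2) := ⟨Nat.prime_two⟩
  induction hN : Nat.card R using Nat.strong_induction_on generalizing R with
  | _ N ih =>
  set Φ := phiSub R with hΦ
  have hΦR : Φ ≤ R := phiSub_le R
  have hyΦ : y ∈ normalizer (Φ : Set G) := normalizer_le_normalizer_phiSub R hn
  have hRΦ : R ≤ normalizer (Φ : Set G) := le_normalizer.trans (normalizer_le_normalizer_phiSub R)
  have hcop := coprime_five hy hR
  have hgen : ∀ K : Subgroup G, K ≤ R → R ≤ K ⊔ Φ → K = R := by
    intro K hK hle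
    refine le_antisymm hK ?_
    rw [← subgroupOf_eq_top]
    apply frattini_nongenerating
    rw [← (map_injective R.subtype_injective).eq_iff, Subgroup.map_sup,
      map_subgroupOf_eq_of_le hK, ← MonoidHom.range_eq_map, range_subtype]
    exact le_antisymm (sup_le hK hΦR) hle
  have hmvT : ¬ ∀ c ∈ R, ⁅y, c⁆ ∈ Φ := by
    intro hall
    refine hmv ?_
    have h1 : ⁅R, zpowers y⁆ ≤ Φ := by
      refine commutator_le.mpr fun c hc g hg => ?_
      obtain ⟨k, rfl⟩ := (isOfFinOrder_of_finite y).mem_powers_iff_mem_zpowers.mpr hg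
      show ⁅c, y ^ k⁆ ∈ Φ
      clear hg
      induction k with
      | zero => simp
      | succ k ih =>
        rw [show ⁅c, y ^ (k + 1)⁆ = (⁅y, c⁆)⁻¹ * (y * ⁅c, y ^ k⁆ * y⁻¹) by
          rw [commutatorElement_def, commutatorElement_def, commutatorElement_def, pow_succ']; group]
        exact mul_mem (inv_mem (hall c hc)) ((mem_normalizer_iff.mp hyΦ _).mp ih)
    have h2 : R ≤ (R ⊓ centralizer (zpowers y : Set G)) ⊔ Φ := by
      refine (Coprime.commutator_sup_centralizer (zpowers_le.mpr hn) hcop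
        (Or.inl (CfsgLib.SolvSig.isSolvable_zpowers y))).ge.trans (sup_le ?_ le_sup_left)
      exact h1.trans le_sup_right
    refine mem_centralizer_iff.mpr fun r hr => ?_
    exact (mem_centralizer_iff.mp ((hgen _ inf_le_left h2).ge hr).2 y (mem_zpowers y)).symm
  obtain ⟨-, -, hcard⟩ := card_of_section hy hR hlow le_rfl hΦR le_rfl hn hyΦ hmvT
  set X := ⁅R, zpowers y⁆ with hX
  have hXR : X ≤ R := Coprime.commutator_le_of_le_normalizer (zpowers_le.mpr hn)
  have hcm : ∀ a ∈ R, ∀ b ∈ R, ⁅a, b⁆ ∈ Φ := fun a ha b hb => commutator_mem_phiSub hR ha hb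
  have hsup : ∀ B ≤ R, y ∈ normalizer (B : Set G) → (¬ ∀ c ∈ B, ⁅y, c⁆ ∈ Φ) → B = R := by
    intro B hB hyB hne
    refine hgen B hB ((card_of_section hy hR hlow (sup_le hB hΦR) le_sup_right le_rfl
      (normalizer_inf_normalizer_le_normalizer_sup _ _ ⟨hyB, hyΦ⟩) hyΦ
      fun h' => hne fun c hc => h' c (mem_sup_left hc)).1.ge)
  have hXeq : X = R := by
    refine hsup X hXR (normalizer_commutator_ge_right R _ (mem_zpowers y)) fun hall => hmvT ?_
    intro c hc
    have hc' : c ∈ X ⊔ R ⊓ centralizer (zpowers y : Set G) :=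
      (Coprime.commutator_sup_centralizer (zpowers_le.mpr hn) hcop
        (Or.inl (CfsgLib.SolvSig.isSolvable_zpowers y))).ge hc
    obtain ⟨a, ha, f, hf, rfl⟩ := Coprime.exists_mul_of_mem_sup
      ((inf_le_left : R ⊓ centralizer (zpowers y : Set G) ≤ R).trans
        (normalizer_commutator_ge_left R _)) hc'
    have hfy : ⁅y, f⁆ = 1 := commutatorElement_eq_one_iff_mul_comm.mpr
      (mem_centralizer_iff.mp hf.2 y (mem_zpowers y))
    rw [commutatorElement_mul_right_eq_mul_conj, hfy, mul_one, mul_inv_cancel_right]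
    exact hall a ha
  -- the Frattini subgroup is fixed
  have hfix : Φ ≤ centralizer ({y} : Set G) := by
    by_contra hΦy
    have hmvΦ : y ∉ centralizer (Φ : Set G) := fun hc => hΦy fun d hd =>
      mem_centralizer_singleton_iff.mpr (mem_centralizer_iff.mp hc d hd)
    have hne : R ≠ ⊥ := fun e => hmv (by
      rw [e]; exact mem_centralizer_iff.mpr fun z hz => by simp [mem_bot.mp hz])
    have hlt : Nat.card Φ < N := hN ▸
      Set.ncard_lt_ncard (SetLike.coe_ssubset_coe.mpr (lt_of_phiSub hR hne)) (Set.toFinite _)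
    have hS := ih _ hlt (hR.to_le hΦR) (fun h3 => hlow (h3.mono hΦR)) hyΦ hmvΦ rfl
    set D₁ := phiSub Φ with hD₁
    have hD₁Φ : D₁ ≤ Φ := phiSub_le Φ
    have hRD₁ : R ≤ normalizer (D₁ : Set G) := hRΦ.trans (normalizer_le_normalizer_phiSub Φ)
    have hyD₁ : y ∈ normalizer (D₁ : Set G) := normalizer_le_normalizer_phiSub Φ hyΦ
    -- `R` is trivial on `Φ / Φ(Φ)`
    let E : Subgroup G :=
      { carrier := {d | d ∈ Φ ∧ ∀ r ∈ R, ⁅r, d⁆ ∈ D₁}
        one_mem' := ⟨one_mem _, fun r _ => by simp⟩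
        mul_mem' := fun {a b} ha hb => ⟨mul_mem ha.1 hb.1, fun r hr => by
          rw [commutatorElement_mul_right_eq_mul_conj]
          have := (mem_normalizer_iff.mp (hRD₁ (hΦR ha.1)) _).mp (hb.2 r hr)
          rw [mul_assoc, mul_assoc]
          refine mul_mem (ha.2 r hr) ?_
          rwa [← mul_assoc]⟩
        inv_mem' := fun {a} ha => ⟨inv_mem ha.1, fun r hr => by
          rw [show ⁅r, a⁻¹⁆ = a⁻¹ * (⁅r, a⁆)⁻¹ * a by simp only [commutatorElement_def]; group]
          have := (mem_normalizer_iff.mp (hRD₁ (hΦR (inv_mem ha.1))) _).mp (inv_mem (ha.2 r hr))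
          rwa [inv_inv] at this⟩ }
    have hEΦ : E ≤ Φ := fun d hd => hd.1
    have hyE : y ∈ normalizer (E : Set G) := LocalStructure.mem_normalizer_of_forall fun d hd => by
      refine ⟨(mem_normalizer_iff.mp hyΦ d).mp hd.1, fun r hr => ?_⟩
      have h1 := (mem_normalizer_iff.mp hyD₁ _).mp
        (hd.2 (y⁻¹ * r * y) (by simpa using (mem_normalizer_iff.mp (inv_mem hn) r).mp hr))
      rwa [show y * ⁅y⁻¹ * r * y, d⁆ * y⁻¹ = ⁅r, y * d * y⁻¹⁆ by
        simp only [commutatorElement_def]; group] at h1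
    -- a fixed point outside `Φ(Φ)`
    obtain ⟨e, heE, heD⟩ : ∃ e ∈ E, e ∉ D₁ := by
      haveI : (D₁.subgroupOf R).Normal :=
        (normal_subgroupOf_iff_le_normalizer (hD₁Φ.trans hΦR)).mpr hRD₁
      haveI : (Φ.subgroupOf R).Normal := (normal_subgroupOf_iff_le_normalizer hΦR).mpr hRΦ
      let π := QuotientGroup.mk' (D₁.subgroupOf R)
      have hne' : (Φ.subgroupOf R).map π ≠ ⊥ := fun e0 => by
        rw [Subgroup.map_eq_bot_iff, QuotientGroup.ker_mk'] at e0
        have hle : Φ ≤ D₁ := fun d hd => e0 (x := ⟨d, hΦR hd⟩) hd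
        have := hS.card_eq
        have h1 : Nat.card Φ ≤ Nat.card D₁ :=
          Nat.card_le_card_of_injective _ (inclusion_injective hle)
        have h0 : 0 < Nat.card D₁ := Nat.card_pos
        rw [← hD₁] at this
        omega
      haveI : ((Φ.subgroupOf R).map π).Normal :=
        (inferInstance : (Φ.subgroupOf R).Normal).map π (QuotientGroup.mk'_surjective _)
      obtain ⟨z, hz, hzc, hzo⟩ := OddOrder.BG4.exists_central_orderOf_prime
        (hR.of_surjective π (QuotientGroup.mk'_surjective _)) hne'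
      obtain ⟨d, hd, rfl⟩ := hz
      refine ⟨d, ⟨hd, fun r hr => ?_⟩, fun hdD => ?_⟩
      · have h1 : π ⁅(⟨r, hr⟩ : R), d⁆ = 1 := by
          rw [map_commutatorElement]
          exact commutatorElement_eq_one_iff_mul_comm.mpr (mem_center_iff.mp hzc _)
        exact (QuotientGroup.eq_one_iff (N := D₁.subgroupOf R) _).mp h1
      · have : π d = 1 := (QuotientGroup.eq_one_iff d).mpr hdD
        rw [this, orderOf_one] at hzo
        norm_num at hzo
    have hEmv : y ∉ centralizer (E : Set G) := fun hc => heD (hS.fix_le ⟨hEΦ heE,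
      mem_centralizer_singleton_iff.mpr (mem_centralizer_iff.mp hc e heE)⟩)
    have hE : E = Φ := hS.eq_of_moved E hEΦ hyE hEmv
    -- `R` centralises `Φ(Φ)`
    have hRc : R ≤ centralizer (D₁ : Set G) := by
      rw [← hXeq, ← commutator_eq_bot_iff_le_centralizer]
      refine commutator_commutator_eq_bot_of_rotate ?_ ?_
      · have : ⁅zpowers y, D₁⁆ = ⊥ := by
          rw [commutator_eq_bot_iff_le_centralizer, zpowers_le, mem_centralizer_iff]
          exact fun d hd => mem_centralizer_singleton_iff.mp (hS.fixed hd)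
        rw [this, commutator_bot_left]
      · rw [← le_bot_iff]
        refine (commutator_mono (Coprime.commutator_le_of_le_normalizer hRD₁) le_rfl).trans ?_
        rw [le_bot_iff, commutator_eq_bot_iff_le_centralizer, ← centralizer_singleton_eq]
        exact hS.fixed
    -- `Φ` is abelian
    have hab : Φ ≤ centralizer (Φ : Set G) := by
      refine phiSub_le_of (R := R) (N := R ⊓ centralizer (Φ : Set G)) inf_le_left ?_ ?_ ?_
        |>.trans inf_le_right
      · intro a ha b hb
        refine mem_inf.2 ⟨hΦR (hcm a ha b hb), mem_centralizer_iff.mpr fun d hd => ?_⟩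
        have hd' : ∀ r ∈ R, ⁅r, d⁆ ∈ D₁ := (hE.ge hd).2
        haveI : IsMulCommutative D₁ :=
          le_centralizer_iff_isMulCommutative.mp ((hD₁Φ.trans hΦR).trans hRc)
        let φ : R →* D₁ :=
          { toFun := fun r => ⟨⁅(r : G), d⁆, hd' r r.2⟩
            map_one' := Subtype.ext (by simp)
            map_mul' := fun r t => Subtype.ext (by
              show ⁅(r : G) * t, d⁆ = ⁅(r : G), d⁆ * ⁅(t : G), d⁆
              rw [commutatorElement_mul_left_of_central
                (mem_centralizer_iff.mp (hRc r.2) _ (hd' t t.2)).symm]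
              exact setLike_mul_comm (s := D₁) (hd' t t.2) (hd' r r.2)) }
        have h2 : φ ⁅(⟨a, ha⟩ : R), ⟨b, hb⟩⁆ = 1 := by
          rw [map_commutatorElement, commutatorElement_eq_one_iff_mul_comm]
          exact mul_comm' _ _
        have h3 : ⁅⁅a, b⁆, d⁆ = 1 := by
          have := congrArg Subtype.val h2
          simpa [φ, commutatorElement_def] using this
        exact (commutatorElement_eq_one_iff_mul_comm.mp h3).symm
      · intro a ha
        refine mem_inf.2 ⟨mul_mem ha ha, mem_centralizer_iff.mpr fun d hd => ?_⟩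
        have h1 : ⁅a, d⁆ ∈ D₁ := (hE.ge hd).2 a ha
        have hc : Commute a ⁅a, d⁆ := (mem_centralizer_iff.mp (hRc ha) _ h1).symm
        have h2 : ⁅a * a, d⁆ = 1 := by
          rw [commutatorElement_mul_left_of_central hc, hS.sq_one _ h1]
        exact (commutatorElement_eq_one_iff_mul_comm.mp h2).symm
      · exact (le_inf le_rfl (hRΦ.trans (CharPLocal.normalizer_le_normalizer_centralizer _))).trans
          ((inf_le_inf_right _ le_normalizer).trans inf_normalizer_le_normalizer_inf)
    haveI : IsMulCommutative Φ := le_centralizer_iff_isMulCommutative.mp hab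
    let Ω : Subgroup G :=
      { carrier := {d | d ∈ Φ ∧ d * d = 1}
        one_mem' := ⟨one_mem _, one_mul 1⟩
        mul_mem' := fun {a b} ha hb => ⟨mul_mem ha.1 hb.1, by
          rw [(show Commute a b from setLike_mul_comm (s := Φ) ha.1 hb.1).symm.mul_mul_mul_comm,
            ha.2, hb.2, one_mul]⟩
        inv_mem' := fun {a} ha => ⟨inv_mem ha.1, by rw [← mul_inv_rev, ha.2, inv_one]⟩ }
    have hΩΦ : Ω ≤ Φ := fun d hd => hd.1
    have hyΩ : y ∈ normalizer (Ω : Set G) := LocalStructure.mem_normalizer_of_forall fun d hd =>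
      ⟨(mem_normalizer_iff.mp hyΦ d).mp hd.1, by
        rw [show y * d * y⁻¹ * (y * d * y⁻¹) = y * (d * d) * y⁻¹ by group, hd.2]; group⟩
    have hΩmv : y ∉ centralizer (Ω : Set G) := by
      intro hc
      refine hmvΦ (Coprime.le_centralizer_of_forall_prime_order (zpowers_le.mpr hyΦ)
        (coprime_five hy (hR.to_le hΦR)) (fun v hv hpr => ?_) (mem_zpowers y))
      rw [← centralizer_singleton_eq]
      refine mem_centralizer_singleton_iff.mpr (mem_centralizer_iff.mp hc v ⟨hv, ?_⟩)
      obtain ⟨k, hk⟩ := (hR.to_le hΦR).exists_orderOf_eq_pow ⟨v, hv⟩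
      rw [Subgroup.orderOf_mk] at hk
      have : orderOf v = 2 :=
        (Nat.prime_dvd_prime_iff_eq hpr Nat.prime_two).mp (hpr.dvd_of_dvd_pow hk.dvd)
      rw [← pow_two, ← this, pow_orderOf_eq_one]
    refine hlow ⟨Ω, hΩΦ.trans hΦR, ⟨⟨⟨fun a b => Subtype.ext
      (setLike_mul_comm (s := Φ) a.2.1 b.2.1)⟩⟩, fun a ha => by rw [pow_two]; exact ha.2⟩,
      cube_le_card (p := 5) le_rfl (by norm_num) hy (hR.to_le (hΩΦ.trans hΦR)) hyΩ hΩmv⟩
  -- central
  have hcen : R ≤ centralizer (Φ : Set G) := by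
    rw [← hXeq, ← commutator_eq_bot_iff_le_centralizer]
    refine commutator_commutator_eq_bot_of_rotate ?_ ?_
    · have : ⁅zpowers y, Φ⁆ = ⊥ := by
        rw [commutator_eq_bot_iff_le_centralizer, zpowers_le, mem_centralizer_iff]
        exact fun d hd => mem_centralizer_singleton_iff.mp (hfix hd)
      rw [this, commutator_bot_left]
    · rw [← le_bot_iff]
      refine (commutator_mono (Coprime.commutator_le_of_le_normalizer hRΦ) le_rfl).trans ?_
      rw [le_bot_iff, commutator_eq_bot_iff_le_centralizer, ← centralizer_singleton_eq]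
      exact hfix
  have hz : ∀ z ∈ Φ, ∀ r ∈ R, Commute r z := fun z hz r hr =>
    (mem_centralizer_iff.mp (hcen hr) z hz).symm
  have hinv : ∀ a ∈ R, ∀ b ∈ R, ⁅a, b⁆ * ⁅a, b⁆ = 1 := by
    intro a ha b hb
    rw [← commutatorElement_mul_left_of_central (hz _ (hcm a ha b hb) a ha)]
    exact commutatorElement_eq_one_iff_commute.mpr (hz _ (sq_mem_phiSub hR ha) b hb).symm
  -- fourth powers are trivial
  have hfour : ∀ a ∈ R, a * a * (a * a) = 1 := by
    haveI : IsMulCommutative Φ := le_centralizer_iff_isMulCommutative.mp (hΦR.trans hcen)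
    let ψ : R →* Φ :=
      { toFun := fun a => ⟨(a : G) * a * (a * a),
          mul_mem (sq_mem_phiSub hR a.2) (sq_mem_phiSub hR a.2)⟩
        map_one' := Subtype.ext (by simp)
        map_mul' := fun a b => Subtype.ext (by
          show ((a : G) * b) * (a * b) * ((a * b) * (a * b)) = a * a * (a * a) * (b * b * (b * b))
          have hu := hcm b b.2 a a.2
          have hA := sq_mem_phiSub hR a.2
          have hB := sq_mem_phiSub hR b.2
          rw [mul_self_mul (C := R) ⟨hz _ hu a a.2, hz _ hu b b.2⟩]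
          have e : ∀ u v : G, u ∈ Φ → v ∈ Φ → u * v = v * u := fun u v hu hv =>
            setLike_mul_comm (s := Φ) hu hv
          have h1 : (a : G) * a * (b * b) * ⁅(b : G), (a : G)⁆ * (a * a * (b * b) * ⁅(b : G), (a : G)⁆) =
              a * a * (b * b) * (a * a * (b * b)) * (⁅(b : G), (a : G)⁆ * ⁅(b : G), (a : G)⁆) :=
            Commute.mul_mul_mul_comm (e _ _ hu (mul_mem hA hB)) _ _
          rw [h1, hinv b b.2 a a.2, mul_one]
          exact Commute.mul_mul_mul_comm (e _ _ hB hA) _ _) }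
    intro a ha
    have hker : R ≤ ψ.ker.map R.subtype := by
      conv_lhs => rw [← hXeq]
      refine commutator_le.mpr fun c hc g hg => ?_
      obtain ⟨k, rfl⟩ := (isOfFinOrder_of_finite y).mem_powers_iff_mem_zpowers.mpr hg
      show ⁅c, y ^ k⁆ ∈ ψ.ker.map R.subtype
      have hyk : y ^ k ∈ normalizer (R : Set G) := pow_mem hn k
      have hd : y ^ k * c⁻¹ * (y ^ k)⁻¹ ∈ R := (mem_normalizer_iff.mp hyk _).mp (inv_mem hc)
      refine ⟨⟨c, hc⟩ * ⟨_, hd⟩, ?_, by simp [commutatorElement_def, mul_assoc]⟩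
      have h1 : ψ ⟨_, hd⟩ = ψ ⟨c⁻¹, inv_mem hc⟩ := Subtype.ext (by
        show y ^ k * c⁻¹ * (y ^ k)⁻¹ * (y ^ k * c⁻¹ * (y ^ k)⁻¹) *
          (y ^ k * c⁻¹ * (y ^ k)⁻¹ * (y ^ k * c⁻¹ * (y ^ k)⁻¹)) = c⁻¹ * c⁻¹ * (c⁻¹ * c⁻¹)
        have hcom : Commute (y ^ k) (c⁻¹ * c⁻¹ * (c⁻¹ * c⁻¹)) := by
          refine (Commute.pow_right ?_ k).symm
          exact mem_centralizer_singleton_iff.mp (hfix (mul_mem (sq_mem_phiSub hR (inv_mem hc))
            (sq_mem_phiSub hR (inv_mem hc))))
        conv_rhs => rw [← mul_inv_cancel_right (c⁻¹ * c⁻¹ * (c⁻¹ * c⁻¹)) (y ^ k), ← hcom.eq]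
        group)
      rw [SetLike.mem_coe, MonoidHom.mem_ker, map_mul, h1, ← map_mul,
        show (⟨c, hc⟩ * ⟨c⁻¹, inv_mem hc⟩ : R) = 1 from Subtype.ext (mul_inv_cancel c), map_one]
    obtain ⟨b, hb, rfl⟩ := hker ha
    exact congrArg Subtype.val (MonoidHom.mem_ker.mp hb)
  let Z : Subgroup G :=
    { carrier := {d | d ∈ Φ ∧ d * d = 1}
      one_mem' := ⟨one_mem _, one_mul 1⟩
      mul_mem' := fun {a b} ha hb => ⟨mul_mem ha.1 hb.1, by
        rw [(hz _ hb.1 a (hΦR ha.1)).symm.mul_mul_mul_comm, ha.2, hb.2, one_mul]⟩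
      inv_mem' := fun {a} ha => ⟨inv_mem ha.1, by rw [← mul_inv_rev, ha.2, inv_one]⟩ }
  have hZ : Φ ≤ Z := by
    refine phiSub_le_of (fun d hd => hΦR hd.1) (fun a ha b hb => ⟨hcm a ha b hb, hinv a ha b hb⟩)
      (fun a ha => ⟨sq_mem_phiSub hR ha, hfour a ha⟩) ?_
    intro r hr
    refine LocalStructure.mem_normalizer_of_forall fun d hd => ?_
    rw [(hz d hd.1 r hr).eq, mul_inv_cancel_right]
    exact hd
  refine ⟨hcard, hfix, hcen, ?_, fun z hz => (hZ hz).2, ?_, hXeq, ?_⟩
  · intro c hc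
    by_contra hcΦ
    set C := R ⊓ centralizer ({y} : Set G)
    have hyC : y ∈ normalizer (C : Set G) := inf_normalizer_le_normalizer_inf
      ⟨hn, le_normalizer (mem_centralizer_singleton_iff.mpr rfl)⟩
    have hmv' : ¬ ∀ r ∈ R, ⁅y, r⁆ ∈ C ⊔ Φ := by
      intro hall
      refine hmv (mem_centralizer_iff.mpr fun r hr => ?_)
      have hle : R ≤ C ⊔ Φ := by
        conv_lhs => rw [← hXeq]
        refine commutator_le.mpr fun a ha g hg => ?_
        obtain ⟨k, rfl⟩ := (isOfFinOrder_of_finite y).mem_powers_iff_mem_zpowers.mpr hg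
        show ⁅a, y ^ k⁆ ∈ C ⊔ Φ
        clear hg
        induction k with
        | zero => simp
        | succ k ih =>
          rw [show ⁅a, y ^ (k + 1)⁆ = (⁅y, a⁆)⁻¹ * (y * ⁅a, y ^ k⁆ * y⁻¹) by
            rw [commutatorElement_def, commutatorElement_def, commutatorElement_def, pow_succ']; group]
          exact mul_mem (inv_mem (hall a ha)) ((mem_normalizer_iff.mp
            (normalizer_inf_normalizer_le_normalizer_sup _ _ ⟨hyC, hyΦ⟩) _).mp ih)
      exact mem_centralizer_singleton_iff.mp ((hgen C inf_le_left hle).ge hr).2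
    obtain ⟨-, heq, -⟩ := card_of_section hy hR hlow le_rfl (sup_le inf_le_left hΦR) le_sup_right hn
      (normalizer_inf_normalizer_le_normalizer_sup _ _ ⟨hyC, hyΦ⟩) hmv'
    exact hcΦ (heq.le (mem_sup_left hc))
  · by_contra h5
    obtain ⟨k, hk⟩ := IsPGroup.iff_card.mp (hR.to_le hΦR)
    refine hlow ⟨Φ, hΦR, ⟨le_centralizer_iff_isMulCommutative.mp (hΦR.trans hcen),
      fun a ha => by rw [pow_two]; exact (hZ ha).2⟩, ?_⟩
    rw [hk] at h5 ⊢
    refine Nat.pow_le_pow_right (by norm_num) ?_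
    by_contra hk3
    exact h5 (Nat.pow_le_pow_right (n := 2) (by norm_num) (by omega : k ≤ 2))
  · intro B hB hyB hBmv
    refine hsup B hB hyB fun hall => hBmv (mem_centralizer_of_stab (p := 5) (r := 2) hy
      (by norm_num) (hR.to_le hB) hyB fun c hc => ?_)
    exact (mem_centralizer_singleton_iff.mp (hfix (hall c hc))).symm

end CfsgLib.TwoGenSolv66
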