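import Cfsg.Agent.TwoGenSolv66.Hi

/-!
# Subgroups without a moved invariant 2-group of rank three

For `p = 5` such a subgroup `M` with a 2-object `B` has `B` as a Sylow 2-subgroup of `O_{p'}(M)`;
modulo `O_3(M)` it is normal and contains its centraliser in `O_{p'}(M)`.
-/

set_option autoImplicit false
set_option linter.unusedSectionVars false
set_option linter.unusedVariables false
set_option linter.style.haveILetI false

open scoped commutatorElement Pointwise

namespace CfsgLib.TwoGenSolv66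

open Subgroup CfsgLib.SolvSig CfsgLib.Transitivity

universe u

variable {G : Type u} [Group G] [Finite G]

/-- An injective image of rank three comes from rank three. -/
theorem hasRank3_of_map {H : Type*} [Group H] [Finite H] {f : G →* H} {r : ℕ} {R : Subgroup G}
    (hinj : Function.Injective (f.comp R.subtype)) (h : HasRank3 r (R.map f)) : HasRank3 r R := by
  obtain ⟨E, hER, hE, h3⟩ := h
  have hi : ∀ a ∈ R, ∀ b ∈ R, f a = f b → a = b := fun a ha b hb e =>
    congrArg Subtype.val (@hinj ⟨a, ha⟩ ⟨b, hb⟩ e)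
  set E₀ := R ⊓ E.comap f
  have hmap : E₀.map f = E := by
    refine le_antisymm ((map_mono inf_le_right).trans (map_comap_le _ _)) fun e he => ?_
    obtain ⟨a, ha, rfl⟩ := hER he
    exact ⟨a, ⟨ha, he⟩, rfl⟩
  refine ⟨E₀, inf_le_left, ⟨⟨⟨fun a b => Subtype.ext ?_⟩⟩, fun a ha => ?_⟩, h3.trans ?_⟩
  · refine hi _ (mul_mem a.2.1 b.2.1) _ (mul_mem b.2.1 a.2.1) ?_
    show f ((a : G) * b) = f ((b : G) * a)
    rw [map_mul, map_mul]
    haveI := hE.1
    exact setLike_mul_comm (s := E) a.2.2 b.2.2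
  · refine hi _ (pow_mem ha.1 r) _ (one_mem _) ?_
    rw [map_pow, map_one]
    exact hE.2 _ ha.2
  · rw [← hmap]
    exact Nat.card_le_card_of_surjective (fun a : E₀ => (⟨f a, mem_map_of_mem f a.2⟩ : E₀.map f))
      (by rintro ⟨_, a, ha, rfl⟩; exact ⟨⟨a, ha⟩, rfl⟩)

theorem hasRank3_map_subtype {M : Subgroup G} {R : Subgroup ↥M} {r : ℕ} (h : HasRank3 r R) :
    HasRank3 r (R.map M.subtype) := by
  obtain ⟨E, hER, hE, h3⟩ := h
  exact ⟨_, map_mono hER, OddOrder.isElementaryAbelian_map _ hE, by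
    rwa [card_map_of_injective M.subtype_injective]⟩

/-- A low Sylow 2-subgroup of a normal `{2, 3}`-subgroup is normal modulo `O_3`. -/
theorem normal_map_of_low {H : Type u} [Group H] [Finite H] [Group.IsSolvable H] {y : H}
    (hy : y ^ 5 = 1) {K B : Subgroup H} [K.Normal] (hK5 : ¬ 5 ∣ Nat.card K)
    (hprimes : ∀ q : ℕ, q.Prime → q ∣ Nat.card K → q = 2 ∨ q = 3 ∨ q = 5)
    (hB : IsPGroup 2 B) (hBK : B ≤ K) (hind : ¬ 2 ∣ B.relIndex K) (hlow : ¬ HasRank3 2 B)
    (hyB : y ∈ normalizer (B : Set H)) (hmv : y ∉ centralizer (B : Set H)) :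
    (B.map (QuotientGroup.mk' (Cfsg.pCore 3 H))).Normal ∧
      centralizer (B.map (QuotientGroup.mk' (Cfsg.pCore 3 H)) : Set (H ⧸ Cfsg.pCore 3 H)) ⊓
        K.map (QuotientGroup.mk' (Cfsg.pCore 3 H)) ≤ B.map (QuotientGroup.mk' (Cfsg.pCore 3 H)) ∧
      LowSpec (QuotientGroup.mk' (Cfsg.pCore 3 H) y)
        (B.map (QuotientGroup.mk' (Cfsg.pCore 3 H))) ∧
      ¬ HasRank3 2 (B.map (QuotientGroup.mk' (Cfsg.pCore 3 H))) := by
  haveI : Fact (Nat.Prime 2) := ⟨Nat.prime_two⟩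
  haveI : Fact (Nat.Prime 3) := ⟨Nat.prime_three⟩
  haveI : Fact (Nat.Prime 5) := ⟨by norm_num⟩
  set Q := Cfsg.pCore 3 H
  set π := QuotientGroup.mk' Q
  set K₁ := K.map π
  set B₁ := B.map π
  set y₁ := π y
  have hy₁ : y₁ ^ 5 = 1 := by rw [← map_pow, hy, map_one]
  haveI hK₁n : K₁.Normal := (inferInstance : K.Normal).map π (QuotientGroup.mk'_surjective Q)
  have hB₁K : B₁ ≤ K₁ := map_mono hBK
  have hB₁ : IsPGroup 2 B₁ := hB.map π
  have hinj : Function.Injective (π.comp B.subtype) :=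
    PLocal.injective_comp_subtype_of_coprime hB (by
      rw [QuotientGroup.ker_mk']
      obtain ⟨k, hk⟩ := IsPGroup.iff_card.mp (PLocal.isPGroup_pCore 3 H)
      rw [hk]
      exact (by norm_num : Nat.Coprime 3 2).pow_left k)
  have hlow₁ : ¬ HasRank3 2 B₁ := fun h3 => hlow (hasRank3_of_map hinj h3)
  have hyB₁ : y₁ ∈ normalizer (B₁ : Set (H ⧸ Q)) := le_normalizer_map π ⟨y, hyB, rfl⟩
  have hmv₁ : y₁ ∉ centralizer (B₁ : Set (H ⧸ Q)) := fun hc => hmv <| mem_centralizer_iff.mpr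
    fun b hb => by
      have h1 := mem_centralizer_iff.mp hc (π b) (mem_map_of_mem π hb)
      have hb' : y * b * y⁻¹ ∈ B := (mem_normalizer_iff.mp hyB b).mp hb
      have h2 : π (y * b * y⁻¹) = π b := by
        rw [map_mul, map_mul, map_inv, ← h1, mul_inv_cancel_right]
      exact (mul_inv_eq_iff_eq_mul.mp (congrArg Subtype.val
        (@hinj ⟨_, hb'⟩ ⟨b, hb⟩ h2))).symm
  have hS := low_spec hy₁ hB₁ hlow₁ hyB₁ hmv₁
  -- 2-subgroups of `K₁` over `B₁`
  have hBc : Nat.card B₁ = Nat.card B := by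
    rw [Nat.card_congr (MonoidHom.ofInjective hinj).toEquiv, MonoidHom.range_comp,
      Subgroup.range_subtype]
  have hsyl : ∀ P : Subgroup (H ⧸ Q), IsPGroup 2 P → B₁ ≤ P → P ≤ K₁ → P = B₁ := by
    intro P hP hBP hPK
    refine (eq_of_le_of_card_ge hBP ?_).symm
    obtain ⟨k, hk⟩ := IsPGroup.iff_card.mp hP
    have h1 : 2 ^ k ∣ Nat.card B * B.relIndex K := by
      rw [PLocal.card_mul_relIndex hBK, ← hk]
      exact (card_dvd_of_le hPK).trans (card_map_dvd K π)
    rw [hk, hBc]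
    exact Nat.le_of_dvd Nat.card_pos
      ((((Nat.prime_two.coprime_iff_not_dvd).mpr hind).pow_left k).dvd_of_dvd_mul_right h1)
  set U := core 2 K₁
  haveI hUn : U.Normal := normalizer_eq_top_iff.mp (top_le_iff.mp
    ((normalizer_eq_top K₁).ge.trans (normalizer_le_normalizer_core 2 K₁)))
  have hUB : U ≤ B₁ := le_sup_left.trans (hsyl (U ⊔ B₁)
    ((core_isPGroup 2 K₁).to_sup_of_normal_left' hB₁ le_normalizer_of_normal) le_sup_right
    (sup_le (core_le 2 K₁) hB₁K)).le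
  have hsolv : Group.IsSolvable ↥K₁ := by
    haveI : Group.IsSolvable (H ⧸ Q) := inferInstance
    infer_instance
  have hcore : ∀ t : ℕ, t.Prime → t ≠ 2 → core t K₁ = ⊥ := by
    intro t ht ht2
    haveI := Fact.mk ht
    obtain ⟨k, hk⟩ := IsPGroup.iff_card.mp (core_isPGroup t K₁)
    rcases Nat.eq_zero_or_pos k with rfl | hk0
    · exact card_eq_one.mp (by rw [hk, pow_zero])
    have htK : t ∣ Nat.card K := ((dvd_pow_self t hk0.ne').trans (hk ▸ dvd_rfl)).trans
      ((card_dvd_of_le (core_le t K₁)).trans (card_map_dvd K π))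
    rcases hprimes t ht htK with rfl | rfl | rfl
    · exact absurd rfl ht2
    · haveI : (core 3 K₁).Normal := normalizer_eq_top_iff.mp (top_le_iff.mp
        ((normalizer_eq_top K₁).ge.trans (normalizer_le_normalizer_core 3 K₁)))
      rw [← le_bot_iff]
      refine (PLocal.le_pCore (core_isPGroup 3 K₁)).trans ?_
      rw [PLocal.pCore_quotient_pCore_eq_bot]
    · exact absurd htK hK5
  have hmvU : y₁ ∉ centralizer (U : Set (H ⧸ Q)) := by
    intro hc
    refine hmv₁ (centralizer_le (SetLike.coe_subset_coe.mpr hB₁K) ?_)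
    refine le_centralizer_of_cores hsolv le_normalizer_of_normal ?_ (fun t ht => ?_) (mem_zpowers y₁)
    · rw [Nat.card_zpowers]
      exact ((Nat.Coprime.coprime_dvd_left (orderOf_dvd_of_pow_eq_one hy₁)
        ((Fact.out : Nat.Prime 5).coprime_iff_not_dvd.mpr
          fun hd => hK5 (hd.trans (card_map_dvd K π)))))
    · rcases eq_or_ne t 2 with rfl | ht2
      · rwa [zpowers_le]
      · rw [hcore t ht ht2, zpowers_le]
        exact mem_centralizer_iff.mpr fun z hz => by rw [mem_bot.mp hz, one_mul, mul_one]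
  have hUe : U = B₁ := hS.eq_of_moved U hUB (le_normalizer_of_normal (mem_top y₁)) hmvU
  refine ⟨hUe ▸ hUn, ?_, hS, hlow₁⟩
  intro g hg
  have hF : Cfsg.fittingSubgroup ↥K₁ ≤ B₁.subgroupOf K₁ := by
    rw [Solvable.fittingSubgroup_eq_iSup]
    refine iSup_le fun t c hc => ?_
    rcases eq_or_ne (t : ℕ) 2 with e | e
    · rw [e] at hc
      exact hUe.le ⟨c, hc, rfl⟩
    · have h0 : (c : H ⧸ Q) ∈ core t K₁ := ⟨c, hc, rfl⟩
      rw [hcore t t.2 e] at h0
      show (c : H ⧸ Q) ∈ B₁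
      rw [mem_bot.mp h0]; exact one_mem _
  have h1 : (⟨g, hg.2⟩ : ↥K₁) ∈ centralizer (Cfsg.fittingSubgroup ↥K₁ : Set ↥K₁) :=
    mem_centralizer_iff.mpr fun c hc => Subtype.ext
      (mem_centralizer_iff.mp hg.1 (c : H ⧸ Q) (hF hc))
  exact hF (Solvable.centralizer_fittingSubgroup_le h1)

namespace Ctx

variable {p : ℕ} [hp : Fact p.Prime] {x : G} (h : Ctx G p x) (hp5 : p = 5)
include h hp5

/-- The primes of `G` are at most five. -/
theorem prime_cases {q : ℕ} (hq : q.Prime) (hd : q ∣ Nat.card G) : q = 2 ∨ q = 3 ∨ q = 5 := by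
  have h1 := h.max q hq hd
  have h2 := hq.two_le
  have h4 : q ≠ 4 := fun e => by subst e; norm_num at hq
  omega

variable {M B : Subgroup G} (hM : M ≠ ⊤) (hx : x ∈ M) (hB : IsObj p x 2 B) (hBM : B ≤ M)
  (hlow : ¬ HighIn x M)
include hM hx hlow

omit h hp5 hM hx in
theorem low_moved {R : Subgroup G} (hR : IsPGroup 2 R) (hRM : R ≤ M)
    (hxR : x ∈ normalizer (R : Set G)) (hmv : x ∉ centralizer (R : Set G)) : ¬ HasRank3 2 R :=
  fun h3 => hlow ⟨R, hR, hRM, hxR, hmv, h3⟩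

include hB hBM

/-- Moved invariant 2-groups over an object equal it. -/
theorem eq_of_ge {R : Subgroup G} (hR : IsPGroup 2 R) (hRM : R ≤ M)
    (hxR : x ∈ normalizer (R : Set G)) (hBR : B ≤ R) : B = R :=
  have hmv : x ∉ centralizer (R : Set G) := fun hc => obj_moved hB (centralizer_le hBR hc)
  (low_spec (h.pow_five hp5) hR (low_moved hlow hR hRM hxR hmv) hxR hmv).eq_of_moved B hBR hB.inv
    (obj_moved hB)

/-- The object is a Sylow 2-subgroup of `O_{p'}(M)`. -/
theorem exists_sylow_eq : ∃ S : Sylow 2 ↥(core' p M),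
    (S : Subgroup ↥(core' p M)).map (core' p M).subtype = B ∧ x ∈ normalizer
      (((S : Subgroup ↥(core' p M)).map (core' p M).subtype : Subgroup G) : Set G) := by
  haveI : Fact (Nat.Prime 2) := ⟨Nat.prime_two⟩
  obtain ⟨S, hBS, hS⟩ := h.exists_sylow_obj hB hM hx hBM
  exact ⟨S, (h.eq_of_ge hp5 hM hx hB hBM hlow (S.2.map _)
    ((map_subtype_le _).trans (core'_le p M)) hS hBS).symm, hS⟩

/-- Objects of `M` are conjugate by fixed elements of `O_{p'}(M)`. -/
theorem exists_conj_obj {A : Subgroup G} (hA : IsObj p x 2 A) (hAM : A ≤ M) :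
    ∃ k ∈ core' p M, Commute k x ∧ A.map (MulAut.conj k).toMonoidHom = B := by
  haveI : Fact (Nat.Prime 2) := ⟨Nat.prime_two⟩
  obtain ⟨S, hSB, hS⟩ := h.exists_sylow_eq hp5 hM hx hB hBM hlow
  obtain ⟨T, hTA, hT⟩ := h.exists_sylow_eq hp5 hM hx hA hAM hlow
  obtain ⟨k, hk, hkx, he⟩ := h.exists_conj_fixed hx T S hT hS
  exact ⟨k, hk, hkx, by rw [← hTA, he, hSB]⟩

theorem low_quotient :
    ((B.subgroupOf M).map (QuotientGroup.mk' (Cfsg.pCore 3 ↥M))).Normal ∧
      centralizer ((B.subgroupOf M).map (QuotientGroup.mk' (Cfsg.pCore 3 ↥M)) :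
          Set (↥M ⧸ Cfsg.pCore 3 ↥M)) ⊓
        (Cfsg.pPrimeCore p ↥M).map (QuotientGroup.mk' (Cfsg.pCore 3 ↥M)) ≤
          (B.subgroupOf M).map (QuotientGroup.mk' (Cfsg.pCore 3 ↥M)) ∧
      LowSpec (QuotientGroup.mk' (Cfsg.pCore 3 ↥M) ⟨x, hx⟩)
        ((B.subgroupOf M).map (QuotientGroup.mk' (Cfsg.pCore 3 ↥M))) ∧
      ¬ HasRank3 2 ((B.subgroupOf M).map (QuotientGroup.mk' (Cfsg.pCore 3 ↥M))) := by
  haveI : Fact (Nat.Prime 2) := ⟨Nat.prime_two⟩
  haveI := h.hyp.sub M hM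
  have hmv : (⟨x, hx⟩ : ↥M) ∉ centralizer (B.subgroupOf M : Set ↥M) := fun hc =>
    obj_moved hB (mem_centralizer_iff.mpr fun b hb =>
      congrArg Subtype.val (mem_centralizer_iff.mp hc ⟨b, hBM hb⟩ hb))
  have hxB : (⟨x, hx⟩ : ↥M) ∈ normalizer (B.subgroupOf M : Set ↥M) :=
    mem_normalizer_iff.mpr fun c => mem_normalizer_iff.mp hB.inv (c : G)
  have hBK : B.subgroupOf M ≤ Cfsg.pPrimeCore p ↥M := fun b hb => by
    obtain ⟨c, hc, hcb⟩ := h.obj_le_core' hB hM hx hBM hb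
    exact M.subtype_injective hcb ▸ hc
  refine normal_map_of_low (Subtype.ext (h.pow_five hp5)) ?_ (fun q hq hd => ?_)
    hB.isPGroup.comap_subtype hBK ?_ ?_ hxB hmv
  · subst hp5
    exact (hp.out.coprime_iff_not_dvd).mp (PLocal.coprime_card_pPrimeCore 5 ↥M).symm
  · exact h.prime_cases hp5 hq (hd.trans ((card_subgroup_dvd_card _).trans (card_subgroup_dvd_card M)))
  · obtain ⟨S, hSB, -⟩ := h.exists_sylow_eq hp5 hM hx hB hBM hlow
    intro hd
    refine S.not_dvd_index ?_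
    have e1 : Nat.card ↥(B.subgroupOf M) = Nat.card ↥(S : Subgroup ↥(core' p M)) := by
      rw [Nat.card_congr (subgroupOfEquivOfLe hBM).toEquiv, ← hSB,
        card_map_of_injective (core' p M).subtype_injective]
    have e2 : Nat.card ↥(core' p M) = Nat.card ↥(Cfsg.pPrimeCore p ↥M) :=
      card_map_of_injective M.subtype_injective
    have h1 := PLocal.card_mul_relIndex hBK
    rw [e1, ← e2, ← (S : Subgroup ↥(core' p M)).card_mul_index] at h1
    rwa [← Nat.eq_of_mul_eq_mul_left Nat.card_pos h1]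
  · intro h3
    refine low_moved hlow hB.isPGroup hBM hB.inv (obj_moved hB) ?_
    have := hasRank3_map_subtype h3
    rwa [map_subgroupOf_eq_of_le hBM] at this

/-- `M` is `O_3(M)` times the normaliser of the object. -/
theorem le_sup_normalizer : M ≤ core 3 M ⊔ M ⊓ normalizer (B : Set G) := by
  haveI : Fact (Nat.Prime 2) := ⟨Nat.prime_two⟩
  haveI : Fact (Nat.Prime 3) := ⟨Nat.prime_three⟩
  obtain ⟨hn, -, -, -⟩ := h.low_quotient hp5 hM hx hB hBM hlow
  set Q := Cfsg.pCore 3 ↥M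
  set B' := B.subgroupOf M
  set N := (B'.map (QuotientGroup.mk' Q)).comap (QuotientGroup.mk' Q) with hNd
  haveI : N.Normal := hn.comap _
  have hN : N = B' ⊔ Q := by rw [hNd, comap_map_eq, QuotientGroup.ker_mk']
  have hB'p : IsPGroup 2 B' := hB.isPGroup.comap_subtype
  have hBN : B' ≤ N := hN ▸ le_sup_left
  have hind : ¬ 2 ∣ (B'.subgroupOf N).index := by
    intro hd
    have h1 : Nat.card N ∣ Nat.card B' * Nat.card Q := by
      have hdis : B' ⊓ Q = ⊥ := Coprime.inf_eq_bot_of_coprime (by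
        obtain ⟨i, hi⟩ := IsPGroup.iff_card.mp hB'p
        obtain ⟨j, hj⟩ := IsPGroup.iff_card.mp (PLocal.isPGroup_pCore 3 ↥M)
        rw [hi, hj]; exact (by norm_num : Nat.Coprime 2 3).pow i j)
      rw [hN, sup_comm, Coprime.card_sup_eq le_normalizer_of_normal (by rwa [inf_comm]), mul_comm]
    rw [← PLocal.card_mul_relIndex hBN] at h1
    have h2 : 2 ∣ Nat.card Q := hd.trans (Nat.dvd_of_mul_dvd_mul_left Nat.card_pos h1)
    obtain ⟨j, hj⟩ := IsPGroup.iff_card.mp (PLocal.isPGroup_pCore 3 ↥M)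
    rw [hj] at h2
    exact absurd (Nat.prime_two.dvd_of_dvd_pow h2) (by norm_num)
  let P : Sylow 2 ↥N := hB'p.comap_subtype.toSylow hind
  have hP : (P : Subgroup ↥N).map N.subtype = B' := by
    rw [show (P : Subgroup ↥N) = B'.subgroupOf N from IsPGroup.toSylow_coe .., map_subgroupOf_eq_of_le hBN]
  have hfr := Sylow.normalizer_sup_eq_top P
  rw [hP, hN, ← sup_assoc, sup_eq_left.mpr (le_normalizer (H := B'))] at hfr
  intro g hg
  have h1 : (⟨g, hg⟩ : ↥M) ∈ normalizer (B' : Set ↥M) ⊔ Q := hfr ▸ mem_top _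
  have h2 := mem_map_of_mem M.subtype h1
  rw [Subgroup.map_sup, sup_comm] at h2
  have h3 : (normalizer (B' : Set ↥M)).map M.subtype ≤ M ⊓ normalizer (B : Set G) :=
    le_inf (map_subtype_le _) ((le_normalizer_map _).trans_eq (by
      rw [map_subgroupOf_eq_of_le hBM]))
  exact sup_le_sup_left h3 (core 3 M) h2

end Ctx

end CfsgLib.TwoGenSolv66
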