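import Cfsg.Agent.TwoGenSolv66.Avoid
import Cfsg.Agent.TwoGenSolv66.Blocks

/-!
# Members sharing an invariant group have the same `x`-part

* `Setup p x s F` : outside the big subgroups in `F`, members with `s`-objects are typed.
* `PureT p x s F T` : an invariant `s`-group with an object lying in no member of `F`.
* `Ctx.xPart_eq` : two members containing one such group have the same `[O_s(·), x]`.
-/

set_option autoImplicit false
set_option linter.unusedSectionVars false
set_option linter.unusedVariables false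
set_option linter.style.haveILetI false

open scoped commutatorElement Pointwise

namespace CfsgLib.TwoGenSolv66

open Subgroup CfsgLib.SolvSig CfsgLib.Transitivity

universe u

/-- An object in no member of `F`. -/
def Avoids {G : Type*} [Group G] (p : ℕ) (x : G) (s : ℕ) (F : Finset (Subgroup G))
    (A : Subgroup G) : Prop :=
  IsObj p x s A ∧ ∀ L ∈ F, ¬ A ≤ L

/-- Outside `F`, a member with an `s`-object is typed. -/
structure Setup {G : Type*} [Group G] [Finite G] (p : ℕ) (x : G) (s : ℕ)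
    (F : Finset (Subgroup G)) : Prop where
  weak : Weak p s G
  big : ∀ L ∈ F, Big x L
  small : F.card ≤ p
  triv : ∀ A, Avoids p x s F A → HasRank3 s A → IsTriv s G
  cls : ∀ M, IsCoatom M → x ∈ M → (∃ A, Avoids p x s F A ∧ A ≤ M) → Typed p x s M

/-- An invariant `s`-group with an object avoiding `F`. -/
def PureT {G : Type*} [Group G] (p : ℕ) (x : G) (s : ℕ) (F : Finset (Subgroup G))
    (T : Subgroup G) : Prop :=
  IsPGroup s T ∧ x ∈ normalizer (T : Set G) ∧ ∃ A, Avoids p x s F A ∧ A ≤ T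

variable {G : Type u} [Group G] [Finite G] {p : ℕ} [hp : Fact p.Prime] {x : G} {s : ℕ}
  {F : Finset (Subgroup G)}

theorem Avoids.mono {A B : Subgroup G} (hA : Avoids p x s F A) (hB : IsObj p x s B) (h : A ≤ B) :
    Avoids p x s F B :=
  ⟨hB, fun L hL hle => hA.2 L hL (h.trans hle)⟩

theorem PureT.mono {T R : Subgroup G} (hT : PureT p x s F T) (hR : IsPGroup s R)
    (hxR : x ∈ normalizer (R : Set G)) (h : T ≤ R) : PureT p x s F R :=
  ⟨hR, hxR, hT.2.2.imp fun A hA => ⟨hA.1, hA.2.trans h⟩⟩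

theorem PureT.ne_bot {T : Subgroup G} (hT : PureT p x s F T) : T ≠ ⊥ := by
  obtain ⟨-, -, A, hA, hAT⟩ := hT
  exact fun e => hA.1.ne_bot (le_bot_iff.mp (e ▸ hAT))

theorem PureT.avoids_commutator {T : Subgroup G} (h : Ctx G p x) (hs : s.Prime) (hne : s ≠ p)
    (hT : PureT p x s F T) :
    Avoids p x s F ⁅T, zpowers x⁆ ∧ ⁅T, zpowers x⁆ ≤ T := by
  obtain ⟨hTp, hxT, A, hA, hAT⟩ := hT
  have hle : A ≤ ⁅T, zpowers x⁆ := hA.1.eq.ge.trans (commutator_mono hAT le_rfl)
  obtain ⟨hobj, hle'⟩ := h.obj_of_moved hs hne hTp hxT fun hc =>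
    Ctx.obj_moved hA.1 (centralizer_le (s := (A : Set G)) (fun a ha => hAT ha) hc)
  exact ⟨hA.mono hobj hle, hle'⟩

namespace Ctx

variable (h : Ctx G p x) (hS : Setup p x s F)
include h hS

/-- A coatom over the normaliser of an invariant `s`-group. -/
theorem exists_coatom_normalizer {H : Subgroup G} (hH : IsPGroup s H) (hne : H ≠ ⊥)
    (hxH : x ∈ normalizer (H : Set G)) :
    ∃ M : Subgroup G, IsCoatom M ∧ x ∈ M ∧ normalizer (H : Set G) ≤ M := by
  haveI := Fact.mk hS.weak.prime
  obtain ⟨M, hM, hle⟩ := h.hyp.exists_maximal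
    (h.hyp.normalizer_ne_top hne (h.hyp.ne_top_of_isPGroup hH))
  exact ⟨M, hM, hle hxH, hle⟩

theorem typed_of_pureT {T M : Subgroup G} (hT : PureT p x s F T) (hM : IsCoatom M) (hxM : x ∈ M)
    (hTM : T ≤ M) : Typed p x s M := by
  obtain ⟨-, -, A, hA, hAT⟩ := hT
  exact hS.cls M hM hxM ⟨A, hA, hAT.trans hTM⟩

theorem core_ne_bot {T M : Subgroup G} (hT : PureT p x s F T) (hM : IsCoatom M) (hxM : x ∈ M)
    (hTM : T ≤ M) : xPart s x M ≠ ⊥ ∧ core s M ≠ ⊥ := by
  obtain ⟨hTp, hxT, A, hA, hAT⟩ := id hT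
  have h1 : A ≤ xPart s x M := hA.1.eq.ge.trans ((commutator_mono hAT le_rfl).trans
    ((h.typed_of_pureT hS hT hM hxM hTM).le_part T hTp hTM hxT))
  exact ⟨fun e => hA.1.ne_bot (le_bot_iff.mp (e ▸ h1)),
    fun e => hA.1.ne_bot (le_bot_iff.mp (e ▸ h1.trans (xPart_le hxM)))⟩

/-- For a maximal invariant `s`-group `T` of `M`, the `x`-part of `M` is `[T, x]`. -/
theorem xPart_eq_of_max {T M : Subgroup G} (hT : PureT p x s F T) (hM : IsCoatom M) (hxM : x ∈ M)
    (hTM : T ≤ M)
    (hmax : ∀ R : Subgroup G, IsPGroup s R → R ≤ M → x ∈ normalizer (R : Set G) → T ≤ R → R = T) :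
    core s M ≤ T ∧ xPart s x M = ⁅T, zpowers x⁆ := by
  have hQn : T ≤ normalizer (core s M : Set G) := hTM.trans (le_normalizer_core s M)
  have e := hmax (core s M ⊔ T) ((core_isPGroup s M).to_sup_of_normal_left' hT.1 hQn)
    (sup_le (core_le s M) hTM)
    (normalizer_inf_normalizer_le_normalizer_sup _ _ ⟨le_normalizer_core s M hxM, hT.2.1⟩)
    le_sup_right
  have hQT : core s M ≤ T := le_sup_left.trans e.le
  exact ⟨hQT, le_antisymm (commutator_mono hQT le_rfl)
    ((h.typed_of_pureT hS hT hM hxM hTM).le_part T hT.1 hTM hT.2.1)⟩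

variable {T M J : Subgroup G} (hT : PureT p x s F T) (hM : IsCoatom M) (hxM : x ∈ M) (hTM : T ≤ M)
  (hmax : ∀ R : Subgroup G, IsPGroup s R → R ≤ M → x ∈ normalizer (R : Set G) → T ≤ R → R = T)
  (hJ : IsCoatom J) (hxJ : x ∈ J) (hTJ : T ≤ J)
  (hgood : ∀ M' : Subgroup G, IsCoatom M' → x ∈ M' → ∀ T' : Subgroup G, IsPGroup s T' →
    x ∈ normalizer (T' : Set G) → T < T' → T' ≤ M' → M' ⊓ centralizer ({x} : Set G) ≤ J)
include hT hM hxM hTM hmax hJ hxJ hTJ hgood

omit hmax hgood in
/-- Subgroups between `T` and `[T,x] C_M(x)` are invariant. -/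
theorem mid_facts {H : Subgroup G} (hTH : T ≤ H)
    (hH : H ≤ ⁅T, zpowers x⁆ ⊔ M ⊓ centralizer ({x} : Set G)) (hX : xPart s x M = ⁅T, zpowers x⁆) :
    x ∈ normalizer (H : Set G) ∧ H ≤ normalizer ((⁅T, zpowers x⁆ : Subgroup G) : Set G) ∧
      ⁅H, zpowers x⁆ ≤ ⁅T, zpowers x⁆ ∧ (H ⊓ centralizer ({x} : Set G) ≤ J → H ≤ J) := by
  set X := ⁅T, zpowers x⁆ with hXd
  have hXT : X ≤ T := Coprime.commutator_le_of_le_normalizer (zpowers_le.mpr hT.2.1)
  have hCX : M ⊓ centralizer ({x} : Set G) ≤ normalizer (X : Set G) := by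
    rw [← hX]
    intro c hc
    refine CharPLocal.inf_normalizer_le_normalizer_commutator _ _
      ⟨le_normalizer_core s M hc.1, centralizer_le_normalizer _ ?_⟩
    rw [← centralizer_singleton_eq]
    exact hc.2
  have hxX : x ∈ normalizer (X : Set G) := normalizer_commutator_ge_right T _ (mem_zpowers x)
  have hdec : ∀ g ∈ H, ∃ a ∈ X, ∃ c ∈ H ⊓ centralizer ({x} : Set G), a * c = g := by
    intro g hg
    obtain ⟨a, ha, c, hc, rfl⟩ := Coprime.exists_mul_of_mem_sup hCX (hH hg)
    refine ⟨a, ha, c, mem_inf.2 ⟨?_, hc.2⟩, rfl⟩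
    have := mul_mem (inv_mem (hTH (hXT ha))) hg
    rwa [inv_mul_cancel_left] at this
  have hxH : x ∈ normalizer (H : Set G) := by
    refine LocalStructure.mem_normalizer_of_forall fun g hg => ?_
    obtain ⟨a, ha, c, hc, rfl⟩ := hdec g hg
    have e : x * (a * c) * x⁻¹ = x * a * x⁻¹ * c := by
      rw [show x * (a * c) * x⁻¹ = x * a * x⁻¹ * (x * c * x⁻¹) by group,
        ← mem_centralizer_singleton_iff.mp hc.2, mul_inv_cancel_right]
    rw [e]
    exact mul_mem (hTH (hXT ((mem_normalizer_iff.mp hxX a).mp ha))) hc.1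
  refine ⟨hxH, fun g hg => ?_, ?_, fun hC g hg => ?_⟩
  · obtain ⟨a, ha, c, hc, rfl⟩ := Coprime.exists_mul_of_mem_sup hCX (hH hg)
    exact mul_mem (le_normalizer ha) (hCX hc)
  · refine commutator_le.mpr fun g hg y hy => ?_
    obtain ⟨a, ha, c, hc, rfl⟩ := hdec g hg
    obtain ⟨i, rfl⟩ := mem_zpowers_iff.mp hy
    have hcx : Commute c (x ^ i) :=
      (show Commute c x from mem_centralizer_singleton_iff.mp hc.2).zpow_right i
    have e : ⁅a * c, x ^ i⁆ = a * (x ^ i * a⁻¹ * (x ^ i)⁻¹) := by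
      rw [commutatorElement_def, mul_inv_rev,
        show a * c * x ^ i * (c⁻¹ * a⁻¹) * (x ^ i)⁻¹ = a * (c * x ^ i * c⁻¹) * a⁻¹ * (x ^ i)⁻¹ by
          group, hcx.eq, mul_inv_cancel_right]
      group
    rw [e]
    exact mul_mem ha ((mem_normalizer_iff.mp (zpow_mem hxX i) _).mp (inv_mem ha))
  · obtain ⟨a, ha, c, hc, rfl⟩ := hdec g hg
    exact mul_mem (hTJ (hXT ha)) (hC hc)

variable {P N : Subgroup G} (hX : xPart s x M = ⁅T, zpowers x⁆) (hTP : T ≤ P)
  (hP : P ≤ ⁅T, zpowers x⁆ ⊔ M ⊓ centralizer ({x} : Set G)) (hPJ : ¬ P ≤ J)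
  (hmin : ∀ H : Subgroup G, T ≤ H → H ≤ P → H ≠ P → H ≤ J) (hsyl : ¬ s ∣ T.relIndex P)
  (hN : IsPGroup s N) (hxN : x ∈ normalizer (N : Set G)) (hTN : T < N)
  (hNT : N ≤ normalizer (T : Set G))
include hX hTP hP hPJ hmin hsyl hN hxN hTN hNT

/-- The fixed elements centralising `[T,x]` do not cover `P` with `T`. -/
theorem sup_fixed_ne :
    T ⊔ P ⊓ centralizer ({x} : Set G) ⊓ centralizer ((⁅T, zpowers x⁆ : Subgroup G) : Set G) ≠ P := by
  intro hsup
  haveI := Fact.mk hS.weak.prime
  set X := ⁅T, zpowers x⁆ with hXd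
  set B := P ⊓ centralizer ({x} : Set G) ⊓ centralizer (X : Set G) with hBd
  obtain ⟨hxP, hPX, hPx, hPJ'⟩ := h.mid_facts hS hT hM hxM hTM hJ hxJ hTJ hTP hP hX
  have hTp := hT.1
  have hxT := hT.2.1
  have hne := hS.weak.ne
  obtain ⟨havX, hXT⟩ := hT.avoids_commutator h hS.weak.prime hne
  have hsT : ¬ p ∣ Nat.card T := h.not_dvd_of_isPGroup hS.weak.prime hne hTp
  have hBP : B ≤ P := inf_le_left.trans inf_le_left
  have hBx : B ≤ centralizer ({x} : Set G) := inf_le_left.trans inf_le_right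
  have hBX : B ≤ centralizer (X : Set G) := inf_le_right
  have hBJ : ¬ B ≤ J := fun e => hPJ (hsup ▸ sup_le hTJ e)
  -- `P` normalises `B`
  have hPB : P ≤ normalizer (B : Set G) := by
    intro g hg
    refine LocalStructure.mem_normalizer_of_forall fun b hb => ?_
    have hCX : g * b * g⁻¹ ∈ centralizer (X : Set G) :=
      (mem_normalizer_iff.mp (CharPLocal.normalizer_le_normalizer_centralizer _ (hPX hg)) b).mp
        (hBX hb)
    refine mem_inf.2 ⟨mem_inf.2 ⟨mul_mem (mul_mem hg (hBP hb)) (inv_mem hg), ?_⟩, hCX⟩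
    refine mem_centralizer_singleton_iff.mpr ?_
    have hu : ⁅g⁻¹, x⁆ ∈ X := hPx (commutator_mem_commutator (inv_mem hg) (mem_zpowers x))
    have h1 : Commute b ⁅g⁻¹, x⁆ := (mem_centralizer_iff.mp (hBX hb) _ hu).symm
    have h2 : Commute b x := mem_centralizer_singleton_iff.mp (hBx hb)
    have h3 : Commute b (g⁻¹ * x * g) := by
      rw [show g⁻¹ * x * g = ⁅g⁻¹, x⁆ * x by rw [commutatorElement_def]; group]
      exact h1.mul_right h2
    have h4 := h3.map (MulAut.conj g).toMonoidHom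
    simp only [MulEquiv.coe_toMonoidHom, MulAut.conj_apply] at h4
    rw [show g * (g⁻¹ * x * g) * g⁻¹ = x by group] at h4
    exact h4.eq
  by_cases hNx : ⁅N, zpowers x⁆ ≤ T
  · -- `N` normalises `X`
    have hNx' : ⁅N, zpowers x⁆ ≤ X :=
      (Coprime.commutator_commutator_eq (zpowers_le.mpr hxN)
        (h.coprime (h.not_dvd_of_isPGroup hS.weak.prime hne hN))).ge.trans
        (commutator_mono hNx le_rfl)
    have hNX : N ≤ normalizer (X : Set G) := by
      refine (Coprime.commutator_sup_centralizer (zpowers_le.mpr hxN)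
        (h.coprime (h.not_dvd_of_isPGroup hS.weak.prime hne hN))
        (Or.inl (isSolvable_zpowers' x))).ge.trans (sup_le (hNx'.trans le_normalizer) ?_)
      intro c hc
      exact CharPLocal.inf_normalizer_le_normalizer_commutator _ _
        ⟨hNT hc.1, centralizer_le_normalizer _ hc.2⟩
    obtain ⟨M', hM', hxM', hle⟩ := h.exists_coatom_normalizer hS havX.1.isPGroup havX.1.ne_bot
      havX.1.inv
    have := hgood M' hM' hxM' N hN hxN hTN (hNX.trans hle)
    exact hBJ ((le_inf ((hBX.trans (centralizer_le_normalizer _)).trans hle) hBx).trans this)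
  -- an element of `N` moved outside `T`
  obtain ⟨n₀, hn₀, hu₀⟩ : ∃ n ∈ N, ⁅n, x⁆ ∉ T := by
    by_contra! hh
    refine hNx (commutator_le.mpr fun n hn g hg => ?_)
    obtain ⟨k, rfl⟩ := mem_powers_iff_mem_zpowers.mpr hg
    show ⁅n, x ^ k⁆ ∈ T
    clear hg
    induction k with
    | zero => simp
    | succ k ih =>
      rw [show ⁅n, x ^ (k + 1)⁆ = ⁅n, x⁆ * (x * ⁅n, x ^ k⁆ * x⁻¹) by
        rw [commutatorElement_def, commutatorElement_def, commutatorElement_def, pow_succ']; group]
      exact mul_mem (hh n hn) ((mem_normalizer_iff.mp hxT _).mp ih)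
  set Q₀ := core s P with hQ₀
  have hQT : Q₀ ≤ T := by
    have hR : IsPGroup s ↥(Q₀ ⊔ T) :=
      (core_isPGroup s P).to_sup_of_normal_left' hTp (hTP.trans (le_normalizer_core s P))
    have h1 : T.relIndex (Q₀ ⊔ T) ∣ T.relIndex P := by
      rw [← relIndex_mul_relIndex T (Q₀ ⊔ T) P le_sup_right (sup_le (core_le s P) hTP)]
      exact dvd_mul_right _ _
    have h2 : T.relIndex (Q₀ ⊔ T) = 1 := by
      obtain ⟨k, hk⟩ := IsPGroup.iff_card.mp hR
      obtain ⟨i, -, hi⟩ := (Nat.dvd_prime_pow hS.weak.prime).mp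
        ((Dvd.intro_left _ ((T.subgroupOf (Q₀ ⊔ T)).card_mul_index.trans hk)) :
          T.relIndex (Q₀ ⊔ T) ∣ s ^ k)
      rcases i with _ | i
      · rw [hi, pow_zero]
      · exact absurd ((dvd_pow_self s (Nat.succ_ne_zero i)).trans (hi ▸ h1)) hsyl
    exact le_sup_left.trans (relIndex_eq_one.mp h2)
  have hXP : X ≤ P := hXT.trans hTP
  have hXQ : X ≤ Q₀ := le_core hXP hPX havX.1.isPGroup
  have hQ0ne : Q₀ ≠ ⊥ := fun e => havX.1.ne_bot (le_bot_iff.mp (e ▸ hXQ))
  have hxQ : x ∈ normalizer (Q₀ : Set G) := normalizer_le_normalizer_core s P hxP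
  have hPQ : P ≤ normalizer (Q₀ : Set G) := le_normalizer_core s P
  -- conjugates of `X` by moved elements of `N` avoid `Q₀`
  have hkey : ∀ n ∈ N, ⁅n, x⁆ ∉ T → ¬ X.map (MulAut.conj n).toMonoidHom ≤ Q₀ := by
    intro n hn hu hle
    set x' := n * x * n⁻¹ with hx'
    have hnT : ∀ t, t ∈ T → n⁻¹ * t * n ∈ T := fun t ht => by
      have := (mem_normalizer_iff.mp (hNT (inv_mem hn)) t).mp ht
      rwa [inv_inv] at this
    have hstab : ∀ q ∈ Q₀, x' * q * x'⁻¹ ∈ Q₀ := by
      intro q hq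
      have h1 : ⁅n⁻¹ * q⁻¹ * n, x⁆ ∈ X :=
        commutator_mem_commutator (hnT _ (inv_mem (hQT hq))) (mem_zpowers x)
      have h2 : n * ⁅n⁻¹ * q⁻¹ * n, x⁆ * n⁻¹ ∈ Q₀ := hle ⟨_, h1, rfl⟩
      rw [show x' * q * x'⁻¹ = q * (n * ⁅n⁻¹ * q⁻¹ * n, x⁆ * n⁻¹) by
        rw [hx', commutatorElement_def]; group]
      exact mul_mem hq h2
    obtain ⟨M', hM', hxM', hle'⟩ :=
      h.exists_coatom_normalizer hS (core_isPGroup s P) hQ0ne hxQ
    have hx'M : x' ∈ M' := hle' (LocalStructure.mem_normalizer_of_forall hstab)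
    have huM : ⁅n, x⁆ ∈ M' := by
      rw [commutatorElement_def]; exact mul_mem hx'M (inv_mem hxM')
    have huN : ⁅n, x⁆ ∈ N :=
      Coprime.commutator_le_of_le_normalizer (zpowers_le.mpr hxN)
        (commutator_mem_commutator hn (mem_zpowers x))
    have hTM' : T ≤ M' := hTP.trans (hPQ.trans hle')
    have := hgood M' hM' hxM' (N ⊓ M') (hN.to_le inf_le_left)
      (inf_normalizer_le_normalizer_inf ⟨hxN, le_normalizer hxM'⟩)
      (lt_of_le_of_ne (le_inf hTN.le hTM') fun e => hu (by rw [e]; exact ⟨huN, huM⟩)) inf_le_right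
    exact hPJ (hPJ' ((le_inf (inf_le_left.trans (hPQ.trans hle')) inf_le_right).trans this))
  set A₂ := X.map (MulAut.conj n₀).toMonoidHom with hA₂
  have hA₂T : A₂ ≤ T := by
    rintro _ ⟨a, ha, rfl⟩
    exact (mem_normalizer_iff.mp (hNT hn₀) a).mp (hXT ha)
  have hA₂ne : A₂ ≠ ⊥ := fun e =>
    havX.1.ne_bot ((Subgroup.map_eq_bot_iff_of_injective _ (MulAut.conj n₀).injective).mp e)
  have hTA₂ : T ≤ normalizer (A₂ : Set G) := by
    intro t ht
    have hconj : n₀⁻¹ * t * n₀ ∈ T := by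
      have := (mem_normalizer_iff.mp (hNT (inv_mem hn₀)) t).mp ht
      rwa [inv_inv] at this
    have h1 := mem_normalizer_iff_map_conj_eq.mp (hPX (hTP hconj))
    rw [mem_normalizer_iff_map_conj_eq, hA₂]
    conv_rhs => rw [show X = X.map (MulAut.conj (n₀⁻¹ * t * n₀)).toMonoidHom from h1.symm, map_map]
    rw [map_map]
    congr 1
    ext a
    simp [mul_assoc]
  -- a nontrivial subgroup normalised by `x`, `T` and `n₀ B n₀⁻¹`
  obtain ⟨K₁, hK₁ne, hK₁A, hxK₁, hTK₁⟩ : ∃ K₁ : Subgroup G, K₁ ≠ ⊥ ∧ K₁ ≤ A₂ ∧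
      x ∈ normalizer (K₁ : Set G) ∧ T ≤ normalizer (K₁ : Set G) := by
    set Z := Cfsg.omegaOneCenter s T
    have hZT : Z ≤ T := LocalEven50.omegaOneCenter_le _
    have hxZ : x ∈ normalizer (Z : Set G) := LocalEven50.normalizer_le_normalizer_omegaOneCenter _ hxT
    by_cases hZx : x ∈ centralizer (Z : Set G)
    · refine ⟨A₂ ⊓ Z, fun e => ?_, inf_le_left, centralizer_le_normalizer _
        (centralizer_le (s := ((A₂ ⊓ Z : Subgroup G) : Set G)) (fun a ha => ha.2) hZx), ?_⟩
      · have hn' : (A₂.subgroupOf T).Normal := (normal_subgroupOf_iff_le_normalizer hA₂T).mpr hTA₂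
        have hne' : A₂.subgroupOf T ≠ ⊥ := fun e' => hA₂ne (by
          rw [← map_subgroupOf_eq_of_le hA₂T, e', Subgroup.map_bot])
        obtain ⟨z, hzA, hzc, hzo⟩ := OddOrder.BG4.exists_central_orderOf_prime hTp hne'
        have hzs : (z : G) ^ s = 1 := by
          rw [← SubmonoidClass.coe_pow, ← hzo, pow_orderOf_eq_one, OneMemClass.coe_one]
        have h1 : (z : G) ∈ Z := PLocal.mem_omegaOne
          (mem_inf.2 ⟨z.2, mem_centralizer_iff.2 fun t ht =>
            congrArg Subtype.val (Subgroup.mem_center_iff.1 hzc ⟨t, ht⟩)⟩) hzs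
        have h2 : (z : G) = 1 := mem_bot.mp (e ▸ mem_inf.2 ⟨hzA, h1⟩)
        rw [show z = 1 from Subtype.ext h2, orderOf_one] at hzo
        exact hS.weak.prime.ne_one hzo.symm
      · intro t ht
        refine centralizer_le_normalizer _ (mem_centralizer_iff.mpr fun a ha => ?_)
        exact (mem_centralizer_iff.mp (LocalEven50.omegaOneCenter_le_centralizer _ ha.2) t ht).symm
    -- a moved central group of rank three
    obtain ⟨hZobj, hZle⟩ := h.obj_of_moved hS.weak.prime hne (hTp.to_le hZT) hxZ hZx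
    set E := ⁅Z, zpowers x⁆
    have hEX : E ≤ X := commutator_mono hZT le_rfl
    have hEel : Cfsg.IsElementaryAbelian s E :=
      elab_of_le_of_elab (LocalEven50.isElementaryAbelian_omegaOneCenter T) hZle
    have hE : IsElem3 s E := ⟨hEel, cube_le_card h.five (h.obj_lt hZobj) h.pow_eq hZobj.isPGroup
      hZobj.inv (obj_moved hZobj)⟩
    have ht : IsTriv s G := hS.triv X havX ⟨E, hEX, hE⟩
    have hXQn : E ≤ normalizer (Q₀ : Set G) := (hEX.trans hXP).trans hPQ
    have hbot : core' s (normalizer (Q₀ : Set G)) = ⊥ :=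
      h.hyp.core'_normalizer_eq_bot ht (core_isPGroup s P) hQ0ne hE hXQn
    set Nq := normalizer (Q₀ : Set G) with hNqd
    set Q' := core s Nq with hQ'
    have hQ'T : Q' ≤ T := by
      by_contra hnle
      obtain ⟨M', hM', hxM', hle'⟩ :=
        h.exists_coatom_normalizer hS (core_isPGroup s P) hQ0ne hxQ
      have hTn : T ≤ normalizer (Q' : Set G) := (hTP.trans hPQ).trans (le_normalizer_core s Nq)
      have := hgood M' hM' hxM' (Q' ⊔ T) ((core_isPGroup s Nq).to_sup_of_normal_left' hTp hTn)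
        (normalizer_inf_normalizer_le_normalizer_sup _ _ ⟨le_normalizer_core s Nq hxQ, hxT⟩)
        (lt_of_le_of_ne le_sup_right fun e => hnle (le_sup_left.trans e.ge))
        ((sup_le (core_le s Nq) (hTP.trans hPQ)).trans hle')
      exact hPJ (hPJ' ((le_inf (inf_le_left.trans (hPQ.trans hle')) inf_le_right).trans this))
    have hQ'Q : Q' ≤ Q₀ :=
      le_core (hQ'T.trans hTP) (hPQ.trans (le_normalizer_core s Nq)) (core_isPGroup s Nq)
    have hchar : P ⊓ centralizer (Q₀ : Set G) ≤ Q₀ := by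
      intro g hg
      haveI := h.hyp.sub _ (h.hyp.normalizer_ne_top hQ0ne
        (h.hyp.ne_top_of_isPGroup (core_isPGroup s P)))
      have hgc : (⟨g, hPQ hg.1⟩ : ↥Nq) ∈ centralizer (Cfsg.pCore s ↥Nq : Set ↥Nq) :=
        mem_centralizer_iff.mpr fun z hz => Subtype.ext
          (mem_centralizer_iff.mp hg.2 z (hQ'Q ⟨z, hz, rfl⟩))
      exact hQ'Q ⟨_, PLocal.centralizer_pCore_le PLocal.isPSolvable_of_isSolvable
        ((Subgroup.map_eq_bot_iff_of_injective _ Nq.subtype_injective).mp hbot) hgc, rfl⟩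
    set Y := ⁅Q₀, B⁆ with hY
    have hBQ : B ≤ normalizer (Q₀ : Set G) := hBP.trans hPQ
    have hYQ : Y ≤ Q₀ := Coprime.commutator_le_of_le_normalizer hBQ
    have hYx : Y ≤ centralizer ({x} : Set G) := by
      refine commutator_le.mpr fun q hq b hb => ?_
      obtain ⟨a, ha, c, hc, rfl⟩ := Coprime.exists_mul_of_mem_sup (N := X)
        (H := Q₀ ⊓ centralizer (zpowers x : Set G))
        (inf_le_left.trans ((core_le s P).trans hPX)) (x := q) (by
          refine (Coprime.commutator_sup_centralizer (zpowers_le.mpr hxQ)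
            (h.coprime (h.not_dvd_of_isPGroup hS.weak.prime hne (core_isPGroup s P)))
            (Or.inl (isSolvable_zpowers' x))).ge.trans (sup_le_sup ?_ le_rfl) hq
          exact commutator_mono hQT le_rfl)
      have hcx : Commute c x :=
        (mem_centralizer_iff.mp hc.2 x (mem_zpowers x)).symm
      have hbx : Commute b x := mem_centralizer_singleton_iff.mp (hBx hb)
      have hcbX : ⁅c, b⁆ ∈ centralizer (X : Set G) := by
        rw [commutatorElement_def]
        exact mul_mem ((mem_normalizer_iff.mp (CharPLocal.normalizer_le_normalizer_centralizer _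
          (hPX (core_le s P hc.1))) b).mp (hBX hb)) (inv_mem (hBX hb))
      have h1 : Commute a ⁅c, b⁆ := mem_centralizer_iff.mp hcbX a ha
      have h2 : Commute a b := mem_centralizer_iff.mp (hBX hb) a ha
      have e : ⁅a * c, b⁆ = ⁅c, b⁆ := by
        rw [show ⁅a * c, b⁆ = a * ⁅c, b⁆ * a⁻¹ * ⁅a, b⁆ by
          simp only [commutatorElement_def]; group, h1.eq, mul_inv_cancel_right,
          commutatorElement_eq_one_iff_commute.mpr h2, mul_one]
      rw [e]
      refine mem_centralizer_singleton_iff.mpr (Commute.eq ?_)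
      rw [commutatorElement_def]
      exact ((hcx.mul_left hbx).mul_left hcx.inv_left).mul_left hbx.inv_left
    have hTY : P ≤ normalizer (Y : Set G) :=
      (le_inf hPQ hPB).trans (CharPLocal.inf_normalizer_le_normalizer_commutator _ _)
    have hxY : x ∈ normalizer (Y : Set G) :=
      CharPLocal.inf_normalizer_le_normalizer_commutator _ _
        ⟨hxQ, centralizer_le_normalizer _ (mem_centralizer_iff.mpr fun b hb =>
          mem_centralizer_singleton_iff.mp (hBx hb))⟩
    have hYA : Y ≤ normalizer (A₂ : Set G) := (hYQ.trans hQT).trans hTA₂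
    refine ⟨⁅A₂, Y⁆, fun e => ?_, Coprime.commutator_le_of_le_normalizer hYA, ?_,
      (le_inf hTA₂ (hTP.trans hTY)).trans (CharPLocal.inf_normalizer_le_normalizer_commutator _ _)⟩
    · refine hkey n₀ hn₀ hu₀ ?_
      set Cy := P ⊓ centralizer (Y : Set G) with hCy
      have hPCy : P ≤ normalizer (Cy : Set G) :=
        (le_inf le_normalizer (hTY.trans (CharPLocal.normalizer_le_normalizer_centralizer _))).trans
          inf_normalizer_le_normalizer_inf
      have hgp : IsPGroup s Cy := by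
        intro g
        refine ⟨(orderOf (g : G)).factorization s, Subtype.ext ?_⟩
        rw [SubgroupClass.coe_pow, OneMemClass.coe_one]
        set g' := (g : G) ^ s ^ (orderOf (g : G)).factorization s with hg'
        by_contra hg1
        have hg'P : g' ∈ P := pow_mem g.2.1 _
        have ho : ¬ s ∣ orderOf g' := by
          rw [hg', orderOf_pow, Nat.gcd_eq_right (Nat.ordProj_dvd _ _)]
          exact Nat.not_dvd_ordCompl hS.weak.prime (orderOf_pos (g : G)).ne'
        have hcopg : (orderOf g').Coprime s :=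
          ((hS.weak.prime.coprime_iff_not_dvd).mpr ho).symm
        -- `g'` lies in `B`
        have hgB : g' ∈ B := by
          haveI : (B.subgroupOf P).Normal := (normal_subgroupOf_iff_le_normalizer hBP).mpr hPB
          obtain ⟨k, hk⟩ : ∃ k, B.relIndex P ∣ s ^ k := by
            obtain ⟨k, hk⟩ := IsPGroup.iff_card.mp hTp
            refine ⟨k, ?_⟩
            have htop : B.subgroupOf P ⊔ T.subgroupOf P = ⊤ := by
              rw [← subgroupOf_sup hBP hTP, sup_comm, hsup, subgroupOf_self]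
            rw [← hk, ← Nat.card_congr (subgroupOfEquivOfLe hTP).toEquiv, relIndex,
              ← relIndex_top_right, ← htop, relIndex_sup_left]
            exact relIndex_dvd_card _ _
          have h1 : g' ^ s ^ k ∈ B := by
            obtain ⟨m, hm⟩ := hk
            have := pow_mem (pow_index_mem (B.subgroupOf P) ⟨g', hg'P⟩ :
              (⟨g', hg'P⟩ : ↥P) ^ B.relIndex P ∈ B.subgroupOf P) m
            rw [← pow_mul] at this
            rw [show (B.subgroupOf P).index * m = s ^ k from hm.symm] at this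
            exact this
          obtain ⟨m, hm⟩ := exists_pow_eq_self_of_coprime ((hcopg.pow_right k).symm)
          rw [← hm]; exact pow_mem h1 m
        have hgn : zpowers g' ≤ normalizer (Q₀ : Set G) := zpowers_le.mpr (hPQ hg'P)
        have hgc : (Nat.card (zpowers g')).Coprime (Nat.card Q₀) := by
          obtain ⟨k, hk⟩ := IsPGroup.iff_card.mp (core_isPGroup s P)
          rw [Nat.card_zpowers, hk]; exact hcopg.pow_right k
        have hfix : ⁅Q₀, zpowers g'⁆ = ⊥ := by
          rw [← Coprime.commutator_commutator_eq hgn hgc, commutator_comm,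
            commutator_eq_bot_iff_le_centralizer, zpowers_le, mem_centralizer_iff]
          intro y hy
          have hyY : y ∈ Y := commutator_mono le_rfl (zpowers_le.mpr hgB) hy
          exact mem_centralizer_iff.mp (pow_mem g.2.2 _) y hyY
        rw [commutator_comm, commutator_eq_bot_iff_le_centralizer, zpowers_le] at hfix
        obtain ⟨k, hk⟩ := core_isPGroup s P ⟨g', hchar ⟨hg'P, hfix⟩⟩
        exact hg1 (orderOf_eq_one_iff.mp (Nat.eq_one_of_dvd_coprimes (hcopg.pow_right k) dvd_rfl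
          (orderOf_dvd_of_pow_eq_one (congrArg Subtype.val hk))))
      exact (le_inf (hA₂T.trans hTP) (commutator_eq_bot_iff_le_centralizer.mp e)).trans
        (le_core inf_le_left hPCy hgp)
    · refine centralizer_le_normalizer _ (mem_centralizer_iff.mpr fun a ha => ?_)
      have hYle : ⁅A₂, Y⁆ ≤ Y := by
        rw [commutator_comm]
        exact Coprime.commutator_le_of_le_normalizer ((hA₂T.trans hTP).trans hTY)
      exact mem_centralizer_singleton_iff.mp (hYx (hYle ha))
  obtain ⟨M', hM', hxM', hle'⟩ := h.exists_coatom_normalizer hS ((hTp.to_le hA₂T).to_le hK₁A)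
    hK₁ne hxK₁
  have hTM' : T ≤ M' := hTK₁.trans hle'
  have hBn : B.map (MulAut.conj n₀).toMonoidHom ≤ M' := by
    rintro _ ⟨b, hb, rfl⟩
    refine hle' (centralizer_le_normalizer _ (mem_centralizer_iff.mpr fun a ha => ?_))
    obtain ⟨a, ha', rfl⟩ := hK₁A ha
    have h1 : Commute a b := mem_centralizer_iff.mp (hBX hb) a ha'
    exact (h1.map (MulAut.conj n₀).toMonoidHom).eq
  set P' := P.map (MulAut.conj n₀).toMonoidHom with hP'
  have hP'M : P' ≤ M' := by
    rw [hP', ← hsup, Subgroup.map_sup]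
    refine sup_le ((mem_normalizer_iff_map_conj_eq.mp (hNT hn₀)).le.trans hTM') hBn
  have hTP' : T ≤ P' := by
    rw [← mem_normalizer_iff_map_conj_eq.mp (hNT hn₀)]
    exact map_mono hTP
  have hXM : X ≤ core s P' := by
    have h1 : X ≤ core s M' := ((h.typed_of_pureT hS hT hM' hxM' hTM').le_part T hTp hTM' hxT).trans
      (xPart_le hxM')
    exact (le_inf h1 (hXT.trans hTP')).trans (inf_core_le_core hP'M)
  refine hkey n₀⁻¹ (inv_mem hn₀) (fun hu => hu₀ ?_) ?_
  · have : ⁅n₀, x⁆ = n₀ * ⁅n₀⁻¹, x⁆⁻¹ * n₀⁻¹ := by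
      simp only [commutatorElement_def]; group
    rw [this]
    exact (mem_normalizer_iff.mp (hNT hn₀) _).mp (inv_mem hu)
  · refine (map_mono hXM).trans ?_
    refine le_core ?_ ?_ ((core_isPGroup s P').map _)
    · refine (map_mono (core_le s P')).trans (le_of_eq ?_)
      rw [hP', map_map]
      convert Subgroup.map_id P
      ext a
      simp [mul_assoc]
    · intro g hg
      rw [mem_normalizer_iff_map_conj_eq, map_map]
      have h1 : n₀ * g * n₀⁻¹ ∈ normalizer (core s P' : Set G) :=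
        le_normalizer_core s P' ⟨g, hg, rfl⟩
      conv_rhs => rw [← mem_normalizer_iff_map_conj_eq.mp h1, map_map]
      congr 1
      ext a
      simp [mul_assoc]

end Ctx

end CfsgLib.TwoGenSolv66
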