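import Cfsg.Agent.TwoGenSolv66.Push

/-!
# Equality of `x`-parts

* `Ctx.fixed_le_of_max` : the fixed elements of `M` lie in `J`, by the blocks of a minimal
  counterexample modulo its `O_{s'}`.
* `Ctx.xPart_eq` : members sharing an invariant group with an avoiding object have one `x`-part.
* `Ctx.centralizer_le_normalizer_xPart` : `C(x)` normalises it.
-/

set_option autoImplicit false
set_option linter.unusedSectionVars false
set_option linter.unusedVariables false
set_option linter.style.haveILetI false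

open scoped commutatorElement Pointwise

namespace CfsgLib.TwoGenSolv66

open Subgroup CfsgLib.SolvSig CfsgLib.Transitivity

universe u

variable {G : Type u} [Group G] [Finite G] {p : ℕ} [hp : Fact p.Prime] {x : G} {s : ℕ}
  {F : Finset (Subgroup G)}

namespace Ctx

variable (h : Ctx G p x) (hS : Setup p x s F)
include h hS

/-- The fixed elements of `M` lie in `J`. -/
theorem fixed_le_of_max {T M J N : Subgroup G} (hT : PureT p x s F T) (hM : IsCoatom M)
    (hxM : x ∈ M) (hTM : T ≤ M)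
    (hmax : ∀ R : Subgroup G, IsPGroup s R → R ≤ M → x ∈ normalizer (R : Set G) → T ≤ R → R = T)
    (hJ : IsCoatom J) (hxJ : x ∈ J) (hTJ : T ≤ J)
    (hgood : ∀ M' : Subgroup G, IsCoatom M' → x ∈ M' → ∀ T' : Subgroup G, IsPGroup s T' →
      x ∈ normalizer (T' : Set G) → T < T' → T' ≤ M' → M' ⊓ centralizer ({x} : Set G) ≤ J)
    (hN : IsPGroup s N) (hxN : x ∈ normalizer (N : Set G)) (hTN : T < N)
    (hNT : N ≤ normalizer (T : Set G)) :
    M ⊓ centralizer ({x} : Set G) ≤ J := by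
  haveI := Fact.mk hS.weak.prime
  by_contra hC
  obtain ⟨-, hX⟩ := h.xPart_eq_of_max hS hT hM hxM hTM hmax
  set X := ⁅T, zpowers x⁆ with hXd
  have hne := hS.weak.ne
  obtain ⟨havX, hXT⟩ := hT.avoids_commutator h hS.weak.prime hne
  set F₁ := X ⊔ M ⊓ centralizer ({x} : Set G) with hF₁
  have hTF : T ≤ F₁ := by
    refine (Coprime.commutator_sup_centralizer (zpowers_le.mpr hT.2.1)
      (h.coprime (h.not_dvd_of_isPGroup hS.weak.prime hne hT.1))
      (Or.inl (isSolvable_zpowers' x))).ge.trans (sup_le_sup le_rfl ?_)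
    rw [centralizer_singleton_eq]
    exact inf_le_inf_right _ hTM
  have hFM : F₁ ≤ M := sup_le (hXT.trans hTM) inf_le_left
  obtain ⟨P, hPmin⟩ := (Set.toFinite {P : Subgroup G | T ≤ P ∧ P ≤ F₁ ∧ ¬ P ≤ J}).exists_minimal
    ⟨F₁, hTF, le_rfl, fun e => hC (le_sup_right.trans e)⟩
  obtain ⟨hTP, hP, hPJ⟩ := hPmin.prop
  have hmin : ∀ H : Subgroup G, T ≤ H → H ≤ P → H ≠ P → H ≤ J := fun H hTH hHP hne' => by
    by_contra hHJ
    exact hne' (le_antisymm hHP (hPmin.2 ⟨hTH, hHP.trans hP, hHJ⟩ hHP))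
  obtain ⟨hxP, hPX, hPx, -⟩ := h.mid_facts hS hT hM hxM hTM hJ hxJ hTJ hTP hP hX
  have hsyl : ¬ s ∣ T.relIndex P := by
    obtain ⟨R, hR⟩ := (hT.1.comap_subtype (K := P)).exists_le_sylow
    set R' := (R : Subgroup ↥P).map P.subtype
    have hTR : T ≤ R' := fun t ht => ⟨⟨t, hTP ht⟩, hR ht, rfl⟩
    have hRP : R' ≤ P := map_subtype_le _
    obtain ⟨hxR, -, -, -⟩ := h.mid_facts hS hT hM hxM hTM hJ hxJ hTJ hTR (hRP.trans hP) hX
    have e := hmax R' (R.2.map _) ((hRP.trans hP).trans hFM) hxR hTR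
    rw [relIndex, ← e, subgroupOf, comap_map_eq_self_of_injective P.subtype_injective]
    exact R.not_dvd_index
  have hne' := h.sup_fixed_ne hS hT hM hxM hTM hmax hJ hxJ hTJ hgood hX hTP hP hPJ hmin hsyl
    hN hxN hTN hNT
  set B := P ⊓ centralizer ({x} : Set G) ⊓ centralizer ((X : Subgroup G) : Set G) with hBd
  have hBJ : B ≤ J :=
    le_sup_right.trans (hmin _ le_sup_left (sup_le hTP (inf_le_left.trans inf_le_left)) hne')
  -- `O_{s'}(P)`
  set O' := core' s P with hO'
  have hO'cop : (Nat.card O').Coprime s := card_core'_coprime s P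
  have hdisj : ∀ {S : Subgroup G}, IsPGroup s S → S ⊓ O' = ⊥ := fun hS' =>
    PLocal.disjoint_of_isPGroup_of_coprime hS' hO'cop
  have hPO : P ≤ normalizer (O' : Set G) := le_normalizer.trans (normalizer_le_normalizer_core' s P)
  have hxO : x ∈ normalizer (O' : Set G) := normalizer_le_normalizer_core' s P hxP
  have hXP : X ≤ P := hXT.trans hTP
  have hO'B : O' ≤ B := by
    refine le_inf (le_inf (core'_le s P) ?_) ?_
    · have h1 : ⁅O', zpowers x⁆ ≤ X ⊓ O' := le_inf
        ((commutator_mono (core'_le s P) le_rfl).trans hPx)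
        (Coprime.commutator_le_of_le_normalizer (zpowers_le.mpr hxO))
      rw [hdisj havX.1.isPGroup, le_bot_iff, commutator_eq_bot_iff_le_centralizer] at h1
      rwa [centralizer_singleton_eq]
    · rw [← commutator_eq_bot_iff_le_centralizer, ← le_bot_iff, ← hdisj havX.1.isPGroup]
      refine le_inf ?_ (Coprime.commutator_le_of_le_normalizer (hXP.trans hPO))
      rw [commutator_comm]
      exact Coprime.commutator_le_of_le_normalizer ((core'_le s P).trans hPX)
  have hO'J : O' ≤ J := hO'B.trans hBJ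
  -- the quotient
  set Nn := normalizer (O' : Set G) with hNn
  set O₁ := O'.subgroupOf Nn
  haveI : O₁.Normal := (normal_subgroupOf_iff_le_normalizer le_normalizer).mpr le_rfl
  let π := QuotientGroup.mk' O₁
  let φ : ↥P →* ↥Nn ⧸ O₁ := π.comp (inclusion hPO)
  have hφ : ∀ g g' : ↥P, φ g = φ g' ↔ (g : G)⁻¹ * g' ∈ O' := fun g g' => by
    show π _ = π _ ↔ _
    rw [QuotientGroup.mk'_eq_mk']
    constructor
    · rintro ⟨z, hz, hze⟩
      have e : (z : G) = (g : G)⁻¹ * g' := by
        have := congrArg Subtype.val hze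
        simp only [Subgroup.coe_mul, coe_inclusion] at this
        rw [← this]; group
      rw [← e]; exact hz
    · intro hm
      exact ⟨(inclusion hPO g)⁻¹ * inclusion hPO g', hm, mul_inv_cancel_left _ _⟩
  have hker : φ.ker = Cfsg.pPrimeCore s ↥P := by
    ext g
    rw [MonoidHom.mem_ker, ← map_one φ, eq_comm, hφ]
    simp only [Subgroup.coe_one, inv_one, one_mul, hO', core']
    exact ⟨fun ⟨k, hk, hkg⟩ => (P.subtype_injective hkg) ▸ hk, fun hg => ⟨g, hg, rfl⟩⟩
  set Pb := φ.range with hPb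
  let Ψ : ↥T →* ↥Nn ⧸ O₁ := φ.comp (inclusion hTP)
  have hΨ : Function.Injective Ψ := by
    intro a b e
    have h1 := (hφ _ _).mp e
    simp only [coe_inclusion] at h1
    have h2 : (a : G)⁻¹ * b ∈ T ⊓ O' := mem_inf.2 ⟨mul_mem (inv_mem a.2) b.2, h1⟩
    rw [hdisj hT.1, mem_bot, inv_mul_eq_one] at h2
    exact Subtype.ext h2
  set Tb := Ψ.range with hTb
  let e : ↥T ≃* ↥Tb := MonoidHom.ofInjective hΨ
  set Mb := (J.subgroupOf Nn).map π
  have hTP' : Tb ≤ Pb := by rintro _ ⟨t, rfl⟩; exact ⟨_, rfl⟩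
  have hPM : ¬ Pb ≤ Mb := fun hle => hPJ fun g hg => by
    obtain ⟨j, hj, hje⟩ := hle ⟨⟨g, hg⟩, rfl⟩
    obtain ⟨z, hz, hze⟩ := (QuotientGroup.mk'_eq_mk' _).mp hje
    have h1 : ((j * z : ↥Nn) : G) = g := congrArg Subtype.val hze
    rw [← h1]
    exact mul_mem hj (hO'J hz)
  haveI : Group.IsSolvable ↥M := h.hyp.sub M hM.1
  haveI : Group.IsSolvable ↥P := isSolvable_of_comm_le (h.hyp.sub M hM.1) (hP.trans hFM)
  have hPbs : Group.IsSolvable ↥Pb := Group.isSolvable_of_surjective φ.rangeRestrict_surjective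
  set x' : ↥Nn ⧸ O₁ := π ⟨x, hxO⟩
  have hxPb : x' ∈ normalizer (Pb : Set (↥Nn ⧸ O₁)) := LocalStructure.mem_normalizer_of_forall (by
    rintro _ ⟨g, rfl⟩
    refine ⟨⟨x * (g : G) * x⁻¹, (mem_normalizer_iff.mp hxP _).mp g.2⟩, ?_⟩
    show π _ = π _ * π _ * (π _)⁻¹
    rw [← map_inv, ← map_mul, ← map_mul]
    rfl)
  have hXcore : ∀ a ∈ X, ∀ ha : a ∈ P, φ ⟨a, ha⟩ ∈ core s Pb := by
    intro a ha haP
    refine (le_core (K := Pb) (X := (X.subgroupOf P).map φ) ?_ ?_ ((havX.1.isPGroup.comap_subtype).map φ)) ⟨⟨a, haP⟩, ha, rfl⟩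
    · rintro _ ⟨g, -, rfl⟩; exact ⟨g, rfl⟩
    · rintro _ ⟨g, rfl⟩
      haveI : (X.subgroupOf P).Normal := (normal_subgroupOf_iff_le_normalizer hXP).mpr hPX
      exact le_normalizer_map φ ⟨g, (normalizer_eq_top (X.subgroupOf P)).ge (mem_top _), rfl⟩
  obtain ⟨E, hEP, hEM, hEx, hEE⟩ := exists_block (G := ↥Nn ⧸ O₁) (p := p) (s := s) h.five
    hS.weak.small (P := Pb) (T := Tb) (M := Mb) hPbs hTP'
    (hT.1.of_surjective _ Ψ.rangeRestrict_surjective) (by
      have hd : Nat.card Pb ∣ Nat.card P := card_range_dvd φ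
      have h1 : Nat.card Tb * Tb.relIndex Pb = Nat.card Pb := PLocal.card_mul_relIndex hTP'
      have h2 : Nat.card T * T.relIndex P = Nat.card P := PLocal.card_mul_relIndex hTP
      have h3 : Nat.card Tb = Nat.card T := (Nat.card_congr e.toEquiv).symm
      rw [← h1, ← h2, h3, Nat.mul_dvd_mul_iff_left Nat.card_pos] at hd
      exact fun hh => hsyl (hh.trans hd))
    (by
      intro g hg
      haveI := hPbs
      have hbot : Cfsg.pPrimeCore s ↥Pb = ⊥ := by
        let e₂ : (↥P ⧸ Cfsg.pPrimeCore s ↥P) ≃* ↥Pb :=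
          (QuotientGroup.quotientMulEquivOfEq hker.symm).trans (QuotientGroup.quotientKerEquivRange φ)
        rw [← PLocal.map_pPrimeCore_equiv e₂, PLocal.pPrimeCore_quotient_pPrimeCore_eq_bot,
          Subgroup.map_bot]
      refine ⟨⟨g, hg.1⟩, PLocal.centralizer_pCore_le PLocal.isPSolvable_of_isSolvable hbot
        (mem_centralizer_iff.mpr fun z hz => Subtype.ext
          (mem_centralizer_iff.mp hg.2 z ⟨z, hz, rfl⟩)), rfl⟩)
    hPM (by
      rintro _ ⟨t, rfl⟩
      exact ⟨inclusion hPO (inclusion hTP t), hTJ t.2, rfl⟩)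
    (by
      intro H hTH hHP hne'' y hy
      set H' := (H.comap φ).map P.subtype
      have hTH' : T ≤ H' := fun t ht => ⟨⟨t, hTP ht⟩, hTH ⟨⟨t, ht⟩, rfl⟩, rfl⟩
      have hH'J : H' ≤ J := hmin _ hTH' (map_subtype_le _) fun e' => hne'' (le_antisymm hHP (by
        rintro _ ⟨g, rfl⟩
        obtain ⟨k, hk, hkg⟩ := e'.ge g.2
        rw [← (P.subtype_injective hkg : k = g)]; exact hk))
      obtain ⟨g, rfl⟩ := hHP hy
      exact ⟨inclusion hPO g, hH'J ⟨g, hy, rfl⟩, rfl⟩)
    (by
      intro C hCc hCne y hy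
      obtain ⟨⟨g, rfl⟩, hyN⟩ := hy
      set C₀ := C.comap e.toMonoidHom with hC₀
      haveI : C₀.Characteristic := characteristic_iff_map_le.mpr fun θ => by
        rintro _ ⟨c, hc, rfl⟩
        refine (characteristic_iff_map_eq.mp hCc ((e.symm.trans θ).trans e)).le ⟨e c, hc, ?_⟩
        simp
      set C' := C₀.map T.subtype
      have hC'T : C' ≤ T := map_subtype_le _
      have hC'ne : C' ≠ ⊥ := fun e' => hCne (by
        have h1 := (Subgroup.map_eq_bot_iff_of_injective _ T.subtype_injective).mp e'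
        rw [← map_comap_eq_self_of_surjective (f := e.toMonoidHom) e.surjective C, ← hC₀, h1,
          Subgroup.map_bot])
      have hC'O : C' ≤ normalizer (O' : Set G) := (hC'T.trans hTP).trans hPO
      set g' : G := (g : G)
      set D := C'.map (MulAut.conj g').toMonoidHom
      have hDle : D ≤ O' ⊔ C' := by
        rintro _ ⟨_, ⟨c, hc, rfl⟩, rfl⟩
        have hyc : φ g * ((e c : ↥Tb) : ↥Nn ⧸ O₁) * (φ g)⁻¹ ∈ C.map Tb.subtype :=
          (mem_normalizer_iff.mp hyN _).mp ⟨e c, hc, rfl⟩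
        obtain ⟨c', hc', hce⟩ := hyc
        obtain ⟨c', rfl⟩ := e.surjective c'
        have h1 : φ (g * inclusion hTP c * g⁻¹) = φ (inclusion hTP c') := by
          rw [map_mul, map_mul, map_inv]; exact hce.symm
        have h2 := (hφ _ _).mp h1
        simp only [Subgroup.coe_mul, Subgroup.coe_inv, coe_inclusion] at h2
        show g' * (c : G) * g'⁻¹ ∈ _
        have h3 := mul_mem (mem_sup_right (S := O') (T := C') ⟨c', hc', rfl⟩)
          (mem_sup_left (T := C') (inv_mem h2))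
        have h4 : (c' : G) * ((g' * (c : G) * g'⁻¹)⁻¹ * (c' : G))⁻¹ = g' * (c : G) * g'⁻¹ := by group
        rw [← h4]; exact h3
      have hDO : D ≤ normalizer (O' : Set G) := by
        rintro _ ⟨c, hc, rfl⟩
        exact mul_mem (mul_mem (hPO g.2) (hC'O hc)) (inv_mem (hPO g.2))
      have hDc : Nat.card D = Nat.card C' := card_map_of_injective (MulAut.conj g').injective
      have hDp : IsPGroup s D := ((hT.1.to_le hC'T).map _)
      have hcop : (Nat.card O').Coprime (Nat.card C') := by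
        obtain ⟨k, hk⟩ := IsPGroup.iff_card.mp (hT.1.to_le hC'T)
        rw [hk]; exact hO'cop.pow_right k
      have heq : O' ⊔ D = O' ⊔ C' := eq_of_le_of_card_ge (sup_le le_sup_left hDle) (le_of_eq (by
        rw [Coprime.card_sup_eq hC'O (Coprime.inf_eq_bot_of_coprime hcop),
          Coprime.card_sup_eq hDO (Coprime.inf_eq_bot_of_coprime (hDc ▸ hcop)), hDc]))
      obtain ⟨n, hn, hconj⟩ := Coprime.exists_conj_eq_of_sup_eq hDO hC'O (hDc ▸ hcop) hDc.symm heq
        (Or.inl (isSolvable_of_comm_le (h.hyp.sub M hM.1) ((core'_le s P).trans (hP.trans hFM))))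
      have hngC : n * g' ∈ normalizer (C' : Set G) := by
        rw [Coprime.mem_normalizer_iff_conj_smul_eq, ← Coprime.conj_smul_conj_smul]
        exact hconj
      obtain ⟨M', hM', hxM', hle⟩ := h.exists_coatom_normalizer hS (hT.1.to_le hC'T) hC'ne
        (normalizer_le_normalizer_map_char T C₀ hT.2.1)
      have hNM : N ≤ M' := (hNT.trans (normalizer_le_normalizer_map_char T C₀)).trans hle
      have hfix := hgood M' hM' hxM' N hN hxN hTN hNM
      obtain ⟨-, -, -, hPM'⟩ := h.mid_facts hS hT hM hxM hTM hJ hxJ hTJ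
        (le_inf hTP (hTN.le.trans hNM)) ((inf_le_left : P ⊓ M' ≤ P).trans hP) hX
      have hmem := hPM' ((le_inf (inf_le_left.trans inf_le_right) inf_le_right).trans hfix)
        (mem_inf.2 ⟨mul_mem (core'_le s P hn) g.2, hle hngC⟩)
      have hgJ : g' ∈ J := by
        have := mul_mem (inv_mem (hO'J hn)) hmem; rwa [inv_mul_cancel_left] at this
      exact ⟨inclusion hPO g, hgJ, rfl⟩)
    (x := x') (by rw [← map_pow, show (⟨x, hxO⟩ : ↥Nn) ^ p = 1 from Subtype.ext h.pow_eq, map_one])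
    hxPb (by
      refine commutator_le.mpr ?_
      rintro _ ⟨g, rfl⟩ y hy
      obtain ⟨i, rfl⟩ := mem_zpowers_iff.mp hy
      have hu : ⁅(g : G), x ^ i⁆ ∈ X :=
        hPx (commutator_mem_commutator g.2 (zpow_mem (mem_zpowers x) i))
      have h1 := hXcore _ hu (hXP hu)
      convert h1 using 1
      show ⁅π _, π _ ^ i⁆ = π _
      rw [← map_zpow, ← map_commutatorElement]
      exact congrArg π (Subtype.ext (by simp [commutatorElement_def])))
  -- the preimage of the block lies in `B`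
  set E' := (E.comap φ).map P.subtype
  have hE'P : E' ≤ P := map_subtype_le _
  have hE'x : E' ≤ centralizer ({x} : Set G) := by
    rintro _ ⟨g, hg, rfl⟩
    have hc : Commute (φ g) x' := mem_centralizer_singleton_iff.mp (hEx hg)
    have hu : ⁅(g : G), x⁆ ∈ X := hPx (commutator_mem_commutator g.2 (mem_zpowers x))
    have h1 : φ 1 = φ ⟨⁅(g : G), x⁆, hXP hu⟩ := by
      rw [map_one, ← commutatorElement_eq_one_iff_commute.mpr hc]
      show ⁅π _, π _⁆ = π _
      rw [← map_commutatorElement]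
      exact congrArg π (Subtype.ext (by simp [commutatorElement_def]))
    have h2 := (hφ _ _).mp h1
    simp only [Subgroup.coe_one, inv_one, one_mul] at h2
    have h3 : ⁅(g : G), x⁆ ∈ X ⊓ O' := mem_inf.2 ⟨hu, h2⟩
    rw [hdisj havX.1.isPGroup, mem_bot] at h3
    exact mem_centralizer_singleton_iff.mpr (commutatorElement_eq_one_iff_commute.mp h3)
  have hXE : ⁅X, E'⁆ ≤ E' := by
    refine commutator_le.mpr ?_
    rintro a ha _ ⟨g, hg, rfl⟩
    refine ⟨⁅(⟨a, hXP ha⟩ : ↥P), g⁆, ?_, by simp [commutatorElement_def]⟩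
    show φ _ ∈ E
    rw [map_commutatorElement]
    exact hEE (commutator_mem_commutator (hXcore a ha _) hg)
  have hE'X : E' ≤ centralizer ((X : Subgroup G) : Set G) := by
    have h1 : ⁅⁅X, E'⁆, zpowers x⁆ = ⊥ := by
      rw [commutator_eq_bot_iff_le_centralizer]
      refine (hXE.trans hE'x).trans ?_
      rw [centralizer_singleton_eq]
    have h2 : ⁅⁅E', zpowers x⁆, X⁆ = ⊥ := by
      have : ⁅E', zpowers x⁆ = ⊥ := by
        rw [commutator_eq_bot_iff_le_centralizer, ← centralizer_singleton_eq]; exact hE'x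
      rw [this, commutator_bot_left]
    have h3 := commutator_commutator_eq_bot_of_rotate h1 h2
    rw [commutator_comm (zpowers x) X, havX.1.eq, commutator_comm,
      commutator_eq_bot_iff_le_centralizer] at h3
    exact h3
  have hE'J : E' ≤ J := (le_inf (le_inf hE'P hE'x) hE'X).trans hBJ
  refine hEM fun y hy => ?_
  obtain ⟨g, rfl⟩ := hEP hy
  exact ⟨inclusion hPO g, hE'J ⟨g, hy, rfl⟩, rfl⟩

/-- Members sharing an invariant group with an avoiding object have the same `x`-part. -/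
theorem xPart_eq {T M₁ M₂ : Subgroup G} (hT : PureT p x s F T) (hM₁ : IsCoatom M₁) (hx₁ : x ∈ M₁)
    (hT₁ : T ≤ M₁) (hM₂ : IsCoatom M₂) (hx₂ : x ∈ M₂) (hT₂ : T ≤ M₂) :
    xPart s x M₁ = xPart s x M₂ := by
  haveI := Fact.mk hS.weak.prime
  obtain ⟨n, hn⟩ : ∃ n, Nat.card G - Nat.card T = n := ⟨_, rfl⟩
  induction n using Nat.strong_induction_on generalizing T M₁ M₂ with
  | _ n ih =>
  have hne := hS.weak.ne
  -- the inductive hypothesis
  have IH : ∀ {T' M M' : Subgroup G}, IsPGroup s T' → x ∈ normalizer (T' : Set G) → T < T' →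
      IsCoatom M → x ∈ M → T' ≤ M → IsCoatom M' → x ∈ M' → T' ≤ M' →
      xPart s x M = xPart s x M' := by
    intro T' M M' hp' hx' hlt hM hxM hTM hM' hxM' hTM'
    have h1 : Nat.card T < Nat.card T' :=
      Set.ncard_lt_ncard (SetLike.coe_ssubset_coe.mpr hlt) (Set.toFinite _)
    have h2 : Nat.card T' ≤ Nat.card G := T'.card_le_card_group
    exact ih _ (by omega) (hT.mono hp' hx' hlt.le) hM hxM hTM hM' hxM' hTM' rfl
  by_cases hR : ∃ R : Subgroup G, IsPGroup s R ∧ x ∈ normalizer (R : Set G) ∧ T < R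
  swap
  · push Not at hR
    have key : ∀ M : Subgroup G, IsCoatom M → x ∈ M → T ≤ M → xPart s x M = ⁅T, zpowers x⁆ :=
      fun M hM hxM hTM => (h.xPart_eq_of_max hS hT hM hxM hTM fun R hR' hRM hxR hle => by
        by_contra e
        exact hR R hR' hxR (lt_of_le_of_ne hle (Ne.symm e))).2
    rw [key M₁ hM₁ hx₁ hT₁, key M₂ hM₂ hx₂ hT₂]
  obtain ⟨R, hRp, hxR, hTR⟩ := hR
  -- growing inside normalisers
  have hgrow : ∀ R' : Subgroup G, IsPGroup s R' → x ∈ normalizer (R' : Set G) → T < R' →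
      IsPGroup s ↥(R' ⊓ normalizer (T : Set G)) ∧
        x ∈ normalizer ((R' ⊓ normalizer (T : Set G) : Subgroup G) : Set G) ∧
        T < R' ⊓ normalizer (T : Set G) := fun R' hp' hx' hlt =>
    ⟨hp'.to_le inf_le_left, inf_normalizer_le_normalizer_inf ⟨hx', le_normalizer hT.2.1⟩,
      lt_of_le_of_ne (le_inf hlt.le le_normalizer) fun e => by
        have := exists_gt_inf_normalizer hp' hlt
        rw [← e] at this; exact this.false⟩
  obtain ⟨J₁, hJ₁, hxJ₁, hNJ₁⟩ := h.exists_coatom_normalizer hS hT.1 hT.ne_bot hT.2.1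
  obtain ⟨hNp, hxN, hTN⟩ := hgrow R hRp hxR hTR
  set N := R ⊓ normalizer (T : Set G)
  have hNJ : N ≤ J₁ := inf_le_right.trans hNJ₁
  have hTJ₁ : T ≤ J₁ := le_normalizer.trans hNJ₁
  -- members with bigger groups have the `x`-part of `J₁`
  have hbig : ∀ M : Subgroup G, IsCoatom M → x ∈ M → ∀ T' : Subgroup G, IsPGroup s T' →
      x ∈ normalizer (T' : Set G) → T < T' → T' ≤ M → xPart s x M = xPart s x J₁ := by
    intro M hM hxM T' hp' hx' hlt hle
    obtain ⟨h1, h2, h3⟩ := hgrow T' hp' hx' hlt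
    exact IH h1 h2 h3 hM hxM (inf_le_left.trans hle) hJ₁ hxJ₁ (inf_le_right.trans hNJ₁)
  suffices key : ∀ M : Subgroup G, IsCoatom M → x ∈ M → T ≤ M → xPart s x M = xPart s x J₁ from
    (key M₁ hM₁ hx₁ hT₁).trans (key M₂ hM₂ hx₂ hT₂).symm
  intro M hM hxM hTM
  by_cases hmax : ∀ R : Subgroup G, IsPGroup s R → R ≤ M → x ∈ normalizer (R : Set G) → T ≤ R →
      R = T
  swap
  · push Not at hmax
    obtain ⟨R', hp', hle, hx', hTR', hne'⟩ := hmax
    exact hbig M hM hxM R' hp' hx' (lt_of_le_of_ne hTR' (Ne.symm hne')) hle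
  -- the member over the normaliser of the `x`-part of `J₁`
  set XJ := xPart s x J₁ with hXJ
  have hXJne := (h.core_ne_bot hS hT hJ₁ hxJ₁ hTJ₁).1
  have hcn : ∀ {M : Subgroup G}, x ∈ M →
      M ⊓ centralizer ({x} : Set G) ≤ normalizer (xPart s x M : Set G) := by
    intro M hxM c hc
    refine CharPLocal.inf_normalizer_le_normalizer_commutator _ _
      ⟨le_normalizer_core s M hc.1, centralizer_le_normalizer _ ?_⟩
    rw [← centralizer_singleton_eq]
    exact hc.2
  have hXJp : IsPGroup s XJ := (core_isPGroup s J₁).to_le (xPart_le hxJ₁)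
  obtain ⟨J, hJ, hxJ, hXJJ⟩ := h.exists_coatom_normalizer hS hXJp hXJne
    (normalizer_commutator_ge_right _ _ (mem_zpowers x))
  have hNXJ : N ≤ normalizer (XJ : Set G) := by
    refine (Coprime.commutator_sup_centralizer (zpowers_le.mpr hxN)
      (h.coprime (h.not_dvd_of_isPGroup hS.weak.prime hne hNp))
      (Or.inl (isSolvable_zpowers' x))).ge.trans (sup_le ?_ ?_)
    · exact ((h.typed_of_pureT hS hT hJ₁ hxJ₁ hTJ₁).le_part N hNp hNJ hxN).trans le_normalizer
    · rw [← centralizer_singleton_eq]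
      exact (inf_le_inf_right _ hNJ).trans (hcn hxJ₁)
  have hTJ : T ≤ J := (hTN.le.trans hNXJ).trans hXJJ
  have hXe : xPart s x J = XJ := hbig J hJ hxJ N hNp hxN hTN (hNXJ.trans hXJJ)
  have hfix : M ⊓ centralizer ({x} : Set G) ≤ J :=
    h.fixed_le_of_max hS hT hM hxM hTM hmax hJ hxJ hTJ (fun M' hM' hxM' T' hp' hx' hlt hle => by
      have h1 := hcn hxM'
      rw [hbig M' hM' hxM' T' hp' hx' hlt hle] at h1
      exact h1.trans hXJJ) hNp hxN hTN inf_le_right
  obtain ⟨hQT, hX⟩ := h.xPart_eq_of_max hS hT hM hxM hTM hmax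
  have hTy := h.typed_of_pureT hS hT hM hxM hTM
  have hXT : xPart s x M ≤ T := (xPart_le hxM).trans hQT
  -- `O_s(J)` lies in `O_s(M)`
  have hD : core s J ⊓ M ≤ core s M := hTy.core_le _ ((core_isPGroup s J).to_le inf_le_left)
    inf_le_right (inf_normalizer_le_normalizer_inf ⟨le_normalizer_core s J hxJ, le_normalizer hxM⟩)
    ((le_inf ((hXT.trans hTJ).trans (le_normalizer_core s J))
      ((hXT.trans hTM).trans le_normalizer)).trans inf_normalizer_le_normalizer_inf)
    ((le_inf (hfix.trans (le_normalizer_core s J)) (inf_le_left.trans le_normalizer)).trans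
      inf_normalizer_le_normalizer_inf)
  have hQJ : core s J ≤ core s M := by
    set Q₁ := core s M
    by_contra hnle
    have hS' : IsPGroup s ↥(core s J ⊔ Q₁) := (core_isPGroup s J).to_sup_of_normal_left'
      (core_isPGroup s M) ((hQT.trans hTJ).trans (le_normalizer_core s J))
    have hlt : Q₁ < core s J ⊔ Q₁ :=
      lt_of_le_of_ne le_sup_right fun e => hnle (le_sup_left.trans e.ge)
    have h1 := exists_gt_inf_normalizer hS' hlt
    obtain ⟨Mq, hMq, hxMq, hleq⟩ := h.exists_coatom_normalizer hS (core_isPGroup s M)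
      (h.core_ne_bot hS hT hM hxM hTM).2 (le_normalizer_core s M hxM)
    have hMM : normalizer (Q₁ : Set G) ≤ M := by
      rcases hM.le_iff.mp (le_normalizer_core s M) with e | e
      · exact absurd (top_le_iff.mp (e ▸ hleq)) hMq.1
      · exact e.le
    have h2 : (core s J ⊔ Q₁) ⊓ normalizer (Q₁ : Set G) ≤ Q₁ := by
      intro g hg
      obtain ⟨a, ha, c, hc, rfl⟩ := Coprime.exists_mul_of_mem_sup
        ((hQT.trans hTJ).trans (le_normalizer_core s J)) hg.1
      refine mul_mem (hD ⟨ha, ?_⟩) hc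
      have := mul_mem (hMM hg.2) (inv_mem (core_le s M hc))
      rwa [mul_inv_cancel_right] at this
    exact h1.not_ge (Nat.card_le_card_of_injective _ (inclusion_injective h2))
  refine le_antisymm ?_ ?_
  · rw [hX, ← hXe]
    exact (h.typed_of_pureT hS hT hJ hxJ hTJ).le_part T hT.1 hTJ hT.2.1
  · rw [hX, ← hXe]
    exact commutator_mono (hQJ.trans hQT) le_rfl

end Ctx

end CfsgLib.TwoGenSolv66
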