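import Cfsg.Agent.TwoGenSolv66.Basic
import Cfsg.Agent.OddOrder.BG11.Groups
import Cfsg.Agent.OddOrder.BG4.Basic
import Cfsg.Agent.Transfer.Critical
import Cfsg.Agent.LocalEven48.KlingerMason.Basic

/-!
# Rank three in moved groups

* class two groups of exponent `r`, and class two 2-groups with large quotient, have every element
  of order `r` in an elementary abelian subgroup of order `r ^ 3`;
* an `r`-group moved by an element of order `p > r`, `p ≥ 5`, has rank at least three, except for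
  `(r, p) = (2, 5)`.
-/

set_option autoImplicit false
set_option linter.unusedSectionVars false
set_option linter.unusedVariables false
set_option linter.style.haveILetI false

open scoped commutatorElement

namespace CfsgLib.TwoGenSolv66

open Subgroup CfsgLib.SolvSig CfsgLib.Transitivity

/-- An elementary abelian subgroup of order at least `r ^ 3`. -/
def HasRank3 {G : Type*} [Group G] (r : ℕ) (R : Subgroup G) : Prop :=
  ∃ E, E ≤ R ∧ Cfsg.IsElementaryAbelian r E ∧ r ^ 3 ≤ Nat.card E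

/-- A point: an element of order `r` centralising an elementary abelian group of order `r ^ 3`. -/
def IsPoint {G : Type*} [Group G] (r : ℕ) (a : G) : Prop :=
  orderOf a = r ∧ HasRank3 r (centralizer ({a} : Set G))

variable {G : Type*} [Group G] [Finite G]

theorem HasRank3.mono {r : ℕ} {R S : Subgroup G} (h : HasRank3 r R) (hRS : R ≤ S) :
    HasRank3 r S := h.imp fun _ hE => ⟨hE.1.trans hRS, hE.2⟩

theorem isPoint_of_mem {r : ℕ} [Fact r.Prime] {E : Subgroup G}
    (hE : Cfsg.IsElementaryAbelian r E) (h3 : r ^ 3 ≤ Nat.card E) {a : G} (ha : a ∈ E)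
    (ha1 : a ≠ 1) : IsPoint r a :=
  ⟨orderOf_eq_prime (hE.2 a ha) ha1, E, fun e he => mem_centralizer_singleton_iff.mpr
    (mem_centralizer_iff.mp ((le_centralizer_iff_isMulCommutative.mpr hE.1) ha) e he), hE, h3⟩

theorem commutatorElement_mul_left_of_central {a b c : G} (h : Commute a ⁅b, c⁆) :
    ⁅a * b, c⁆ = ⁅b, c⁆ * ⁅a, c⁆ := by
  rw [commutatorElement_mul_left_eq_conj_mul]
  congr 1
  simp [h.eq]

theorem commutatorElement_mul_central {u v a b : G} (hua : Commute u a) (hub : Commute u b)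
    (huv : Commute u v) (hva : Commute v a) (hvb : Commute v b) : ⁅u * a, v * b⁆ = ⁅a, b⁆ := by
  have h1 : Commute u ⁅a, v * b⁆ := by
    rw [commutatorElement_def]
    exact ((hua.mul_right (huv.mul_right hub)).mul_right hua.inv_right).mul_right
      (huv.mul_right hub).inv_right
  have h2 : Commute v ⁅a, b⁆ := by
    rw [commutatorElement_def]
    exact ((hva.mul_right hvb).mul_right hva.inv_right).mul_right hvb.inv_right
  rw [commutatorElement_mul_left_of_central h1,
    commutatorElement_eq_one_iff_commute.mpr (huv.mul_right hub), mul_one,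
    commutatorElement_mul_right_eq_mul_conj, commutatorElement_eq_one_iff_commute.mpr hva.symm,
    one_mul, h2.eq, mul_inv_cancel_right]

theorem mul_comm_of_sq {c d : G} (hc : c * c = 1) (hd : d * d = 1) (hcd : c * d * (c * d) = 1) :
    c * d = d * c := by
  have h := eq_inv_of_mul_eq_one_left hcd
  rwa [mul_inv_rev, inv_eq_of_mul_eq_one_left hc, inv_eq_of_mul_eq_one_left hd] at h

/-- `|C| ≤ |C_C(b)| |V|` when the commutators `[C, b]` lie in a central subgroup `V`. -/
theorem card_le_of_commutator {C V : Subgroup G} {b : G} (hVC : V ≤ C)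
    (hV : C ≤ centralizer (V : Set G)) (h : ∀ c ∈ C, ⁅c, b⁆ ∈ V) :
    Nat.card C ≤ Nat.card ↥(C ⊓ centralizer ({b} : Set G)) * Nat.card V := by
  have hc : ∀ (c : G), c ∈ C → ∀ v ∈ V, Commute c v := fun c hcC v hv =>
    (mem_centralizer_iff.mp (hV hcC) v hv).symm
  let φ : C →* V :=
    { toFun := fun c => ⟨⁅(c : G), b⁆, h c c.2⟩
      map_one' := Subtype.ext (by simp)
      map_mul' := fun c d => Subtype.ext (by
        show ⁅(c : G) * d, b⁆ = ⁅(c : G), b⁆ * ⁅(d : G), b⁆
        rw [commutatorElement_mul_left_of_central (hc c c.2 _ (h d d.2))]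
        exact (hc _ (hVC (h d d.2)) _ (h c c.2)).eq) }
  have hker : φ.ker = (C ⊓ centralizer ({b} : Set G)).subgroupOf C := by
    ext c
    rw [MonoidHom.mem_ker, mem_subgroupOf, mem_inf, mem_centralizer_singleton_iff,
      ← commutatorElement_eq_one_iff_mul_comm]
    exact ⟨fun e => ⟨c.2, congrArg Subtype.val e⟩, fun e => Subtype.ext e.2⟩
  rw [← φ.ker.card_mul_index, hker, Nat.card_congr (subgroupOfEquivOfLe inf_le_left).toEquiv]
  refine Nat.mul_le_mul_left _ ?_
  rw [← hker, Subgroup.index_ker]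
  exact Subgroup.card_le_card_group _

/-! ### Class two, exponent `r` -/

/-- In a group of exponent `r` and class two with `|C : C'| ≥ r ^ 3`, every element lies in an
elementary abelian subgroup of order at least `r ^ 3`. -/
theorem exists_elem_cube {r : ℕ} [hr : Fact r.Prime] {C : Subgroup G}
    (hexp : ∀ c ∈ C, c ^ r = 1) (hcl : C ≤ centralizer ((⁅C, C⁆ : Subgroup G) : Set G))
    (hcard : r ^ 3 * Nat.card ↥⁅C, C⁆ ≤ Nat.card C) {a : G} (ha : a ∈ C) :
    ∃ E, E ≤ C ∧ a ∈ E ∧ Cfsg.IsElementaryAbelian r E ∧ r ^ 3 ≤ Nat.card E := by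
  set D := ⁅C, C⁆ with hD
  have hDC : D ≤ C := commutator_le.mpr fun x hx y hy =>
    mul_mem (mul_mem (mul_mem hx hy) (inv_mem hx)) (inv_mem hy)
  obtain ⟨A, hA, hmax⟩ := Set.Finite.exists_maximal
    (s := {A : Subgroup G | A ≤ C ∧ Cfsg.IsElementaryAbelian r A ∧ a ∈ A}) (Set.toFinite _)
    ⟨zpowers a, zpowers_le.mpr ha, ⟨inferInstance, by
      rintro y ⟨k, rfl⟩
      show (a ^ k) ^ r = 1
      rw [← zpow_natCast, ← zpow_mul, mul_comm, zpow_mul, zpow_natCast, hexp a ha, one_zpow]⟩,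
      mem_zpowers a⟩
  obtain ⟨hAC, hAel, haA⟩ := hA
  have habs : ∀ c ∈ C, c ∈ centralizer (A : Set G) → c ∈ A := fun c hc hcA =>
    (le_sup_right.trans (hmax ⟨sup_le hAC (zpowers_le.mpr hc),
      OddOrder.BG11.elem_sup_zpowers hAel (hexp c hc) hcA, mem_sup_left haA⟩ le_sup_left))
      (mem_zpowers c)
  refine ⟨A, hAC, haA, hAel, ?_⟩
  by_contra hlt
  have hDA : D ≤ A := fun d hd => habs d (hDC hd) (mem_centralizer_iff.mpr fun x hx =>
    (mem_centralizer_iff.mp (hcl (hAC hx)) d hd).symm)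
  obtain ⟨i, hi⟩ := IsPGroup.iff_card.mp (PLocal.isPGroup_of_isElementaryAbelian hAel)
  have hi2 : i ≤ 2 := by
    by_contra hh
    exact hlt (hi ▸ Nat.pow_le_pow_right hr.out.pos (by omega))
  obtain ⟨j, hj⟩ := IsPGroup.iff_card.mp
    ((PLocal.isPGroup_of_isElementaryAbelian hAel).to_le hDA)
  have hji : j ≤ i := by
    have := Nat.card_le_card_of_injective _ (inclusion_injective hDA)
    rw [hi, hj] at this
    exact (Nat.pow_le_pow_iff_right hr.out.one_lt).mp this
  rw [hj] at hcard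
  rcases Nat.eq_zero_or_pos j with rfl | hj0
  · have hCA : C ≤ A := fun c hc => habs c hc (mem_centralizer_iff.mpr fun x hx => by
      refine (commutatorElement_eq_one_iff_mul_comm.mp (mem_bot.mp ?_))
      rw [← card_eq_one.mp (show Nat.card D = 1 by rw [hj, pow_zero])]
      exact commutator_mem_commutator (hAC hx) hc)
    have := Nat.card_le_card_of_injective _ (inclusion_injective hCA)
    rw [pow_zero, mul_one] at hcard
    exact hlt (hcard.trans this)
  rcases eq_or_lt_of_le hji with rfl | hlt'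
  · have hAD : D = A := eq_of_le_of_card_ge hDA (by rw [hi, hj])
    have hCA : C ≤ A := fun c hc => habs c hc (hAD ▸ hcl hc)
    have := Nat.card_le_card_of_injective _ (inclusion_injective hCA)
    rw [hi, ← pow_add] at *
    have := (Nat.pow_le_pow_iff_right hr.out.one_lt).mp (hcard.trans this)
    omega
  obtain rfl : j = 1 := by omega
  obtain rfl : i = 2 := by omega
  obtain ⟨b, hb, hbD⟩ : ∃ b ∈ A, b ∉ D := by
    by_contra! hh
    have := Nat.card_le_card_of_injective _ (inclusion_injective hh)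
    rw [hi, hj] at this
    have := (Nat.pow_le_pow_iff_right hr.out.one_lt).mp this
    omega
  have hgen : D ⊔ zpowers b = A := by
    refine eq_of_le_of_card_ge (sup_le hDA (zpowers_le.mpr hb)) ?_
    obtain ⟨k, hk⟩ := IsPGroup.iff_card.mp ((PLocal.isPGroup_of_isElementaryAbelian hAel).to_le
      (sup_le hDA (zpowers_le.mpr hb) : D ⊔ zpowers b ≤ A))
    have hgt : Nat.card D < Nat.card ↥(D ⊔ zpowers b) := Set.ncard_lt_ncard
      (SetLike.coe_ssubset_coe.mpr (le_sup_left.lt_of_ne fun e =>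
        hbD (e.ge (mem_sup_right (mem_zpowers b))))) (Set.toFinite _)
    rw [hk, hj] at hgt
    rw [hk, hi]
    exact Nat.pow_le_pow_right hr.out.pos ((Nat.pow_lt_pow_iff_right hr.out.one_lt).mp hgt)
  have hker : C ⊓ centralizer ({b} : Set G) ≤ A := fun c hc => by
    refine habs c hc.1 (le_centralizer_iff.mp ?_ (mem_zpowers c))
    rw [← hgen]
    refine sup_le ?_ ?_ <;> rw [le_centralizer_iff, zpowers_le]
    · exact hcl hc.1
    · rw [← centralizer_singleton_eq]; exact hc.2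
  have h1 := card_le_of_commutator (b := b) hDC hcl fun c hc =>
    commutator_mem_commutator hc (hAC hb)
  have h2 := Nat.card_le_card_of_injective _ (inclusion_injective hker)
  rw [hi] at h2
  have h3 := (hcard.trans h1).trans (Nat.mul_le_mul_right _ h2)
  rw [hj, ← pow_add, ← pow_add] at h3
  have := (Nat.pow_le_pow_iff_right hr.out.one_lt).mp h3
  omega

/-! ### Class two 2-groups -/

section Two

variable {C V : Subgroup G}

theorem card_sup_zpowers_le {W : Subgroup G} {u : G} (hu : u ∈ centralizer (W : Set G))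
    (h2 : u * u ∈ W) : Nat.card ↥(W ⊔ zpowers u) ≤ 2 * Nat.card W := by
  have hn : zpowers u ≤ normalizer (W : Set G) :=
    (zpowers_le.mpr hu).trans (centralizer_le_normalizer _)
  have hle : (W ⊔ zpowers u : Subgroup G) ≤ W ⊔ zpowers u := le_rfl
  let f : W × Bool → ↥(W ⊔ zpowers u) := fun q =>
    bif q.2 then ⟨q.1 * u, mul_mem (mem_sup_left q.1.2) (mem_sup_right (mem_zpowers u))⟩
    else ⟨q.1, mem_sup_left q.1.2⟩
  refine le_trans (Nat.card_le_card_of_surjective f ?_) (by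
    rw [Nat.card_prod, Nat.card_eq_fintype_card (α := Bool), Fintype.card_bool, mul_comm])
  rintro ⟨y, hy⟩
  obtain ⟨w, hw, z, hz, rfl⟩ := Coprime.exists_mul_of_mem_sup hn hy
  obtain ⟨k, rfl⟩ := mem_zpowers_iff.mp hz
  rcases Int.even_or_odd' k with ⟨l, rfl | rfl⟩
  · refine ⟨(⟨w * u ^ (2 * l), mul_mem hw (by
      rw [zpow_mul, zpow_two]; exact zpow_mem h2 l)⟩, false), rfl⟩
  · refine ⟨(⟨w * u ^ (2 * l), mul_mem hw (by
      rw [zpow_mul, zpow_two]; exact zpow_mem h2 l)⟩, true), Subtype.ext ?_⟩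
    show w * u ^ (2 * l) * u = _
    rw [mul_assoc, ← zpow_add_one]

theorem commute_of_sq_sup {W : Subgroup G} (hW : ∀ v ∈ W, ∀ w ∈ W, Commute v w) {u : G}
    (hu : u ∈ centralizer (W : Set G)) :
    ∀ v ∈ W ⊔ zpowers u, ∀ w ∈ W ⊔ zpowers u, Commute v w := by
  have hn : zpowers u ≤ normalizer (W : Set G) :=
    (zpowers_le.mpr hu).trans (centralizer_le_normalizer _)
  intro v hv w hw
  obtain ⟨a, ha, _, ⟨i, rfl⟩, rfl⟩ := Coprime.exists_mul_of_mem_sup hn hv
  obtain ⟨b, hb, _, ⟨j, rfl⟩, rfl⟩ := Coprime.exists_mul_of_mem_sup hn hw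
  have hu' : ∀ z ∈ W, Commute z u := fun z hz => mem_centralizer_iff.mp hu z hz
  exact ((hW a ha b hb).mul_right ((hu' a ha).zpow_right j)).mul_left
    (((hu' b hb).zpow_right i).symm.mul_right ((Commute.refl u).zpow_zpow i j))

/-- A commuting independent pair in a class two 2-group over a small centre. -/
theorem exists_commute_pair {U W₁ : Subgroup G} (hV4 : Nat.card V ≤ 4) (hVW : V ≤ W₁)
    (hW₁U : W₁ ≤ U) (hU : U ≤ centralizer (V : Set G)) (hVab : ∀ v ∈ V, v * v = 1)
    (hWc : U ≤ centralizer (W₁ : Set G)) (hsq : ∀ c ∈ U, c * c ∈ V)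
    (hcm : ∀ c ∈ U, ∀ d ∈ U, ⁅c, d⁆ ∈ V) (hbig : 8 * Nat.card W₁ ≤ Nat.card U) :
    ∃ v w, v ∈ U ∧ w ∈ U ∧ Commute v w ∧ v ∉ W₁ ∧ w ∉ W₁ ⊔ zpowers v := by
  classical
  have hstep : ∀ (K : Subgroup G), W₁ ≤ K → Nat.card K < Nat.card U → ∃ u ∈ U, u ∉ K := by
    intro K _ hlt
    by_contra! hh
    exact absurd (Nat.card_le_card_of_injective _ (inclusion_injective hh)) (by omega)
  have hsize : ∀ (K : Subgroup G), W₁ ≤ K → K ≤ U → ∀ u ∈ U, V ≤ K → (∀ k ∈ K, ⁅k, u⁆ ∈ V) →
      Nat.card ↥(K ⊔ zpowers u) ≤ 2 * Nat.card K := by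
    intro K _ hKU u hu hVK hku
    have hn : u ∈ normalizer (K : Set G) := LocalStructure.mem_normalizer_of_forall fun k hk => by
      have h1 : u * k * u⁻¹ = (⁅k, u⁆)⁻¹ * k := by rw [commutatorElement_def]; group
      rw [h1]
      exact mul_mem (inv_mem (hVK (hku k hk))) hk
    let f : K × Bool → ↥(K ⊔ zpowers u) := fun q =>
      bif q.2 then ⟨q.1 * u, mul_mem (mem_sup_left q.1.2) (mem_sup_right (mem_zpowers u))⟩
      else ⟨q.1, mem_sup_left q.1.2⟩
    refine le_trans (Nat.card_le_card_of_surjective f ?_) (by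
      rw [Nat.card_prod, Nat.card_eq_fintype_card (α := Bool), Fintype.card_bool, mul_comm])
    rintro ⟨y, hy⟩
    obtain ⟨w, hw, z, hz, rfl⟩ := Coprime.exists_mul_of_mem_sup (zpowers_le.mpr hn) hy
    obtain ⟨k, rfl⟩ := mem_zpowers_iff.mp hz
    rcases Int.even_or_odd' k with ⟨l, rfl | rfl⟩
    · refine ⟨(⟨w * u ^ (2 * l), mul_mem hw (by
        rw [zpow_mul, zpow_two]; exact zpow_mem (hVK (hsq u hu)) l)⟩, false), rfl⟩
    · refine ⟨(⟨w * u ^ (2 * l), mul_mem hw (by
        rw [zpow_mul, zpow_two]; exact zpow_mem (hVK (hsq u hu)) l)⟩, true), Subtype.ext ?_⟩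
      show w * u ^ (2 * l) * u = _
      rw [mul_assoc, ← zpow_add_one]
  have hWpos : 0 < Nat.card W₁ := Nat.card_pos
  obtain ⟨a, ha, haK⟩ := hstep W₁ le_rfl (by omega)
  set K₁ := W₁ ⊔ zpowers a with hK₁
  have hK₁U : K₁ ≤ U := sup_le hW₁U (zpowers_le.mpr ha)
  have c1 := hsize W₁ le_rfl hW₁U a ha hVW fun k hk => hcm k (hW₁U hk) a ha
  obtain ⟨b, hb, hbK⟩ := hstep K₁ le_sup_left (by rw [← hK₁] at c1; omega)
  set K₂ := K₁ ⊔ zpowers b with hK₂
  have c2 := hsize K₁ le_sup_left hK₁U b hb (hVW.trans le_sup_left)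
    fun k hk => hcm k (hK₁U hk) b hb
  obtain ⟨c, hc, hcK⟩ := hstep K₂ (le_sup_left.trans le_sup_left) (by
    rw [← hK₂] at c2; rw [← hK₁] at c1; omega)
  have haK₂ : a ∈ K₂ := mem_sup_left (mem_sup_right (mem_zpowers a))
  have hbK₂ : b ∈ K₂ := mem_sup_right (mem_zpowers b)
  have hW₂ : W₁ ≤ K₂ := le_sup_left.trans le_sup_left
  have out : ∀ {v : G}, v ∈ K₂ → W₁ ⊔ zpowers v ≤ K₂ := fun hv =>
    sup_le hW₂ (zpowers_le.mpr hv)
  have hl : ∀ x ∈ U, ∀ y ∈ U, ∀ z ∈ U, ⁅x * y, z⁆ = ⁅x, z⁆ * ⁅y, z⁆ := by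
    intro x hx y hy z hz
    rw [commutatorElement_mul_left_of_central
      (mem_centralizer_iff.mp (hU hx) _ (hcm y hy z hz)).symm]
    exact mem_centralizer_iff.mp (hU (hW₁U (hVW (hcm x hx z hz)))) _ (hcm y hy z hz)
  have hr : ∀ x ∈ U, ∀ y ∈ U, ∀ z ∈ U, ⁅x, y * z⁆ = ⁅x, y⁆ * ⁅x, z⁆ := by
    intro x hx y hy z hz
    rw [← commutatorElement_inv, hl y hy z hz x hx, mul_inv_rev, commutatorElement_inv,
      commutatorElement_inv]
    exact (mem_centralizer_iff.mp (hU (hW₁U (hVW (hcm x hx z hz)))) _ (hcm x hx y hy)).symm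
  have hab : b ∉ W₁ ⊔ zpowers a := hbK
  have hac : c ∉ W₁ ⊔ zpowers a := fun e => hcK (out haK₂ e)
  have hbc : c ∉ W₁ ⊔ zpowers b := fun e => hcK (out hbK₂ e)
  have hbW : b ∉ W₁ := fun e => hbK (mem_sup_left e)
  by_cases e12 : ⁅a, b⁆ = 1
  · exact ⟨a, b, ha, hb, commutatorElement_eq_one_iff_commute.mp e12, haK, hab⟩
  by_cases e13 : ⁅a, c⁆ = 1
  · exact ⟨a, c, ha, hc, commutatorElement_eq_one_iff_commute.mp e13, haK, hac⟩
  by_cases e23 : ⁅b, c⁆ = 1
  · exact ⟨b, c, hb, hc, commutatorElement_eq_one_iff_commute.mp e23, hbW, hbc⟩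
  by_cases d1 : ⁅a, b⁆ = ⁅a, c⁆
  · refine ⟨a, b * c, ha, mul_mem hb hc, commutatorElement_eq_one_iff_commute.mp ?_, haK,
      fun e => hcK ?_⟩
    · rw [hr a ha b hb c hc, d1]; exact hVab _ (hcm a ha c hc)
    · have := mul_mem (inv_mem hbK₂) (out haK₂ e); rwa [inv_mul_cancel_left] at this
  by_cases d2 : ⁅a, b⁆ = ⁅b, c⁆
  · refine ⟨b, a * c, hb, mul_mem ha hc, commutatorElement_eq_one_iff_commute.mp ?_, hbW,
      fun e => hcK ?_⟩
    · rw [hr b hb a ha c hc, ← commutatorElement_inv a b, d2, inv_mul_cancel]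
    · have := mul_mem (inv_mem haK₂) (out hbK₂ e); rwa [inv_mul_cancel_left] at this
  have hvab : a * b ∈ K₂ := mul_mem haK₂ hbK₂
  have habW : a * b ∉ W₁ := fun e => hbK (by
    have := mul_mem (inv_mem (mem_sup_right (mem_zpowers a) : a ∈ K₁)) (mem_sup_left e)
    rwa [inv_mul_cancel_left] at this)
  by_cases d3 : ⁅a, c⁆ = ⁅b, c⁆
  · refine ⟨a * b, c, mul_mem ha hb, hc, commutatorElement_eq_one_iff_commute.mp ?_, habW,
      fun e => hcK (out hvab e)⟩
    rw [hl a ha b hb c hc, d3]; exact hVab _ (hcm b hb c hc)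
  refine ⟨a * b, b * c, mul_mem ha hb, mul_mem hb hc, commutatorElement_eq_one_iff_commute.mp ?_,
    habW, fun e => hcK ?_⟩
  · rw [hl a ha b hb _ (mul_mem hb hc), hr a ha b hb c hc, hr b hb b hb c hc, commutatorElement_self,
      one_mul]
    by_contra hne
    -- four distinct elements of `V` and their product
    set x₁ := ⁅a, b⁆; set x₂ := ⁅a, c⁆; set x₃ := ⁅b, c⁆
    have hm : x₁ * x₂ * x₃ ∈ V := mul_mem (mul_mem (hcm a ha b hb) (hcm a ha c hc)) (hcm b hb c hc)
    have hinv : ∀ v ∈ V, v⁻¹ = v := fun v hv => inv_eq_of_mul_eq_one_left (hVab v hv)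
    have hVc : ∀ v ∈ V, ∀ w ∈ V, v * w = w * v := fun v hv w hw => by
      rw [← hinv _ (mul_mem hv hw), mul_inv_rev, hinv v hv, hinv w hw]
    have m1 := hcm a ha b hb
    have m2 := hcm a ha c hc
    have m3 := hcm b hb c hc
    have n1 : x₁ * x₂ * x₃ ≠ x₁ := fun e => d3 (by
      rw [mul_assoc, mul_eq_left] at e
      exact (eq_inv_of_mul_eq_one_left e).trans (hinv _ m3))
    have n2 : x₁ * x₂ * x₃ ≠ x₂ := fun e => d2 (by
      rw [hVc _ m1 _ m2, mul_assoc, mul_eq_left] at e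
      exact (eq_inv_of_mul_eq_one_left e).trans (hinv _ m3))
    have n3 : x₁ * x₂ * x₃ ≠ x₃ := fun e => d1 (by
      rw [mul_eq_right] at e
      exact (eq_inv_of_mul_eq_one_left e).trans (hinv _ m2))
    let s : Finset V := {⟨1, one_mem _⟩, ⟨x₁, m1⟩, ⟨x₂, m2⟩, ⟨x₃, m3⟩, ⟨_, hm⟩}
    haveI := Fintype.ofFinite V
    have hs : s.card = 5 := by
      simp only [s]
      rw [Finset.card_insert_of_notMem, Finset.card_insert_of_notMem,
        Finset.card_insert_of_notMem, Finset.card_insert_of_notMem, Finset.card_singleton] <;>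
        simp [Finset.mem_insert, Finset.mem_singleton, Ne.symm e12, Ne.symm e13, Ne.symm e23, d1,
          d2, d3, Ne.symm n1, Ne.symm n2, Ne.symm n3, Ne.symm hne]
    have := s.card_le_univ
    rw [hs, ← Nat.card_eq_fintype_card] at this
    omega
  · have := mul_mem (inv_mem hbK₂) (out hvab e); rwa [inv_mul_cancel_left] at this

/-- An abelian subgroup with elementary squares contains many involutions. -/
theorem exists_involution_not_mem {K W : Subgroup G} (hV : ∀ v ∈ V, v * v = 1)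
    (hK : ∀ v ∈ K, ∀ w ∈ K, Commute v w) (hsq : ∀ k ∈ K, k * k ∈ V)
    (hlt : Nat.card W * Nat.card V < Nat.card K) :
    ∃ u ∈ K, u ∉ W ∧ u * u = 1 := by
  let φ : K →* V :=
    { toFun := fun k => ⟨(k : G) * k, hsq k k.2⟩
      map_one' := Subtype.ext (by simp)
      map_mul' := fun k l => Subtype.ext ((hK l l.2 k k.2).mul_mul_mul_comm _ _) }
  by_contra! hh
  have hker : φ.ker.map K.subtype ≤ W := by
    rintro _ ⟨k, hk, rfl⟩
    by_contra hkW
    exact hh k k.2 hkW (congrArg Subtype.val hk)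
  have h1 := Nat.card_le_card_of_injective _ (inclusion_injective hker)
  rw [card_map_of_injective K.subtype_injective] at h1
  have h2 := φ.ker.card_mul_index
  have h3 : φ.ker.index ≤ Nat.card V := by
    rw [index_ker]; exact Subgroup.card_le_card_group _
  have := Nat.mul_le_mul h1 h3
  omega

/-- In a class two 2-group with quotient of order at least `2 ^ 6` over an elementary centre,
every involution lies in an elementary abelian subgroup of order eight. -/
theorem exists_elem_eight (hVC : V ≤ C) (hCV : C ≤ centralizer (V : Set G))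
    (hV : ∀ v ∈ V, v * v = 1) (hsq : ∀ c ∈ C, c * c ∈ V) (hcm : ∀ c ∈ C, ∀ d ∈ C, ⁅c, d⁆ ∈ V)
    (hbig : 2 ^ 6 * Nat.card V ≤ Nat.card C) {a : G} (ha : a ∈ C) (ha2 : a * a = 1) :
    ∃ E, E ≤ C ∧ a ∈ E ∧ Cfsg.IsElementaryAbelian 2 E ∧ 2 ^ 3 ≤ Nat.card E := by
  haveI : Fact (Nat.Prime 2) := ⟨Nat.prime_two⟩
  obtain ⟨W, ⟨hWC, haW, hVW, hWel⟩, hWmax⟩ := Set.Finite.exists_maximalFor
    (fun W : Subgroup G => Nat.card W)
    {W : Subgroup G | W ≤ C ∧ a ∈ W ∧ V ≤ W ∧ Cfsg.IsElementaryAbelian 2 W} (Set.toFinite _)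
    ⟨V ⊔ zpowers a, sup_le hVC (zpowers_le.mpr ha), mem_sup_right (mem_zpowers a), le_sup_left,
      OddOrder.BG11.elem_sup_zpowers ⟨⟨⟨fun v w => Subtype.ext
        (mem_centralizer_iff.mp (hCV (hVC w.2)) v v.2)⟩⟩, fun v hv => by rw [pow_two]; exact hV v hv⟩
        (by rw [pow_two]; exact ha2) (hCV ha)⟩
  refine ⟨W, hWC, haW, hWel, ?_⟩
  by_contra hlt
  obtain ⟨i, hi⟩ := IsPGroup.iff_card.mp (PLocal.isPGroup_of_isElementaryAbelian hWel)
  have hW4 : Nat.card W ≤ 4 := by
    rw [hi] at hlt ⊢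
    have : i ≤ 2 := by
      by_contra hh; exact hlt (Nat.pow_le_pow_right (by norm_num) (by omega))
    exact Nat.pow_le_pow_right (by norm_num) this
  have hVW' := Nat.card_le_card_of_injective _ (inclusion_injective hVW)
  have hWab : ∀ v ∈ W, ∀ w ∈ W, Commute v w := fun v hv w hw => by
    haveI := hWel.1
    exact setLike_mul_comm (s := W) hv hw
  -- the centraliser of `W` in `C`
  have hfin : ∀ K : Subgroup G, K ≤ C → (∀ v ∈ K, ∀ w ∈ K, Commute v w) → W ≤ K →
      Nat.card W * Nat.card V < Nat.card K → False := by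
    intro K hKC hK hWK hlt'
    obtain ⟨u, hu, huW, hu2⟩ := exists_involution_not_mem hV hK (fun k hk => hsq k (hKC hk)) hlt'
    have hmem : (W ⊔ zpowers u) ∈ {W : Subgroup G | W ≤ C ∧ a ∈ W ∧ V ≤ W ∧
        Cfsg.IsElementaryAbelian 2 W} :=
      ⟨sup_le hWC (zpowers_le.mpr (hKC hu)), mem_sup_left haW, hVW.trans le_sup_left,
        OddOrder.BG11.elem_sup_zpowers hWel (by rw [pow_two]; exact hu2)
          (mem_centralizer_iff.mpr fun w hw => hK w (hWK hw) u hu)⟩
    have := hWmax hmem (Nat.card_le_card_of_injective _ (inclusion_injective le_sup_left))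
    exact huW ((eq_of_le_of_card_ge le_sup_left this).ge (mem_sup_right (mem_zpowers u)))
  obtain ⟨j, hj⟩ := IsPGroup.iff_card.mp
    ((PLocal.isPGroup_of_isElementaryAbelian hWel).to_le hVW)
  have hj2 : Nat.card V = 1 ∨ Nat.card V = 2 ∨ Nat.card V = 4 := by
    have : j ≤ 2 := by
      have := hVW'.trans hW4
      rw [hj] at this
      exact (Nat.pow_le_pow_iff_right (a := 2) (by norm_num)).mp this
    interval_cases j <;> simp [hj]
  rcases hj2 with h1 | h2 | h4
  · refine hfin C le_rfl (fun v hv w hw => commutatorElement_eq_one_iff_commute.mp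
      (mem_bot.mp (card_eq_one.mp h1 ▸ hcm v hv w hw))) hWC ?_
    rw [h1] at hbig ⊢
    omega
  · -- the centre has order two
    have hU : 32 ≤ Nat.card ↥(C ⊓ centralizer (W : Set G)) := by
      obtain ⟨w, hw, hwW⟩ : ∃ w ∈ W, W ≤ V ⊔ zpowers w := by
        by_cases hh : W ≤ V
        · exact ⟨1, one_mem _, hh.trans le_sup_left⟩
        · obtain ⟨w, hw, hwV⟩ := SetLike.not_le_iff_exists.mp hh
          refine ⟨w, hw, (eq_of_le_of_card_ge (sup_le hVW (zpowers_le.mpr hw)) ?_).ge⟩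
          have hgt : Nat.card V < Nat.card ↥(V ⊔ zpowers w) := Set.ncard_lt_ncard
            (SetLike.coe_ssubset_coe.mpr (le_sup_left.lt_of_ne fun e =>
              hwV (e.ge (mem_sup_right (mem_zpowers w))))) (Set.toFinite _)
          obtain ⟨k, hk⟩ := IsPGroup.iff_card.mp ((PLocal.isPGroup_of_isElementaryAbelian hWel).to_le
            (sup_le hVW (zpowers_le.mpr hw) : V ⊔ zpowers w ≤ W))
          rw [hk, h2] at hgt
          rw [hk]
          have : 2 ≤ k := (Nat.pow_lt_pow_iff_right (a := 2) (by norm_num)).mp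
            (by simpa using hgt)
          exact hW4.trans (Nat.pow_le_pow_right (n := 2) (by norm_num) this)
      have hle : C ⊓ centralizer ({w} : Set G) ≤ C ⊓ centralizer (W : Set G) := fun c hc =>
        ⟨hc.1, centralizer_le hwW (le_centralizer_iff.mp (sup_le (le_centralizer_iff.mp
          (zpowers_le.mpr (hCV hc.1))) (by
            rw [le_centralizer_iff, ← centralizer_singleton_eq, zpowers_le]; exact hc.2))
          (mem_zpowers c))⟩
      have h3 := card_le_of_commutator (b := w) hVC hCV fun c hc => hcm c hc w (hWC hw)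
      have h4' := Nat.card_le_card_of_injective _ (inclusion_injective hle)
      rw [h2] at hbig h3
      omega
    obtain ⟨A, ⟨hAU, hWA, hAc⟩, hAmax⟩ := Set.Finite.exists_maximal
      (s := {A : Subgroup G | A ≤ C ⊓ centralizer (W : Set G) ∧ W ≤ A ∧
        ∀ v ∈ A, ∀ w ∈ A, Commute v w}) (Set.toFinite _)
      ⟨W, le_inf hWC (fun w hw => mem_centralizer_iff.mpr fun v hv => hWab v hv w hw), le_rfl, hWab⟩
    by_cases hA : Nat.card W * Nat.card V < Nat.card A
    · exact hfin A (hAU.trans inf_le_left) hAc hWA hA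
    have habs : ∀ c ∈ C ⊓ centralizer (W : Set G), c ∈ centralizer (A : Set G) → c ∈ A :=
      fun c hc hcA => hAmax ⟨sup_le hAU (zpowers_le.mpr hc), hWA.trans le_sup_left,
        commute_of_sq_sup hAc hcA⟩ le_sup_left (mem_sup_right (mem_zpowers c))
    obtain ⟨u, huA, hgen⟩ : ∃ u ∈ A, A ≤ W ⊔ zpowers u := by
      by_cases hh : A ≤ W
      · exact ⟨1, one_mem _, hh.trans le_sup_left⟩
      · obtain ⟨u, hu, huW⟩ := SetLike.not_le_iff_exists.mp hh
        refine ⟨u, hu, (eq_of_le_of_card_ge (sup_le hWA (zpowers_le.mpr hu)) ?_).ge⟩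
        obtain ⟨m, hm⟩ := (Subgroup.card_dvd_of_le (le_sup_left : W ≤ W ⊔ zpowers u))
        have hgt : Nat.card W < Nat.card ↥(W ⊔ zpowers u) := Set.ncard_lt_ncard
          (SetLike.coe_ssubset_coe.mpr (le_sup_left.lt_of_ne fun e =>
            huW (e.ge (mem_sup_right (mem_zpowers u))))) (Set.toFinite _)
        have hm2 : 2 ≤ m := by
          by_contra hh
          have := Nat.mul_le_mul_left (Nat.card W) (show m ≤ 1 by omega)
          omega
        rw [h2] at hA
        rw [hm]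
        nlinarith
    have hle : (C ⊓ centralizer (W : Set G)) ⊓ centralizer ({u} : Set G) ≤ A := fun c hc =>
      habs c hc.1 (centralizer_le hgen (le_centralizer_iff.mp (sup_le (le_centralizer_iff.mp
        (zpowers_le.mpr hc.1.2)) (by
          rw [le_centralizer_iff, ← centralizer_singleton_eq, zpowers_le]; exact hc.2))
        (mem_zpowers c)))
    have h3 := card_le_of_commutator (C := C ⊓ centralizer (W : Set G)) (b := u) (V := V)
      (le_inf hVC (fun v hv => mem_centralizer_iff.mpr fun w hw => hWab w hw v (hVW hv)))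
      (inf_le_left.trans hCV) fun c hc => hcm c hc.1 u ((hAU huA).1)
    have h5 := Nat.card_le_card_of_injective _ (inclusion_injective hle)
    rw [h2] at h3 hA
    omega
  · -- the centre has order four
    have hWV : W = V := (eq_of_le_of_card_ge hVW (by omega)).symm
    obtain ⟨u, hu, huW⟩ : ∃ u ∈ C, u ∉ W := by
      by_contra! hh
      have := Nat.card_le_card_of_injective _ (inclusion_injective hh)
      omega
    set U := C ⊓ centralizer ({u} : Set G)
    have huV : u ∈ centralizer (W : Set G) := hWV ▸ hCV hu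
    set W₁ := W ⊔ zpowers u
    have hW₁U : W₁ ≤ U := by
      refine sup_le (le_inf hWC fun w hw => mem_centralizer_singleton_iff.mpr ?_)
        (zpowers_le.mpr ⟨hu, mem_centralizer_singleton_iff.mpr rfl⟩)
      exact mem_centralizer_iff.mp huV w hw
    have hUW₁ : U ≤ centralizer (W₁ : Set G) := by
      rw [le_centralizer_iff]
      refine sup_le (hWV ▸ le_centralizer_iff.mp (inf_le_left.trans hCV)) ?_
      rw [le_centralizer_iff, ← centralizer_singleton_eq]
      exact inf_le_right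
    have hW₁c : Nat.card W₁ ≤ 2 * Nat.card W := card_sup_zpowers_le huV (hWV ▸ hsq u hu)
    have h3 : Nat.card C ≤ Nat.card U * Nat.card V :=
      card_le_of_commutator (b := u) hVC hCV fun c hc => hcm c hc u hu
    obtain ⟨v, w, hv, hw, hvw, hv1, hw1⟩ := exists_commute_pair (V := V) (U := U) (W₁ := W₁)
      h4.le (hWV.ge.trans le_sup_left) hW₁U (inf_le_left.trans hCV) hV hUW₁
      (fun c hc => hsq c hc.1) (fun c hc d hd => hcm c hc.1 d hd.1) (by
        rw [h4] at hbig h3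
        have : Nat.card U * 4 ≥ 256 := by omega
        have : Nat.card W₁ ≤ 8 := by omega
        omega)
    have hc1 : ∀ v ∈ W₁, ∀ w ∈ W₁, Commute v w := commute_of_sq_sup hWab huV
    have hvc : v ∈ centralizer (W₁ : Set G) := hUW₁ hv
    have hc2 := commute_of_sq_sup hc1 hvc
    have hwc : w ∈ centralizer ((W₁ ⊔ zpowers v : Subgroup G) : Set G) :=
      (le_centralizer_iff.mp (sup_le (le_centralizer_iff.mp (zpowers_le.mpr (hUW₁ hw)))
        (by rw [le_centralizer_iff, zpowers_le, ← centralizer_singleton_eq]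
            exact mem_centralizer_singleton_iff.mpr hvw.symm.eq))) (mem_zpowers w)
    refine hfin (W₁ ⊔ zpowers v ⊔ zpowers w) (sup_le (sup_le (hW₁U.trans inf_le_left)
      (zpowers_le.mpr hv.1)) (zpowers_le.mpr hw.1)) (commute_of_sq_sup hc2 hwc)
      (le_sup_left.trans (le_sup_left.trans le_sup_left)) ?_
    have g : ∀ (K : Subgroup G) (z : G), z ∉ K → 2 * Nat.card K ≤ Nat.card ↥(K ⊔ zpowers z) := by
      intro K z hz
      obtain ⟨m, hm⟩ := Subgroup.card_dvd_of_le (le_sup_left : K ≤ K ⊔ zpowers z)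
      have hgt : Nat.card K < Nat.card ↥(K ⊔ zpowers z) := Set.ncard_lt_ncard
        (SetLike.coe_ssubset_coe.mpr (le_sup_left.lt_of_ne fun e =>
          hz (e.ge (mem_sup_right (mem_zpowers z))))) (Set.toFinite _)
      have hm2 : 2 ≤ m := by
        by_contra hh
        have := Nat.mul_le_mul_left (Nat.card K) (show m ≤ 1 by omega)
        omega
      rw [hm, mul_comm 2]
      exact Nat.mul_le_mul_left _ hm2
    have g1 : 2 * Nat.card W ≤ Nat.card W₁ := g W u huW
    have g2 := g W₁ v hv1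
    have g3 := g _ w hw1
    have : Nat.card W = 4 := by rw [hWV]; exact h4
    rw [h4]
    omega

end Two

/-! ### Moved groups -/

section Moved

variable {p r : ℕ} [hp : Fact p.Prime] [hr : Fact r.Prime]

theorem coprime_zpowers {y : G} (hy : y ^ p = 1) (hne : r ≠ p) {C : Subgroup G}
    (hC : IsPGroup r C) : (Nat.card (zpowers y)).Coprime (Nat.card C) := by
  obtain ⟨n, hn⟩ := IsPGroup.iff_card.mp hC
  rw [Nat.card_zpowers, hn]
  exact (((Nat.coprime_primes hp.out hr.out).mpr (Ne.symm hne)).pow_right n).coprime_dvd_left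
    (orderOf_dvd_of_pow_eq_one hy)

/-- Counting the orbits of a moved group. -/
theorem exists_dvd_pow_sub_one {y : G} (hy : y ^ p = 1) (hne : r ≠ p) {C : Subgroup G}
    (hC : IsPGroup r C) (hn : y ∈ normalizer (C : Set G)) (hmv : y ∉ centralizer (C : Set G)) :
    ∃ n j : ℕ, Nat.card C = r ^ n ∧ Nat.card ↥(C ⊓ centralizer ({y} : Set G)) = r ^ j ∧ j < n ∧
      p ∣ r ^ (n - j) - 1 := by
  obtain ⟨n, hn'⟩ := IsPGroup.iff_card.mp hC
  obtain ⟨j, hj⟩ := IsPGroup.iff_card.mp (hC.to_le (inf_le_left (b := centralizer ({y} : Set G))))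
  let φ : zpowers y →* MulAut C :=
    (normalizerMonoidHom C).comp (inclusion (zpowers_le.mpr hn))
  letI : MulDistribMulAction (zpowers y) C := MulDistribMulAction.compHom C φ
  have hP : IsPGroup p (zpowers y) := fun g => ⟨1, by
    obtain ⟨k, hk⟩ := mem_zpowers_iff.mp g.2
    refine Subtype.ext ?_
    rw [SubmonoidClass.coe_pow, ← hk, OneMemClass.coe_one, pow_one, ← zpow_natCast, ← zpow_mul,
      mul_comm, zpow_mul, zpow_natCast, hy, one_zpow]⟩
  have hfix : MulAction.fixedPoints (zpowers y) C =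
      ((C ⊓ centralizer ({y} : Set G)).subgroupOf C : Set C) := by
    ext c
    rw [MulAction.mem_fixedPoints, SetLike.mem_coe, mem_subgroupOf, mem_inf,
      mem_centralizer_singleton_iff]
    constructor
    · intro hc
      have := congrArg Subtype.val (hc ⟨y, mem_zpowers y⟩)
      exact ⟨c.2, (mul_inv_eq_iff_eq_mul.mp (this : y * (c : G) * y⁻¹ = c)).symm⟩
    · rintro ⟨-, hc⟩ ⟨g, hg⟩
      obtain ⟨k, rfl⟩ := mem_zpowers_iff.mp hg
      refine Subtype.ext ?_
      show y ^ k * (c : G) * (y ^ k)⁻¹ = c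
      rw [mul_inv_eq_iff_eq_mul]
      exact ((show Commute (c : G) y from hc).zpow_right k).eq.symm
  have h1 : Nat.card C ≡ Nat.card ↥(C ⊓ centralizer ({y} : Set G)) [MOD p] := by
    refine (hP.card_modEq_card_fixedPoints C).trans ?_
    rw [hfix, SetLike.coe_sort_coe, Nat.card_congr (subgroupOfEquivOfLe inf_le_left).toEquiv]
  have hlt : j < n := by
    refine (Nat.pow_lt_pow_iff_right hr.out.one_lt).mp ?_
    rw [← hn', ← hj]
    refine Set.ncard_lt_ncard (SetLike.coe_ssubset_coe.mpr (inf_le_left.lt_of_ne fun e =>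
      hmv (mem_centralizer_iff.mpr fun c hc => ?_))) (Set.toFinite _)
    exact mem_centralizer_singleton_iff.mp (e.ge hc).2
  refine ⟨n, j, hn', hj, hlt, ?_⟩
  rw [hn', hj] at h1
  have h2 := (Nat.modEq_iff_dvd' (Nat.pow_le_pow_right hr.out.pos hlt.le)).mp h1.symm
  rw [show r ^ n = r ^ j * r ^ (n - j) by rw [← pow_add, Nat.add_sub_cancel' hlt.le],
    ← Nat.mul_sub_one] at h2
  exact (Nat.Coprime.pow_right j ((Nat.coprime_primes hp.out hr.out).mpr (Ne.symm hne))).dvd_of_dvd_mul_left h2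

theorem three_le_exponent (hp5 : 5 ≤ p) (hrp : r < p) {m : ℕ} (hm : 0 < m)
    (hd : p ∣ r ^ m - 1) : 3 ≤ m := by
  by_contra h3
  have hr2 := hr.out.two_le
  interval_cases m
  · rw [pow_one] at hd
    have := Nat.le_of_dvd (by omega) hd
    omega
  · rw [show r ^ 2 - 1 = (r + 1) * (r - 1) by rw [← Nat.sq_sub_sq r 1]] at hd
    rcases hp.out.dvd_mul.mp hd with h | h
    · have := Nat.le_of_dvd (by omega) h
      have he : p = r + 1 := by omega
      rcases hp.out.eq_two_or_odd' with h2 | h2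
      · omega
      rcases hr.out.eq_two_or_odd' with h4 | h4
      · omega
      rw [he] at h2
      exact (Nat.not_even_iff_odd.mpr h2) (h4.add_one)
    · have := Nat.le_of_dvd (by omega) h
      omega

theorem cube_le_card (hp5 : 5 ≤ p) (hrp : r < p) {y : G} (hy : y ^ p = 1) {C : Subgroup G}
    (hC : IsPGroup r C) (hn : y ∈ normalizer (C : Set G)) (hmv : y ∉ centralizer (C : Set G)) :
    r ^ 3 ≤ Nat.card C := by
  obtain ⟨n, j, hn', -, hlt, hd⟩ := exists_dvd_pow_sub_one hy hrp.ne hC hn hmv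
  have := three_le_exponent hp5 hrp (by omega) hd
  rw [hn']
  exact Nat.pow_le_pow_right hr.out.pos (by omega)

/-- The sectional version of `cube_le_card`. -/
theorem exists_section_dvd {y : G} (hy : y ^ p = 1) (hne : r ≠ p) {C D : Subgroup G}
    (hC : IsPGroup r C) (hDC : D ≤ C) (hCD : C ≤ normalizer (D : Set G))
    (hyD : y ∈ normalizer (D : Set G)) (hn : y ∈ normalizer (C : Set G))
    (hmv : ¬ ∀ c ∈ C, ⁅y, c⁆ ∈ D) :
    ∃ n j : ℕ, Nat.card C = r ^ n * Nat.card D ∧ j < n ∧ p ∣ r ^ (n - j) - 1 := by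
  set N := normalizer (D : Set G)
  haveI : (D.subgroupOf N).Normal := (normal_subgroupOf_iff_le_normalizer le_normalizer).mpr le_rfl
  let f := QuotientGroup.mk' (D.subgroupOf N)
  set C' := (C.subgroupOf N).map f
  set y' := f ⟨y, hyD⟩
  have hy' : y' ^ p = 1 := by
    rw [← map_pow, show (⟨y, hyD⟩ : N) ^ p = 1 from Subtype.ext hy, map_one]
  have hC' : IsPGroup r C' := hC.comap_subtype.map f
  have hn' : y' ∈ normalizer (C' : Set (N ⧸ D.subgroupOf N)) := by
    refine le_normalizer_map f ⟨⟨y, hyD⟩, mem_normalizer_iff.mpr fun c => ?_, rfl⟩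
    exact mem_normalizer_iff.mp hn (c : G)
  have hmv' : y' ∉ centralizer (C' : Set (N ⧸ D.subgroupOf N)) := fun hcc => hmv fun c hc => by
    have h1 := mem_centralizer_iff.mp hcc (f ⟨c, hCD hc⟩) ⟨⟨c, hCD hc⟩, hc, rfl⟩
    have h2 : ⁅y', f ⟨c, hCD hc⟩⁆ = 1 :=
      commutatorElement_eq_one_iff_mul_comm.mpr h1.symm
    rw [← map_commutatorElement] at h2
    exact (QuotientGroup.eq_one_iff (N := D.subgroupOf N) _).mp h2
  obtain ⟨n, j, hcard, -, hlt, hd⟩ := exists_dvd_pow_sub_one hy' hne hC' hn' hmv'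
  refine ⟨n, j, ?_, hlt, hd⟩
  rw [← hcard]
  have h1 := (D.subgroupOf C).card_mul_index
  rw [Nat.card_congr (subgroupOfEquivOfLe hDC).toEquiv] at h1
  rw [← h1, mul_comm]
  congr 1
  show (D.subgroupOf C).index = Nat.card ↥((C.subgroupOf N).map f)
  have h5 : f.ker.relIndex (C.subgroupOf N) = Nat.card ↥((C.subgroupOf N).map f) := relIndex_ker _ f
  rw [← h5, QuotientGroup.ker_mk', relIndex_subgroupOf hCD]
  rfl

omit [Finite G] in
theorem zpowers_commutator_eq_bot {y : G} {C : Subgroup G}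
    (h : ∀ c ∈ C, Commute y c) : ⁅C, zpowers y⁆ = ⊥ := by
  rw [commutator_eq_bot_iff_le_centralizer]
  intro c hc
  rw [← centralizer_singleton_eq]
  exact mem_centralizer_singleton_iff.mpr (h c hc).symm.eq

/-- A moved group is moved on the top of a series stabilised by the element. -/
theorem mem_centralizer_of_stab {y : G} (hy : y ^ p = 1) (hne : r ≠ p) {C : Subgroup G}
    (hC : IsPGroup r C) (hn : y ∈ normalizer (C : Set G))
    (h : ∀ c ∈ C, Commute y ⁅y, c⁆) : y ∈ centralizer (C : Set G) := by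
  refine Coprime.le_centralizer_of_commutator_commutator_eq_bot (zpowers_le.mpr hn)
    (coprime_zpowers hy hne hC) ?_ (mem_zpowers y)
  refine zpowers_commutator_eq_bot fun z hz => ?_
  have hle : ⁅C, zpowers y⁆ ≤ centralizer ({y} : Set G) := by
    refine commutator_le.mpr fun c hc g hg => ?_
    obtain ⟨k, rfl⟩ := (isOfFinOrder_of_finite y).mem_powers_iff_mem_zpowers.mpr hg
    have hyc : y ∈ centralizer ({y} : Set G) := mem_centralizer_singleton_iff.mpr rfl
    have h1 : ⁅c, y⁆ ∈ centralizer ({y} : Set G) := by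
      rw [← commutatorElement_inv]
      exact inv_mem (mem_centralizer_singleton_iff.mpr (h c hc).symm.eq)
    show ⁅c, y ^ k⁆ ∈ centralizer ({y} : Set G)
    induction k with
    | zero => rw [pow_zero, commutatorElement_one_right]; exact one_mem _
    | succ i ih =>
      rw [pow_succ, commutatorElement_mul_right_eq_mul_conj]
      exact mul_mem (mul_mem (mul_mem (ih (pow_mem (mem_zpowers y) i)) (pow_mem hyc i)) h1)
        (inv_mem (pow_mem hyc i))
  exact (mem_centralizer_singleton_iff.mp (hle hz)).symm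

/-- Squares in a class two group with elementary commutators. -/
theorem mul_self_mul {C : Subgroup G} {c d : G}
    (h : Commute c ⁅d, c⁆ ∧ Commute d ⁅d, c⁆) :
    c * d * (c * d) = c * c * (d * d) * ⁅d, c⁆ := by
  obtain ⟨hc, hd⟩ := h
  calc c * d * (c * d) = c * (⁅d, c⁆ * c * d) * d := by rw [commutatorElement_def]; group
    _ = c * (c * d * ⁅d, c⁆) * d := by
      congr 2
      rw [mul_assoc]
      exact (hc.symm.mul_right hd.symm).eq
    _ = c * c * (d * (⁅d, c⁆ * d)) := by group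
    _ = c * c * (d * (d * ⁅d, c⁆)) := by rw [hd.eq]
    _ = c * c * (d * d) * ⁅d, c⁆ := by group

/-- A class two 2-group of order at most `2 ^ 5` over `V` moved by `y` of order `p ≥ 7`. -/
theorem exists_elem_mersenne (hp7 : 7 ≤ p) {y : G} (hy : y ^ p = 1) {C V : Subgroup G}
    (hC : IsPGroup 2 C) (hVC : V ≤ C) (hCV : C ≤ centralizer (V : Set G)) (hV : ∀ v ∈ V, v * v = 1)
    (hsq : ∀ c ∈ C, c * c ∈ V) (hcm : ∀ c ∈ C, ∀ d ∈ C, ⁅c, d⁆ ∈ V)
    (hyC : y ∈ normalizer (C : Set G)) (hyV : y ∈ centralizer (V : Set G))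
    (hmv : ¬ ∀ c ∈ C, ⁅y, c⁆ ∈ V) (hsmall : Nat.card C ≤ 2 ^ 5 * Nat.card V) :
    ∃ E, E ≤ C ∧ Cfsg.IsElementaryAbelian 2 E ∧ 2 ^ 3 ≤ Nat.card E := by
  classical
  haveI : Fact (Nat.Prime 2) := ⟨Nat.prime_two⟩
  have hne : (2 : ℕ) ≠ p := by omega
  obtain ⟨D, ⟨hVD, hDC, hyD, hDmv⟩, hDmin⟩ := Set.Finite.exists_minimal
    (s := {D : Subgroup G | V ≤ D ∧ D ≤ C ∧ y ∈ normalizer (D : Set G) ∧ ¬ ∀ c ∈ D, ⁅y, c⁆ ∈ V})
    (Set.toFinite _) ⟨C, hVC, le_rfl, hyC, hmv⟩
  have hyVn : y ∈ normalizer (V : Set G) := centralizer_le_normalizer _ hyV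
  have hDp : IsPGroup 2 D := hC.to_le hDC
  set D₂ := V ⊔ ⁅zpowers y, D⁆ with hD₂
  have hD₂D : D₂ ≤ D := by
    refine sup_le hVD ?_
    rw [commutator_comm]
    exact Coprime.commutator_le_of_le_normalizer (zpowers_le.mpr hyD)
  have hyD₂ : y ∈ normalizer (D₂ : Set G) :=
    normalizer_inf_normalizer_le_normalizer_sup _ _
      ⟨hyVn, normalizer_commutator_ge_left _ _ (mem_zpowers y)⟩
  have hD₂all : D ≤ D₂ := by
    by_contra hlt
    have hall : ∀ d ∈ D₂, ⁅y, d⁆ ∈ V := by
      by_contra hh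
      exact hlt (hDmin ⟨le_sup_left, hD₂D.trans hDC, hyD₂, hh⟩ hD₂D)
    have h2 : y ∈ centralizer (D₂ : Set G) := mem_centralizer_of_stab hy hne (hDp.to_le hD₂D) hyD₂
      fun d hd => (mem_centralizer_iff.mp hyV _ (hall d hd)).symm
    have h3 : y ∈ centralizer (D : Set G) := mem_centralizer_of_stab hy hne hDp hyD
      fun d hd => (mem_centralizer_iff.mp h2 _
        (mem_sup_right (commutator_mem_commutator (mem_zpowers y) hd))).symm
    refine hDmv fun c hc => ?_
    rw [commutatorElement_eq_one_iff_mul_comm.mpr (mem_centralizer_iff.mp h3 c hc).symm]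
    exact one_mem _
  have hDV : D ≤ normalizer (V : Set G) := (hDC.trans hCV).trans (centralizer_le_normalizer _)
  set N := normalizer (V : Set G)
  haveI : (V.subgroupOf N).Normal := (normal_subgroupOf_iff_le_normalizer le_normalizer).mpr le_rfl
  let f := QuotientGroup.mk' (V.subgroupOf N)
  have hfV : ∀ (v : G) (hv : v ∈ N), v ∈ V ↔ f ⟨v, hv⟩ = 1 := fun v hv =>
    (QuotientGroup.eq_one_iff (N := V.subgroupOf N) (⟨v, hv⟩ : N)).symm
  set D' := (D.subgroupOf N).map f
  set y' := f ⟨y, hyVn⟩ with hy'd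
  have hy' : y' ^ p = 1 := by
    rw [← map_pow, show (⟨y, hyVn⟩ : N) ^ p = 1 from Subtype.ext hy, map_one]
  have hcomm : ∀ a ∈ D', ∀ b ∈ D', a * b = b * a := by
    rintro _ ⟨a, ha, rfl⟩ _ ⟨b, hb, rfl⟩
    rw [← commutatorElement_eq_one_iff_mul_comm, ← map_commutatorElement]
    exact (hfV _ _).mp (hcm a (hDC ha) b (hDC hb))
  haveI : IsMulCommutative D' := ⟨⟨fun a b => Subtype.ext (hcomm a a.2 b b.2)⟩⟩
  have hsq' : ∀ a ∈ D', a * a = 1 := by
    rintro _ ⟨a, ha, rfl⟩
    rw [← map_mul]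
    exact (hfV _ _).mp (hsq a (hDC ha))
  have hyD' : y' ∈ normalizer (D' : Set (N ⧸ V.subgroupOf N)) := by
    refine le_normalizer_map f ⟨⟨y, hyVn⟩, mem_normalizer_iff.mpr fun c => ?_, rfl⟩
    exact mem_normalizer_iff.mp hyD (c : G)
  have hD'p : IsPGroup 2 D' := hDp.comap_subtype.map f
  have hDD : D' ≤ ⁅D', zpowers y'⁆ := by
    rintro _ ⟨d, hd, rfl⟩
    have h1 := hD₂all hd
    rw [hD₂] at h1
    have h2 : ((V.subgroupOf N) ⊔ ⁅zpowers (⟨y, hyVn⟩ : N), D.subgroupOf N⁆).map N.subtype =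
        V ⊔ ⁅zpowers y, D⁆ := by
      rw [Subgroup.map_sup, map_subgroupOf_eq_of_le le_normalizer, map_commutator,
        MonoidHom.map_zpowers, map_subgroupOf_eq_of_le hDV]
      rfl
    rw [← h2] at h1
    obtain ⟨d', hd', hdd⟩ := h1
    have h3 := mem_map_of_mem f hd'
    rw [Subgroup.map_sup, map_commutator, MonoidHom.map_zpowers, ← hy'd, commutator_comm,
      show (V.subgroupOf N).map f = ⊥ from
        (Subgroup.map_eq_bot_iff _).mpr (QuotientGroup.ker_mk' _).ge, bot_sup_eq] at h3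
    rwa [Subtype.ext hdd] at h3
  have hfix : D' ⊓ centralizer ({y'} : Set _) = ⊥ := by
    rw [centralizer_singleton_eq, ← le_bot_iff, ← Coprime.inf_centralizer_inf_commutator_eq_bot
      (zpowers_le.mpr hyD') (coprime_zpowers hy' hne hD'p)]
    exact le_inf le_rfl (inf_le_left.trans hDD)
  have hmv' : y' ∉ centralizer (D' : Set (N ⧸ V.subgroupOf N)) := fun hc => hDmv fun c hc' => by
    rw [commutatorElement_def, hfV _ (mul_mem (mul_mem (mul_mem hyVn (hDV hc')) (inv_mem hyVn)) (inv_mem (hDV hc')))]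
    show f (⁅(⟨y, hyVn⟩ : N), ⟨c, hDV hc'⟩⁆) = 1
    rw [map_commutatorElement]
    exact commutatorElement_eq_one_iff_mul_comm.mpr
      (mem_centralizer_iff.mp hc _ ⟨⟨c, hDV hc'⟩, hc', rfl⟩).symm
  obtain ⟨n, j, hn, hj, hjn, hd⟩ := exists_dvd_pow_sub_one hy' hne hD'p hyD' hmv'
  rw [hfix, card_bot] at hj
  obtain rfl : j = 0 := (Nat.pow_eq_one.mp hj.symm).resolve_left (by norm_num)
  rw [Nat.sub_zero] at hd
  have hker : (D.subgroupOf N).map f = D' := rfl
  have hcardD : Nat.card D = 2 ^ n * Nat.card V := by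
    have h1 := (V.subgroupOf D).card_mul_index
    rw [Nat.card_congr (subgroupOfEquivOfLe hVD).toEquiv] at h1
    rw [← h1, mul_comm]
    congr 1
    have h5 : f.ker.relIndex (D.subgroupOf N) = Nat.card ↥((D.subgroupOf N).map f) :=
      relIndex_ker _ f
    rw [← hn, ← h5, QuotientGroup.ker_mk', relIndex_subgroupOf hDV]
    rfl
  have hn5 : n ≤ 5 := by
    have := Nat.card_le_card_of_injective _ (inclusion_injective hDC)
    rw [hcardD] at this
    exact (Nat.pow_le_pow_iff_right (a := 2) (by norm_num)).mp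
      (Nat.le_of_mul_le_mul_right (this.trans hsmall) Nat.card_pos)
  have hp1 : 2 ^ n = p + 1 ∧ 3 ≤ n := by
    have hpr := hp.out
    interval_cases n
    · simp only [Nat.reducePow, Nat.reduceSub] at hd; exact absurd (Nat.le_of_dvd (by norm_num) hd) (by omega)
    · simp only [Nat.reducePow, Nat.reduceSub] at hd; exact absurd (Nat.le_of_dvd (by norm_num) hd) (by omega)
    · simp only [Nat.reducePow, Nat.reduceSub] at hd
      exact ⟨by have := (Nat.prime_dvd_prime_iff_eq hpr (by norm_num : Nat.Prime 7)).mp hd; omega,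
        le_rfl⟩
    · simp only [Nat.reducePow, Nat.reduceSub] at hd
      have := Nat.le_of_dvd (by norm_num) hd
      interval_cases p <;> omega
    · simp only [Nat.reducePow, Nat.reduceSub] at hd
      exact ⟨by have := (Nat.prime_dvd_prime_iff_eq hpr (by norm_num : Nat.Prime 31)).mp hd; omega,
        by norm_num⟩
  -- one orbit outside the identity
  have horb : ∀ a ∈ D', a ≠ 1 → ∀ b ∈ D', b ≠ 1 → ∃ i : ℕ, y' ^ i * a * (y' ^ i)⁻¹ = b := by
    intro a ha ha1 b hb hb1
    haveI := Fintype.ofFinite D'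
    have hmem : ∀ i : ℕ, y' ^ i * a * (y' ^ i)⁻¹ ∈ D' := fun i =>
      (mem_normalizer_iff.mp (pow_mem hyD' i) a).mp ha
    by_contra! hh
    let φ : Option (Option (Fin p)) → D' := fun o => match o with
      | none => ⟨1, one_mem _⟩
      | some none => ⟨b, hb⟩
      | some (some i) => ⟨_, hmem i⟩
    have hinj : Function.Injective φ := by
      have hneq : ∀ i : ℕ, y' ^ i * a * (y' ^ i)⁻¹ ≠ 1 := fun i e => ha1 (conj_eq_one_iff.mp e)
      have key : ∀ i k : Fin p, i ≤ k →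
          y' ^ (i : ℕ) * a * (y' ^ (i : ℕ))⁻¹ = y' ^ (k : ℕ) * a * (y' ^ (k : ℕ))⁻¹ → i = k := by
        intro i k hik e
        by_contra hik'
        have hlt : (i : ℕ) < k := lt_of_le_of_ne hik fun e' => hik' (Fin.ext e')
        obtain ⟨l, hl⟩ := Nat.exists_eq_add_of_le hlt.le
        have hla : Commute (y' ^ l) a := by
          rw [hl, pow_add] at e
          have e2 : y' ^ (i : ℕ) * (y' ^ l * a * (y' ^ l)⁻¹) * (y' ^ (i : ℕ))⁻¹ =
              y' ^ (i : ℕ) * a * (y' ^ (i : ℕ))⁻¹ := by rw [e]; group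
          exact mul_inv_eq_iff_eq_mul.mp (mul_left_cancel (mul_right_cancel e2))
        obtain ⟨u, hu⟩ := Nat.exists_mul_mod_eq_one_of_coprime
          ((hp.out.coprime_iff_not_dvd).mpr (Nat.not_dvd_of_pos_of_lt (by omega) (by omega : l < p))).symm
          hp.out.one_lt
        have hy1 : (y' ^ l) ^ u = y' := by
          rw [← pow_mul, ← Nat.div_add_mod (l * u) p, hu.2, pow_add, pow_mul, hy', one_pow, one_mul,
            pow_one]
        have hc : a ∈ D' ⊓ centralizer ({y'} : Set _) :=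
          ⟨ha, mem_centralizer_singleton_iff.mpr (hy1 ▸ hla.pow_left u).symm.eq⟩
        rw [hfix] at hc
        exact ha1 (mem_bot.mp hc)
      rintro (_ | _ | i) (_ | _ | k) h <;> simp only [φ, Subtype.mk.injEq] at h
      · rfl
      · exact absurd h.symm hb1
      · exact absurd h.symm (hneq k)
      · exact absurd h hb1
      · rfl
      · exact absurd h.symm (hh k)
      · exact absurd h (hneq i)
      · exact absurd h (hh i)
      · rcases le_total i k with hik | hik
        · rw [key i k hik h]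
        · rw [key k i hik h.symm]
    have h1 := Fintype.card_le_of_injective φ hinj
    rw [← Nat.card_eq_fintype_card (α := D'), hn, hp1.1, Fintype.card_option, Fintype.card_option,
      Fintype.card_fin] at h1
    omega
  -- all squares outside `V` are equal
  obtain ⟨a, ha, ha1⟩ : ∃ a ∈ D, a ∉ V := by
    by_contra! hh
    exact hDmv fun c hc => by
      rw [commutatorElement_eq_one_iff_mul_comm.mpr (mem_centralizer_iff.mp hyV c (hh c hc)).symm]
      exact one_mem _
  have hconst : ∀ c ∈ D, c ∉ V → c * c = a * a := by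
    intro c hc hcV
    obtain ⟨i, hi⟩ := horb _ ⟨⟨a, hDV ha⟩, ha, rfl⟩ (fun e => ha1 ((hfV _ _).mpr e))
      _ ⟨⟨c, hDV hc⟩, hc, rfl⟩ (fun e => hcV ((hfV _ _).mpr e))
    have hyi : y ^ i ∈ centralizer (V : Set G) := pow_mem hyV i
    set e := y ^ i * a * (y ^ i)⁻¹ with he
    have hyiN : y ^ i ∈ N := pow_mem hyVn i
    have heN : e ∈ N := mul_mem (mul_mem hyiN (hDV ha)) (inv_mem hyiN)
    have hv : e⁻¹ * c ∈ V := by
      rw [hfV _ (mul_mem (inv_mem heN) (hDV hc))]
      show f ((⟨e, heN⟩ : N)⁻¹ * ⟨c, hDV hc⟩) = 1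
      rw [map_mul, map_inv, inv_mul_eq_one]
      rw [← hi, hy'd, ← map_pow, ← map_inv, ← map_mul, ← map_mul]
      rfl
    have hev : Commute e (e⁻¹ * c) := (mem_centralizer_iff.mp (hCV (hDC
      ((mem_normalizer_iff.mp (pow_mem hyD i) a).mp ha))) _ hv).symm
    have h1 : c * c = e * e * ((e⁻¹ * c) * (e⁻¹ * c)) := by
      rw [← hev.symm.mul_mul_mul_comm, mul_inv_cancel_left]
    rw [h1, hV _ hv, mul_one, he, show y ^ i * a * (y ^ i)⁻¹ * (y ^ i * a * (y ^ i)⁻¹) =
      y ^ i * (a * a) * (y ^ i)⁻¹ by group, mul_inv_eq_iff_eq_mul]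
    exact (mem_centralizer_iff.mp hyi _ (hsq a (hDC ha))).symm
  have hα : a * a = 1 := by
    haveI := Fintype.ofFinite D'
    have h8 : 8 ≤ Nat.card D' := hn ▸ Nat.pow_le_pow_right (n := 2) (by norm_num) hp1.2
    have hpick : ∀ s : Finset D', s.card ≤ 4 → ∃ e : D', e ∉ s := by
      intro s hs
      by_contra! hh
      rw [Nat.card_eq_fintype_card] at h8
      have := Finset.eq_univ_of_forall hh
      rw [this, Finset.card_univ] at hs
      omega
    obtain ⟨a', ha'⟩ := hpick {1} (by simp)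
    obtain ⟨b', hb'⟩ := hpick {1, a'} (Finset.card_le_two.trans (by norm_num))
    obtain ⟨e', he'⟩ := hpick {1, a', b', a' * b'} (Finset.card_le_four)
    simp only [Finset.mem_insert, Finset.mem_singleton, not_or] at ha' hb' he'
    obtain ⟨a₁, ha₁, hfa⟩ := a'.2
    obtain ⟨b₁, hb₁, hfb⟩ := b'.2
    obtain ⟨e₁, he₁, hfe⟩ := e'.2
    have hinv : ∀ u : D', u⁻¹ = u := fun u => inv_eq_of_mul_eq_one_left (Subtype.ext (hsq' u u.2))
    have hout : ∀ (u : N) (u' : D'), f u = u' → u' ≠ 1 → (u : G) ∉ V := fun u u' hu hu1 h =>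
      hu1 (Subtype.ext (hu.symm.trans ((hfV _ u.2).mp h)))
    have key : ∀ c d : G, c ∈ D → d ∈ D → c ∉ V → d ∉ V → c * d ∉ V → ⁅d, c⁆ = a * a := by
      intro c d hc hd hcV hdV hcdV
      have hz : ∀ z ∈ D, Commute z ⁅d, c⁆ := fun z hz =>
        (mem_centralizer_iff.mp (hCV (hDC hz)) _ (hcm d (hDC hd) c (hDC hc))).symm
      have e1 := mul_self_mul (C := C) ⟨hz c hc, hz d hd⟩
      rw [hconst _ (mul_mem hc hd) hcdV, hconst c hc hcV, hconst d hd hdV,
        hV _ (hsq a (hDC ha)), one_mul] at e1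
      exact e1.symm
    have oa := hout a₁ a' hfa ha'
    have ob := hout b₁ b' hfb hb'.1
    have oe := hout e₁ e' hfe he'.1
    have oba : (b₁ : G) * a₁ ∉ V := hout (b₁ * a₁) (b' * a')
      (by rw [map_mul, hfa, hfb]; rfl) fun h => hb'.2 (by
        rw [eq_inv_of_mul_eq_one_left h, hinv])
    have oea : (e₁ : G) * a₁ ∉ V := hout (e₁ * a₁) (e' * a')
      (by rw [map_mul, hfa, hfe]; rfl) fun h => he'.2.1 (by
        rw [eq_inv_of_mul_eq_one_left h, hinv])
    have obe : (b₁ : G) * e₁ ∉ V := hout (b₁ * e₁) (b' * e')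
      (by rw [map_mul, hfb, hfe]; rfl) fun h => he'.2.2.1 (by
        rw [eq_inv_of_mul_eq_one_right h, hinv])
    have obea : (b₁ : G) * e₁ * a₁ ∉ V := hout (b₁ * e₁ * a₁) (b' * e' * a')
      (by rw [map_mul, map_mul, hfa, hfb, hfe]; rfl) fun h => he'.2.2.2 (by
        have h' := eq_inv_of_mul_eq_one_left h
        rw [hinv] at h'
        rw [show a' * b' = b' * a' from Subtype.ext (hcomm a' a'.2 b' b'.2), ← h', ← mul_assoc,
          Subtype.ext (hsq' b' b'.2) (a1 := b' * b') (a2 := 1), one_mul])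
    have k1 := key b₁ a₁ hb₁ ha₁ ob oa oba
    have k2 := key e₁ a₁ he₁ ha₁ oe oa oea
    have k3 := key (b₁ * e₁) a₁ (mul_mem hb₁ he₁) ha₁ obe oa obea
    rw [commutatorElement_mul_right_eq_mul_conj, k1, k2] at k3
    have hc : Commute (b₁ : G) (a * a) :=
      (mem_centralizer_iff.mp (hCV (hDC hb₁)) _ (hsq a (hDC ha))).symm
    rw [mul_assoc (a * a), hc.eq, mul_assoc, mul_inv_cancel_right, hV _ (hsq a (hDC ha))] at k3
    exact k3.symm
  have hD1 : ∀ c ∈ D, c * c = 1 := fun c hc => by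
    by_cases hcV : c ∈ V
    · exact hV c hcV
    · rw [hconst c hc hcV, hα]
  refine ⟨D, hDC, ⟨⟨⟨fun c d => Subtype.ext ?_⟩⟩, fun c hc => by rw [pow_two]; exact hD1 c hc⟩, ?_⟩
  · exact mul_comm_of_sq (hD1 c c.2) (hD1 d d.2) (hD1 _ (mul_mem c.2 d.2))
  · rw [hcardD]
    calc 2 ^ 3 ≤ 2 ^ n * 1 := by rw [mul_one]; exact Nat.pow_le_pow_right (by norm_num) hp1.2
      _ ≤ _ := Nat.mul_le_mul_left _ Nat.card_pos

/-- A moved group has rank at least three, except for `(r, p) = (2, 5)`. -/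
theorem hasRank3_of_moved (hp5 : 5 ≤ p) (hrp : r < p) {y : G} (hy : y ^ p = 1) {R : Subgroup G}
    (hR : IsPGroup r R) (hn : y ∈ normalizer (R : Set G)) (hmv : y ∉ centralizer (R : Set G)) :
    HasRank3 r R ∨ (r = 2 ∧ p = 5) := by
  have hcopy : (orderOf y).Coprime r :=
    ((Nat.coprime_primes hp.out hr.out).mpr hrp.ne').coprime_dvd_left (orderOf_dvd_of_pow_eq_one hy)
  by_cases hr2 : r ≠ 2
  · left
    obtain ⟨Q, hQR, hQe, hQc, hQn, hQf⟩ := LocalEven48.KlingerMason.exists_isCritExp hr2 hR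
    have hQp : IsPGroup r Q := hR.to_le hQR
    have hDQ : ⁅Q, Q⁆ ≤ Q := commutator_le.mpr fun a ha b hb =>
      mul_mem (mul_mem (mul_mem ha hb) (inv_mem ha)) (inv_mem hb)
    have hcl : Q ≤ centralizer ((⁅Q, Q⁆ : Subgroup G) : Set G) := by
      rw [le_centralizer_iff, commutator_le]
      exact fun a ha b hb => mem_centralizer_iff.mpr fun z hz => (hQc a ha b hb z hz).symm.eq
    have hmvQ : y ∉ centralizer (Q : Set G) := fun hc => hmv (hQf y hn hcopy hc)
    have hyQ := hQn hn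
    have hmv' : ¬ ∀ c ∈ Q, ⁅y, c⁆ ∈ ⁅Q, Q⁆ := by
      intro hall
      refine hmvQ (mem_centralizer_of_stab hy hrp.ne hQp hyQ fun c hc => ?_)
      have hle : ⁅Q, Q⁆ ≤ centralizer ({y} : Set G) := commutator_le.mpr fun a ha b hb => by
        refine mem_centralizer_singleton_iff.mpr (mul_inv_eq_iff_eq_mul.mp ?_).symm
        have e1 : y * ⁅a, b⁆ * y⁻¹ = ⁅⁅y, a⁆ * a, ⁅y, b⁆ * b⁆ := by
          simp only [commutatorElement_def]; group
        have hz : ∀ d ∈ Q, ∀ z ∈ ⁅Q, Q⁆, Commute z d := fun d hd z hz =>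
          mem_centralizer_iff.mp (hcl hd) z hz
        rw [e1]
        exact commutatorElement_mul_central (hz a ha _ (hall a ha)) (hz b hb _ (hall a ha))
          (hz _ (hDQ (hall b hb)) _ (hall a ha)) (hz a ha _ (hall b hb)) (hz b hb _ (hall b hb))
      exact (mem_centralizer_singleton_iff.mp (hle (hall c hc))).symm
    obtain ⟨n, j, hcard, hlt, hd⟩ := exists_section_dvd hy hrp.ne hQp hDQ
      (normalizer_commutator_ge_left Q Q)
      (LocalStructure.normalizer_le_normalizer_commutator Q Q (mem_inf.mpr ⟨hyQ, hyQ⟩)) hyQ hmv'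
    have h3 := three_le_exponent hp5 hrp (by omega) hd
    obtain ⟨E, hEQ, -, hE, hE3⟩ := exists_elem_cube hQe hcl (by
      rw [hcard]; exact Nat.mul_le_mul_right _ (Nat.pow_le_pow_right hr.out.pos (by omega)))
      (one_mem Q)
    exact ⟨E, hEQ.trans hQR, hE, hE3⟩
  rw [not_not] at hr2
  subst hr2
  obtain ⟨H, hHc, hfr, hcm, hcc⟩ := Transfer.exists_critical hR
  haveI := hHc
  set C := H.map R.subtype
  have hCR : C ≤ R := map_subtype_le _
  have hCp : IsPGroup 2 C := hR.to_le hCR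
  have hCn := CfsgLib.Components.normalizer_le_normalizer_map_subtype R H
  have hyC : y ∈ normalizer (C : Set G) := hCn hn
  set Z := C ⊓ centralizer (C : Set G) with hZd
  have hcmR : ∀ c ∈ C, ∀ g ∈ R, ⁅c, g⁆ ∈ Z := by
    rintro _ ⟨c, hc, rfl⟩ g hg
    have h1 := hcm (commutator_mem_commutator hc (mem_top (⟨g, hg⟩ : R)))
    refine ⟨⟨_, h1.1, rfl⟩, mem_centralizer_iff.mpr ?_⟩
    rintro _ ⟨d, hd, rfl⟩
    exact congrArg Subtype.val (mem_centralizer_iff.mp h1.2 d hd)
  have hsqZ : ∀ c ∈ C, c * c ∈ Z := by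
    rintro _ ⟨c, hc, rfl⟩
    refine ⟨mul_mem ⟨c, hc, rfl⟩ ⟨c, hc, rfl⟩, mem_centralizer_iff.mpr ?_⟩
    rintro _ ⟨d, hd, rfl⟩
    have h2 : (⟨c, hc⟩ : H) * ⟨c, hc⟩ ∈ frattini H := by
      rw [← pow_two]; exact CfsgLib.Solvable.pow_mem_frattini (hR.to_subgroup H) _
    exact congrArg Subtype.val (mem_centralizer_iff.mp (hfr ⟨_, h2, rfl⟩) d hd)
  have hmvC : y ∉ centralizer (C : Set G) := by
    intro hc
    refine hmv (mem_centralizer_of_stab hy hrp.ne hR hn fun g hg => ?_)
    have hu : ⁅y, g⁆ ∈ R := by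
      rw [commutatorElement_def]
      exact mul_mem ((mem_normalizer_iff.mp hn g).mp hg) (inv_mem hg)
    suffices hh : ⁅y, g⁆ ∈ C from (mem_centralizer_iff.mp hc _ hh).symm
    have hgC : g ∈ normalizer (C : Set G) := hCn (le_normalizer hg)
    have hcen : ⁅y, g⁆ ∈ centralizer (C : Set G) := by
      rw [commutatorElement_def]
      have hgy : g * y⁻¹ * g⁻¹ ∈ centralizer (C : Set G) :=
        (mem_normalizer_iff.mp ((CfsgLib.CharPLocal.normalizer_le_normalizer_centralizer C) hgC) _).mp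
          (inv_mem hc)
      rw [mul_assoc y, mul_assoc y]
      exact mul_mem hc hgy
    exact ⟨⟨_, hu⟩, hcc (mem_centralizer_iff.mpr fun d hd => Subtype.ext
      (mem_centralizer_iff.mp hcen _ ⟨d, hd, rfl⟩)), rfl⟩
  have hZc : ∀ z ∈ Z, ∀ c ∈ C, Commute c z := fun z hz c hc => mem_centralizer_iff.mp hz.2 c hc
  let V : Subgroup G :=
    { carrier := {z | z ∈ Z ∧ z * z = 1}
      one_mem' := ⟨one_mem _, one_mul 1⟩
      mul_mem' := fun {a b} ha hb => ⟨mul_mem ha.1 hb.1, by
        rw [(hZc b hb.1 a ha.1.1).symm.mul_mul_mul_comm, ha.2, hb.2, one_mul]⟩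
      inv_mem' := fun {a} ha => ⟨inv_mem ha.1, by rw [← mul_inv_rev, ha.2, inv_one]⟩ }
  have hVC : V ≤ C := fun z hz => hz.1.1
  have hVel : Cfsg.IsElementaryAbelian 2 V := ⟨⟨⟨fun a b => Subtype.ext
    (hZc b b.2.1 a a.2.1.1).eq⟩⟩, fun a ha => by rw [pow_two]; exact ha.2⟩
  have hyV : y ∈ normalizer (V : Set G) := LocalStructure.mem_normalizer_of_forall fun z hz => by
    have hyZ : y ∈ normalizer (Z : Set G) :=
      (le_inf le_rfl (CfsgLib.CharPLocal.normalizer_le_normalizer_centralizer C)).trans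
        inf_normalizer_le_normalizer_inf hyC
    refine ⟨(mem_normalizer_iff.mp hyZ z).mp hz.1, ?_⟩
    rw [show y * z * y⁻¹ * (y * z * y⁻¹) = y * (z * z) * y⁻¹ by group, hz.2]
    group
  by_cases hVmv : y ∉ centralizer (V : Set G)
  · exact Or.inl ⟨V, hVC.trans hCR, hVel,
      cube_le_card hp5 hrp hy (hCp.to_le hVC) hyV hVmv⟩
  rw [not_not] at hVmv
  have hyZ : y ∈ normalizer (Z : Set G) :=
    (le_inf le_rfl (CfsgLib.CharPLocal.normalizer_le_normalizer_centralizer C)).trans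
      inf_normalizer_le_normalizer_inf hyC
  have hyZc : y ∈ centralizer (Z : Set G) := by
    haveI : IsMulCommutative Z := ⟨⟨fun a b => Subtype.ext (hZc b b.2 a a.2.1).eq⟩⟩
    refine Coprime.le_centralizer_of_forall_prime_order (zpowers_le.mpr hyZ)
      (coprime_zpowers hy hrp.ne (hCp.to_le inf_le_left)) (fun v hv hpr => ?_) (mem_zpowers y)
    rw [← centralizer_singleton_eq]
    refine mem_centralizer_singleton_iff.mpr (mem_centralizer_iff.mp hVmv v ⟨hv, ?_⟩)
    obtain ⟨k, hk⟩ := (hCp.to_le (inf_le_left : Z ≤ C)).exists_orderOf_eq_pow ⟨v, hv⟩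
    rw [Subgroup.orderOf_mk] at hk
    have : orderOf v = 2 :=
      (Nat.prime_dvd_prime_iff_eq hpr Nat.prime_two).mp (hpr.dvd_of_dvd_pow hk.dvd)
    rw [← pow_two, ← this, pow_orderOf_eq_one]
  have hsqV : ∀ c ∈ C, ∀ d ∈ C, ⁅c, d⁆ ∈ V := by
    intro c hc d hd
    refine ⟨hcmR c hc d (hCR hd), ?_⟩
    have h1 : Commute c ⁅c, d⁆ := hZc _ (hcmR c hc d (hCR hd)) c hc
    rw [← commutatorElement_mul_left_of_central h1]
    exact commutatorElement_eq_one_iff_commute.mpr (hZc _ (hsqZ c hc) d hd).symm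
  let C₀ : Subgroup G :=
    { carrier := {c | c ∈ C ∧ c * c ∈ V}
      one_mem' := ⟨one_mem _, by rw [one_mul]; exact one_mem _⟩
      mul_mem' := fun {a b} ha hb => ⟨mul_mem ha.1 hb.1, by
        have h1 := hZc _ (hcmR b hb.1 a (hCR ha.1))
        rw [mul_self_mul (C := C) ⟨h1 a ha.1, h1 b hb.1⟩]
        exact mul_mem (mul_mem ha.2 hb.2) (hsqV b hb.1 a ha.1)⟩
      inv_mem' := fun {a} ha => ⟨inv_mem ha.1, by rw [← mul_inv_rev]; exact inv_mem ha.2⟩ }
  have hC₀C : C₀ ≤ C := fun c hc => hc.1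
  have hVC₀ : V ≤ C₀ := fun v hv => ⟨hVC hv, by rw [hv.2]; exact one_mem _⟩
  have hyC₀ : y ∈ normalizer (C₀ : Set G) := LocalStructure.mem_normalizer_of_forall fun c hc => by
    refine ⟨(mem_normalizer_iff.mp hyC c).mp hc.1, ?_⟩
    rw [show y * c * y⁻¹ * (y * c * y⁻¹) = y * (c * c) * y⁻¹ by group]
    exact (mem_normalizer_iff.mp hyV _).mp hc.2
  have hin : ∀ c ∈ C, ⁅y, c⁆ ∈ C₀ := by
    intro c hc
    set d := y * c * y⁻¹
    have hd : d ∈ C := (mem_normalizer_iff.mp hyC c).mp hc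
    have e : ⁅y, c⁆ = d * c⁻¹ := commutatorElement_def y c
    rw [e]
    refine ⟨mul_mem hd (inv_mem hc), ?_⟩
    have h1 := hZc _ (hcmR c⁻¹ (inv_mem hc) d (hCR hd))
    rw [mul_self_mul (C := C) ⟨h1 d hd, h1 c⁻¹ (inv_mem hc)⟩]
    have hdd : d * d = c * c := by
      show y * c * y⁻¹ * (y * c * y⁻¹) = c * c
      rw [show y * c * y⁻¹ * (y * c * y⁻¹) = y * (c * c) * y⁻¹ by group, mul_inv_eq_iff_eq_mul]
      exact (mem_centralizer_iff.mp hyZc _ (hsqZ c hc)).symm
    rw [hdd, show c * c * (c⁻¹ * c⁻¹) = 1 by group, one_mul]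
    exact hsqV _ (inv_mem hc) _ hd
  have hmv₀ : ¬ ∀ c ∈ C₀, ⁅y, c⁆ ∈ V := by
    intro hall
    refine hmvC (mem_centralizer_of_stab hy hrp.ne hCp hyC fun c hc => ?_)
    have h2 : y ∈ centralizer (C₀ : Set G) := mem_centralizer_of_stab hy hrp.ne (hCp.to_le hC₀C) hyC₀
      fun d hd => (mem_centralizer_iff.mp hVmv _ (hall d hd)).symm
    exact (mem_centralizer_iff.mp h2 _ (hin c hc)).symm
  have hCV : C ≤ centralizer (V : Set G) := fun c hc => mem_centralizer_iff.mpr fun v hv =>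
    (hZc v hv.1 c hc).symm.eq
  have hC₀n : C₀ ≤ normalizer (V : Set G) :=
    (hC₀C.trans hCV).trans (centralizer_le_normalizer _)
  obtain ⟨n, j, hcard, hlt, hd⟩ :=
    exists_section_dvd hy hrp.ne (hCp.to_le hC₀C) hVC₀ hC₀n hyV hyC₀ hmv₀
  by_cases h6 : 6 ≤ n
  · obtain ⟨E, hE, -, hEel, hE3⟩ := exists_elem_eight (C := C₀) (V := V) hVC₀ (hC₀C.trans hCV)
      (fun v hv => hv.2) (fun c hc => hc.2) (fun c hc d hd => hsqV c hc.1 d hd.1) (by
        rw [hcard]; exact Nat.mul_le_mul_right _ (Nat.pow_le_pow_right (by norm_num) h6))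
      (one_mem _) (one_mul 1)
    exact Or.inl ⟨E, hE.trans (hC₀C.trans hCR), hEel, hE3⟩
  by_cases h5 : p = 5
  · exact Or.inr ⟨rfl, h5⟩
  left
  have hp6 : p ≠ 6 := fun e => by have := hp.out; subst e; norm_num at this
  obtain ⟨E, hE, hEel, hE3⟩ := exists_elem_mersenne (p := p) (by omega) hy (hCp.to_le hC₀C) hVC₀
    (hC₀C.trans hCV) (fun v hv => hv.2) (fun c hc => hc.2) (fun c hc d hd => hsqV c hc.1 d hd.1)
    hyC₀ hVmv hmv₀ (by
      rw [hcard]
      exact Nat.mul_le_mul_right _ (Nat.pow_le_pow_right (by norm_num) (by omega)))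
  exact ⟨E, hE.trans (hC₀C.trans hCR), hEel, hE3⟩

end Moved

end CfsgLib.TwoGenSolv66
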