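import Cfsg.Agent.TwoGenSolv66.Classify

/-!
# The member at the prime three

* `Ctx.commutator_eq_closure` : `[Q, B]` depends only on `[Q, x]` and `B`.
* `Ctx.mixed_core_eq` : in a low mixed member `O_3` depends only on the `x`-part.
* `Ctx.hubHyp_three`, `Ctx.members_three_eq` : every member has a hub, and all members are equal.
-/

set_option autoImplicit false
set_option linter.unusedSectionVars false
set_option linter.unusedVariables false
set_option linter.style.haveILetI false

open scoped commutatorElement Pointwise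

namespace CfsgLib.TwoGenSolv66

open Subgroup CfsgLib.SolvSig CfsgLib.Transitivity

universe u

/-- The subgroup generated by the fixed elements of order prime to `p`. -/
def fixPrime {G : Type*} [Group G] (p : ℕ) (x : G) : Subgroup G :=
  Subgroup.closure {c | Commute c x ∧ ¬ p ∣ orderOf c}

/-- The group generated by the conjugates of `X` under `B`. -/
def conjClosure {G : Type*} [Group G] (X B : Subgroup G) : Subgroup G :=
  ⨆ b : B, X.map (MulAut.conj (b : G)).toMonoidHom

variable {G : Type u} [Group G] [Finite G] {p : ℕ} [hp : Fact p.Prime] {x : G}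

theorem centralizer_le_normalizer_fixPrime :
    centralizer ({x} : Set G) ≤ normalizer (fixPrime p x : Set G) := fun g hg => by
  refine LocalStructure.mem_normalizer_of_forall fun c hc => ?_
  have hle : fixPrime p x ≤ (fixPrime p x).comap (MulAut.conj g).toMonoidHom := by
    refine (closure_le _).mpr fun c hc => subset_closure ⟨?_, ?_⟩
    · have hgx : Commute g x := mem_centralizer_singleton_iff.mp hg
      exact (hgx.mul_left hc.1).mul_left hgx.inv_left
    · rw [MulEquiv.coe_toMonoidHom, MulEquiv.orderOf_eq]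
      exact hc.2
  exact hle hc

namespace Ctx

variable (h : Ctx G p x)
include h

/-- `[Q, B]` is determined by `[Q, x]` and `B`. -/
theorem commutator_eq_closure {Q B : Subgroup G} (hB : IsObj p x 2 B)
    (hQ : IsPGroup 3 Q) (hBQ : B ≤ normalizer (Q : Set G))
    (hxQ : x ∈ normalizer (Q : Set G)) :
    ⁅Q, B⁆ = ⁅conjClosure ⁅Q, zpowers x⁆ B, B⁆ := by
  haveI : Fact (Nat.Prime 2) := ⟨Nat.prime_two⟩
  haveI : Fact (Nat.Prime 3) := ⟨Nat.prime_three⟩
  set Y := ⁅Q, B⁆
  set S := conjClosure ⁅Q, zpowers x⁆ B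
  have hXQ : ⁅Q, zpowers x⁆ ≤ Q := Coprime.commutator_le_of_le_normalizer (zpowers_le.mpr hxQ)
  have hSQ : S ≤ Q := iSup_le fun b => by
    rintro _ ⟨a, ha, rfl⟩
    exact (mem_normalizer_iff.mp (hBQ b.2) a).mp (hXQ ha)
  have hYQ : Y ≤ Q := Coprime.commutator_le_of_le_normalizer hBQ
  have hcop : (Nat.card B).Coprime (Nat.card Q) := by
    obtain ⟨i, hi⟩ := IsPGroup.iff_card.mp hB.isPGroup
    obtain ⟨j, hj⟩ := IsPGroup.iff_card.mp hQ
    rw [hi, hj]; exact (by norm_num : Nat.Coprime 2 3).pow i j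
  have hYB : ⁅Y, B⁆ = Y := Coprime.commutator_commutator_eq hBQ hcop
  refine le_antisymm ?_ (commutator_mono hSQ le_rfl)
  -- the closure of `[Y, x]`
  set N := conjClosure ⁅Y, zpowers x⁆ B with hN
  have hBY : B ≤ normalizer (Y : Set G) := normalizer_commutator_ge_right Q B
  have hxY : x ∈ normalizer (Y : Set G) :=
    CharPLocal.inf_normalizer_le_normalizer_commutator _ _ ⟨hxQ, hB.inv⟩
  have hN1 : ∀ b : B, ∀ a ∈ ⁅Y, zpowers x⁆, (b : G) * a * (b : G)⁻¹ ∈ N := fun b a ha =>
    le_iSup (fun b : B => (⁅Y, zpowers x⁆).map (MulAut.conj (b : G)).toMonoidHom) b ⟨a, ha, rfl⟩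
  have hnorm : ∀ g : G, (∀ b : B, ∀ a ∈ ⁅Y, zpowers x⁆,
      g * ((b : G) * a * (b : G)⁻¹) * g⁻¹ ∈ N) → g ∈ normalizer (N : Set G) := fun g hg =>
    LocalStructure.mem_normalizer_of_forall fun a ha => by
      have hle : N ≤ N.comap (MulAut.conj g).toMonoidHom := iSup_le fun b => by
        rintro _ ⟨a, ha, rfl⟩
        exact hg b a ha
      exact hle ha
  have hY1 : Y ≤ normalizer ((⁅Y, zpowers x⁆ : Subgroup G) : Set G) :=
    normalizer_commutator_ge_left Y _
  have hYN : Y ≤ normalizer (N : Set G) := fun u hu => hnorm u fun b a ha => by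
    have hu' : (b : G)⁻¹ * u * (b : G) ∈ Y := by
      have := (mem_normalizer_iff.mp (inv_mem (hBY b.2)) u).mp hu
      rwa [inv_inv] at this
    have := hN1 b _ ((mem_normalizer_iff.mp (hY1 hu') a).mp ha)
    convert this using 1; group
  have hBN : B ≤ normalizer (N : Set G) := fun c hc => hnorm c fun b a ha => by
    have := hN1 (⟨c, hc⟩ * b) a ha
    convert this using 1
    push_cast
    group
  have hxN : x ∈ normalizer (N : Set G) := hnorm x fun b a ha => by
    have := hN1 ⟨x * b * x⁻¹, (mem_normalizer_iff.mp hB.inv b).mp b.2⟩ _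
      ((mem_normalizer_iff.mp (normalizer_commutator_ge_right Y (zpowers x) (mem_zpowers x)) a).mp ha)
    convert this using 1
    group
  have hYxN : ⁅zpowers x, Y⁆ ≤ N := fun a ha => by
    rw [commutator_comm] at ha
    simpa using hN1 1 a ha
  have h1 := commutator_commutator_le (sup_le (sup_le hBN (zpowers_le.mpr hxN)) hYN) hBY hYxN
  rw [hB.eq, commutator_comm] at h1
  have hNS : N ≤ S := iSup_mono fun b => map_mono (commutator_mono hYQ le_rfl)
  rw [← hYB]
  exact commutator_mono ((hYB.ge.trans h1).trans hNS) le_rfl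

variable {M : Subgroup G} (hm : Member p x 3 (bigSet p x) M)
include hm

theorem member_notMem : M ∉ bigSet p x := fun e => by
  obtain ⟨-, -, A, hA, hAM⟩ := hm
  exact hA.2 M e hAM

variable (ht : IsTriv 3 G)
include ht

/-- A member at three has `O_{3'} = 1` and `O_3` is self centralising. -/
theorem member_three_core : core' 3 M = ⊥ ∧ M ⊓ centralizer (core 3 M : Set G) ≤ core 3 M := by
  haveI : Fact (Nat.Prime 3) := ⟨Nat.prime_three⟩
  haveI := h.hyp.sub M hm.1.1
  obtain ⟨E, hEX, hE⟩ := h.obj_rank (h.xPart_avoids (h.setup_three ht) hm).1.1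
    (fun e => by norm_num at e)
  have hbot := h.core'_eq_bot_of_triv (h.setup_three ht) ht hm hE
    (hEX.trans (h.xPart_avoids (h.setup_three ht) hm).2)
  refine ⟨hbot, fun g hg => ?_⟩
  have h1 : (⟨g, hg.1⟩ : ↥M) ∈ centralizer (Cfsg.pCore 3 ↥M : Set ↥M) :=
    mem_centralizer_iff.mpr fun c hc => Subtype.ext
      (mem_centralizer_iff.mp hg.2 (c : G) ⟨c, hc, rfl⟩)
  exact ⟨_, PLocal.centralizer_pCore_le PLocal.isPSolvable_of_isSolvable
    ((Subgroup.map_eq_bot_iff_of_injective _ M.subtype_injective).mp hbot) h1, rfl⟩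

variable {B : Subgroup G} (hB : IsObj p x 2 B) (hBM : B ≤ M)
include hB hBM

/-- A mixed member is the normaliser of `[Q, B]`. -/
theorem mixed_eq_normalizer : M = normalizer ((⁅core 3 M, B⁆ : Subgroup G) : Set G) := by
  haveI : Fact (Nat.Prime 2) := ⟨Nat.prime_two⟩
  haveI : Fact (Nat.Prime 3) := ⟨Nat.prime_three⟩
  obtain ⟨A, hA, hAM⟩ := hm.2.2
  obtain ⟨hp5, hlow, -⟩ := h.mixed_low hm.1 hm.2.1 (h.member_notMem hm) hA.1 hAM hB hBM
  have hBQ : B ≤ normalizer (core 3 M : Set G) := hBM.trans (le_normalizer_core 3 M)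
  have hYQ : ⁅core 3 M, B⁆ ≤ core 3 M := Coprime.commutator_le_of_le_normalizer hBQ
  have hne : ⁅core 3 M, B⁆ ≠ ⊥ := fun e => hB.ne_bot (le_bot_iff.mp (le_trans
    (le_inf le_rfl ((le_inf hBM (by
      rw [commutator_comm, commutator_eq_bot_iff_le_centralizer] at e
      exact e)).trans (h.member_three_core hm ht).2))
    (IsPGroup.disjoint_of_ne 2 3 (by norm_num) B _ hB.isPGroup (core_isPGroup 3 M)).eq_bot.le))
  have hle : M ≤ normalizer ((⁅core 3 M, B⁆ : Subgroup G) : Set G) :=
    (h.le_sup_normalizer hp5 hm.1.1 hm.2.1 hB hBM hlow).trans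
      (sup_le (normalizer_commutator_ge_left _ _)
        ((inf_le_inf_right _ (le_normalizer_core 3 M)).trans
          (CharPLocal.inf_normalizer_le_normalizer_commutator _ _)))
  exact ((hm.1.le_iff.mp hle).resolve_left (h.hyp.normalizer_ne_top hne
    (h.hyp.ne_top_of_isPGroup ((core_isPGroup 3 M).to_le hYQ)))).symm

/-- Fixed elements of order prime to `p` lie in a mixed member. -/
theorem fixPrime_le_mixed : fixPrime p x ≤ M := by
  haveI : Fact (Nat.Prime 2) := ⟨Nat.prime_two⟩
  haveI : Fact (Nat.Prime 3) := ⟨Nat.prime_three⟩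
  obtain ⟨A, hA, hAM⟩ := id hm.2.2
  obtain ⟨hp5, hlow, -⟩ := h.mixed_low hm.1 hm.2.1 (h.member_notMem hm) hA.1 hAM hB hBM
  have hBlow : ¬ HasRank3 2 B := low_moved hlow hB.isPGroup hBM hB.inv (obj_moved hB)
  have hS := low_spec (h.pow_five hp5) hB.isPGroup hBlow hB.inv (obj_moved hB)
  have hS3 := h.setup_three ht
  obtain ⟨hXa, hXM⟩ := h.xPart_avoids hS3 hm
  set Q := core 3 M
  set X := xPart 3 x M
  have hQp : IsPGroup 3 Q := core_isPGroup 3 M
  have hBQ : B ≤ normalizer (Q : Set G) := hBM.trans (le_normalizer_core 3 M)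
  have hxQ : x ∈ normalizer (Q : Set G) := le_normalizer_core 3 M hm.2.1
  obtain ⟨a, ha, d, hd, hdx, hdL⟩ : ∃ a, (a ∈ B ∧ a ∉ phiSub B) ∧
      ∃ d ∈ Q ⊓ centralizer ({a} : Set G), ¬ Commute d x ∧ ∀ L ∈ bigSet p x, d ∉ L := by
    by_contra! hh
    have hQW : ∀ W : Subgroup G,
        (∀ a ∈ B, a ∉ phiSub B → ∀ d ∈ Q ⊓ centralizer ({a} : Set G), d ∈ W) → Q ≤ W := fun W hW =>
      (le_iSup_fixed hB.isPGroup hQp hBQ (phiSub_le B) hS.central hS.sq_one hS.card_le
        (fun a ha => sq_mem_phiSub hB.isPGroup ha)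
        (fun a ha b hb => commutator_mem_phiSub hB.isPGroup ha hb) hS.card_eq.ge).trans
        (iSup₂_le fun a ha => hW a ha.1 ha.2)
    by_cases hL : ∃ L, L ∈ bigSet p x
    · obtain ⟨L, hL⟩ := hL
      refine hXa.2 L hL ((xPart_le hm.2.1).trans (hQW L fun a ha haΦ d hd => ?_))
      by_cases hdx : Commute d x
      · exact (h.big_of_mem_bigSet hL).centralizer_le (mem_centralizer_singleton_iff.mpr hdx.eq)
      · obtain ⟨L', hL', hdL'⟩ := hh a ⟨ha, haΦ⟩ d hd hdx
        rwa [h.hi_unique hp5 (h.hi_of_mem_bigSet hp5 ht hL) (h.hi_of_mem_bigSet hp5 ht hL')]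
    · push Not at hL
      refine hXa.1.ne_bot (le_bot_iff.mp ((commutator_mono
        (hQW (centralizer ({x} : Set G)) fun a ha haΦ d hd => ?_) le_rfl).trans
          (le_of_eq (zpowers_commutator_eq_bot fun c hc =>
            (mem_centralizer_singleton_iff.mp hc : Commute c x).symm))))
      by_contra hdx
      obtain ⟨L', hL', -⟩ := hh a ⟨ha, haΦ⟩ d hd fun e =>
        hdx (mem_centralizer_singleton_iff.mpr e.eq)
      exact hL L' hL'
  refine (closure_le _).mpr ?_
  rintro c ⟨hcx, hcp⟩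
  obtain ⟨hdQ, hda⟩ := mem_inf.mp hd
  obtain ⟨M', hM', hle⟩ := h.hyp.exists_maximal (h.hyp.gen (x * c) (a * d))
  have h1 := zpowers_le.mpr (hle (subset_closure (Set.mem_insert (x * c) _)))
  have h2 := zpowers_le.mpr
    (hle (subset_closure (Set.mem_insert_of_mem (x * c) (Set.mem_singleton (a * d)))))
  have hxc := mem_zpowers_mul_of_coprime hcx.symm (h.ord ▸ (hp.out.coprime_iff_not_dvd.mpr hcp))
  have had := mem_zpowers_mul_of_coprime
    (show Commute a d from (mem_centralizer_singleton_iff.mp hda).symm)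
    (coprime_orderOf_of_pGroup (by norm_num) hB.isPGroup hQp ha.1 hdQ)
  have hxM' : x ∈ M' := h1 hxc.1
  have hdM' : d ∈ M' := h2 had.2
  -- the companion is a member with the same `x`-part
  have hwM : d⁻¹ * x * d ∈ M' := mul_mem (mul_mem (inv_mem hdM') hxM') hdM'
  have hu : ⁅x, d⁻¹ * x * d⁆ ∈ Q := by
    simpa using comm_conj_mem (x := x) hxQ hxQ (Commute.refl x) (inv_mem hdQ)
  have hu1 : ⁅x, d⁻¹ * x * d⁆ ≠ 1 := fun e => hdx <| by
    have h1 := h.commute_of_commute_conj Nat.prime_three hS3.weak.ne hQp hxQ (inv_mem hdQ)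
      (by rw [inv_inv]; exact (commutatorElement_eq_one_iff_commute.mp e).symm)
    simpa using h1.inv_left
  obtain ⟨A', hA', hA'M', hA'Q⟩ := h.exists_avoids_inter hS3 hQp hxQ hxM' hwM hu hu1
    (g := d⁻¹) (by rw [inv_inv]) fun L hL e => hdL L hL (by simpa using inv_mem e)
  have hm' : Member p x 3 (bigSet p x) M' := ⟨hM', hxM', A', hA', hA'M'⟩
  have hBM' : B ≤ M' := by
    have hD : M' ⊓ B = B := hS.eq_of_moved _ inf_le_right
      (inf_normalizer_le_normalizer_inf ⟨le_normalizer hxM', hB.inv⟩) fun hc =>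
        ha.2 (hS.fix_le ⟨ha.1, mem_centralizer_singleton_iff.mpr
          (mem_centralizer_iff.mp hc a ⟨h2 had.1, ha.1⟩)⟩)
    exact hD.ge.trans inf_le_left
  have hX : xPart 3 x M' = X := h.xPart_eq hS3 ⟨hA'.1.isPGroup, hA'.1.inv, A', hA', le_rfl⟩ hM'
    hxM' hA'M' hm.1 hm.2.1 (hA'Q.trans (core_le 3 M))
  have hYY : ⁅core 3 M', B⁆ = ⁅Q, B⁆ := by
    rw [h.commutator_eq_closure hB (core_isPGroup 3 M') (hBM'.trans (le_normalizer_core 3 M'))
      (le_normalizer_core 3 M' hxM'), h.commutator_eq_closure hB hQp hBQ hxQ]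
    show ⁅conjClosure (xPart 3 x M') B, B⁆ = ⁅conjClosure X B, B⁆
    rw [hX]
  have hMM : M' = M := by
    rw [h.mixed_eq_normalizer hm' ht hB hBM', h.mixed_eq_normalizer hm ht hB hBM, hYY]
  exact hMM ▸ h1 hxc.2

/-- `O_3` of a mixed member depends only on its `x`-part. -/
theorem mixed_core_eq : core 3 M = xPart 3 x M ⊔ core 3 (fixPrime p x) := by
  haveI : Fact (Nat.Prime 3) := ⟨Nat.prime_three⟩
  have hS3 := h.setup_three ht
  have hPM := h.fixPrime_le_mixed hm ht hB hBM
  obtain ⟨hXa, hXM⟩ := h.xPart_avoids hS3 hm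
  set Q := core 3 M
  set X := xPart 3 x M
  have hxM := hm.2.1
  have hPC : fixPrime p x ≤ centralizer ({x} : Set G) := (closure_le _).mpr fun c hc =>
    mem_centralizer_singleton_iff.mpr hc.1.eq
  refine le_antisymm ?_ ?_
  · refine (Coprime.commutator_sup_centralizer (zpowers_le.mpr (le_normalizer_core 3 M hxM))
      (h.coprime (h.not_dvd_of_isPGroup Nat.prime_three hS3.weak.ne (core_isPGroup 3 M)))
      (Or.inl (isSolvable_zpowers' x))).ge.trans (sup_le_sup le_rfl ?_)
    refine le_core (fun c hc => subset_closure ⟨(mem_centralizer_iff.mp hc.2 x (mem_zpowers x)).symm,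
      fun hd => ?_⟩) ?_ ((core_isPGroup 3 M).to_le inf_le_left)
    · refine h.not_dvd_of_isPGroup Nat.prime_three hS3.weak.ne (core_isPGroup 3 M) (hd.trans ?_)
      rw [← Subgroup.orderOf_mk c hc.1]
      exact orderOf_dvd_natCard _
    · refine (le_inf (hPM.trans (le_normalizer_core 3 M)) ?_).trans inf_normalizer_le_normalizer_inf
      rw [← centralizer_singleton_eq]
      exact hPC.trans le_normalizer
  · set R := core 3 (fixPrime p x)
    have hCX := h.centralizer_le_normalizer_xPart hS3 hm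
    have hCR : centralizer ({x} : Set G) ≤ normalizer (R : Set G) :=
      centralizer_le_normalizer_fixPrime.trans (normalizer_le_normalizer_core 3 _)
    have hRC : R ≤ centralizer ({x} : Set G) := (core_le 3 _).trans hPC
    refine (h.member_typed hS3 hm).core_le _ (hXa.1.isPGroup.to_sup_of_normal_left'
      (core_isPGroup 3 _) (hRC.trans hCX)) (sup_le hXM ((core_le 3 _).trans hPM))
      (normalizer_inf_normalizer_le_normalizer_sup _ _ ⟨hXa.1.inv, hCR (self_mem_centralizer x)⟩)
      (le_sup_left.trans le_normalizer) ?_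
    exact inf_le_right.trans
      ((le_inf hCX hCR).trans (normalizer_inf_normalizer_le_normalizer_sup _ _))

/-- A mixed member contains `C(x)`. -/
theorem centralizer_le_mixed : centralizer ({x} : Set G) ≤ M := by
  have hS3 := h.setup_three ht
  have hne : core 3 M ≠ ⊥ := fun e => (h.xPart_avoids hS3 hm).1.1.ne_bot
    (le_bot_iff.mp ((xPart_le hm.2.1).trans e.le))
  haveI : Fact (Nat.Prime 3) := ⟨Nat.prime_three⟩
  rcases hm.1.le_iff.mp (le_normalizer_core 3 M) with e | e
  · exact absurd e (h.hyp.normalizer_ne_top hne (h.hyp.ne_top_of_isPGroup (core_isPGroup 3 M)))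
  refine le_trans ?_ e.le
  rw [h.mixed_core_eq hm ht hB hBM]
  exact (le_inf (h.centralizer_le_normalizer_xPart hS3 hm)
    (centralizer_le_normalizer_fixPrime.trans (normalizer_le_normalizer_core 3 _))).trans
      (normalizer_inf_normalizer_le_normalizer_sup _ _)

omit hB hBM in
/-- Mixed members with one `x`-part are equal. -/
theorem mixed_eq {M' B B' : Subgroup G} (hB : IsObj p x 2 B) (hBM : B ≤ M)
    (hm' : Member p x 3 (bigSet p x) M') (hB' : IsObj p x 2 B') (hBM' : B' ≤ M')
    (hX : xPart 3 x M' = xPart 3 x M) : M' = M := by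
  haveI : Fact (Nat.Prime 3) := ⟨Nat.prime_three⟩
  have hS3 := h.setup_three ht
  have key : ∀ {N : Subgroup G}, Member p x 3 (bigSet p x) N →
      N = normalizer (core 3 N : Set G) := fun {N} hN => by
    rcases hN.1.le_iff.mp (le_normalizer_core 3 N) with e | e
    · exact absurd e (h.hyp.normalizer_ne_top (fun e' => (h.xPart_avoids hS3 hN).1.1.ne_bot
        (le_bot_iff.mp ((xPart_le hN.2.1).trans e'.le))) (h.hyp.ne_top_of_isPGroup (core_isPGroup 3 N)))
    · exact e.symm
  rw [key hm', key hm, h.mixed_core_eq hm' ht hB' hBM', h.mixed_core_eq hm ht hB hBM, hX]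

omit hm hB hBM in
/-- Every member at three has a hub. -/
theorem hubHyp_three : HubHyp p x 3 (bigSet p x) := by
  haveI : Fact (Nat.Prime 3) := ⟨Nat.prime_three⟩
  have hS3 := h.setup_three ht
  intro M hm
  set X := xPart 3 x M
  have hsingle : ∀ {N : Subgroup G}, Member p x 3 (bigSet p x) N →
      (∀ B, IsObj p x 2 B → ¬ B ≤ N) →
      core' p N ≤ xPart 3 x N ⊔ N ⊓ centralizer ({x} : Set G) := by
    intro N hN hno
    obtain ⟨A, hA, hAN⟩ := hN.2.2
    exact h.core'_le_sup
      (h.single_of_no_other hN.1 hN.2.1 (h.member_notMem hN) (Or.inr ⟨rfl, rfl⟩) hA.1 hAN hno)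
  by_cases hmix : ∃ N B, Member p x 3 (bigSet p x) N ∧ xPart 3 x N = X ∧ IsObj p x 2 B ∧ B ≤ N
  · obtain ⟨N, B, hN, hNX, hB, hBN⟩ := hmix
    have hC := h.centralizer_le_mixed hN ht hB hBN
    refine ⟨N, hN.1, hC, fun N' hN' hX' => ?_⟩
    by_cases hno : ∀ B', IsObj p x 2 B' → ¬ B' ≤ N'
    · refine (hsingle hN' hno).trans (sup_le ?_ (inf_le_right.trans hC))
      rw [hX']
      exact hNX ▸ (xPart_le hN.2.1).trans (core_le 3 N)
    · push Not at hno
      obtain ⟨B', hB', hBN'⟩ := hno
      rw [h.mixed_eq hN ht hB hBN hN' hB' hBN' (hX'.trans hNX.symm)]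
      exact core'_le p N
  · push Not at hmix
    obtain ⟨hXa, hXM⟩ := h.xPart_avoids hS3 hm
    obtain ⟨J, hJ, -, hle⟩ :=
      h.exists_coatom_normalizer hS3 hXa.1.isPGroup hXa.1.ne_bot hXa.1.inv
    have hC := (h.centralizer_le_normalizer_xPart hS3 hm).trans hle
    refine ⟨J, hJ, hC, fun N hN hX' => (hsingle hN (hmix N · hN hX')).trans (sup_le ?_ ?_)⟩
    · rw [hX']; exact le_normalizer.trans hle
    · exact inf_le_right.trans hC

omit hB hBM in
/-- All members at three are equal. -/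
theorem members_three_eq {M' : Subgroup G} (hm' : Member p x 3 (bigSet p x) M') : M = M' :=
  h.functor_members_eq (h.setup_three ht) (h.hubHyp_three ht) hm (h.member_three_core hm ht).1 hm'
    (h.member_three_core hm' ht).1

end Ctx

end CfsgLib.TwoGenSolv66
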