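import Cfsg.Agent.TwoGenSolv66.Three
import Cfsg.Agent.LocalEven50.Blocks

/-!
# The members at the prime two

* `coverSet p x` : `bigSet` with the member at three.
* `Ctx.setup_two` : the setup at two, unless a high member exists for `p = 5`.
* `Ctx.member_two_kinds` : a member is pinned by `Ω₁Z` of a Sylow subgroup, or has trivial
  `O_{2'}`, or is the normaliser of a signalizer closure; so there are at most two.
-/

set_option autoImplicit false
set_option linter.unusedSectionVars false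
set_option linter.unusedVariables false
set_option linter.style.haveILetI false

open scoped commutatorElement Pointwise

namespace CfsgLib.TwoGenSolv66

open Subgroup CfsgLib.SolvSig CfsgLib.Transitivity

universe u

/-- The members at three, for trivial cores. -/
noncomputable def threeSet {G : Type*} [Group G] [Finite G] (p : ℕ) (x : G) : Finset (Subgroup G) :=
  (Set.toFinite {M : Subgroup G | IsTriv 3 G ∧ Member p x 3 (bigSet p x) M}).toFinset

open scoped Classical in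
/-- The subgroups to be avoided at two. -/
noncomputable def coverSet {G : Type*} [Group G] [Finite G] (p : ℕ) (x : G) : Finset (Subgroup G) :=
  bigSet p x ∪ threeSet p x

/-- A member pinned by `Ω₁Z` of a Sylow 2-subgroup. -/
def PinnedTwo {G : Type*} [Group G] [Finite G] (J : Subgroup G) : Prop :=
  ∃ S : Sylow 2 G, normalizer (Cfsg.omegaOneCenter 2 (S : Subgroup G) : Set G) ≤ J ∧
    Pinned J (Cfsg.omegaOneCenter 2 (S : Subgroup G))

variable {G : Type u} [Group G] [Finite G] {p : ℕ} [hp : Fact p.Prime] {x : G}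

theorem mem_threeSet {M : Subgroup G} :
    M ∈ threeSet p x ↔ IsTriv 3 G ∧ Member p x 3 (bigSet p x) M := Set.Finite.mem_toFinset _

theorem mem_coverSet {M : Subgroup G} : M ∈ coverSet p x ↔ M ∈ bigSet p x ∨ M ∈ threeSet p x := by
  classical
  exact Finset.mem_union

/-- The centre of a low group is its Frattini subgroup's. -/
theorem inf_centralizer_le_phiSub {y : G} (hy : y ^ 5 = 1) {B : Subgroup G} (hB : IsPGroup 2 B)
    (hlow : ¬ HasRank3 2 B) (hyB : y ∈ normalizer (B : Set G)) (hS : LowSpec y B) :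
    B ⊓ centralizer (B : Set G) ≤ phiSub B := by
  haveI : Fact (Nat.Prime 2) := ⟨Nat.prime_two⟩
  set C := B ⊓ centralizer (B : Set G)
  have hyC : y ∈ normalizer (C : Set G) :=
    (le_inf le_rfl (CharPLocal.normalizer_le_normalizer_centralizer B)).trans
      inf_normalizer_le_normalizer_inf hyB
  by_cases hmv : y ∈ centralizer (C : Set G)
  · exact fun c hc => hS.fix_le ⟨hc.1, mem_centralizer_singleton_iff.mpr
      (mem_centralizer_iff.mp hmv c hc)⟩
  exfalso
  have hab : ∀ v ∈ B, ∀ w ∈ B, Commute v w := fun v hv w hw =>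
    mem_centralizer_iff.mp ((hS.eq_of_moved C inf_le_left hyC hmv).ge hw).2 v hv
  set Φ := phiSub B
  have hΦc : Nat.card Φ ≤ 4 := hS.card_le
  have h16 : Nat.card B = 16 * Nat.card Φ := hS.card_eq
  obtain ⟨u, hu, huΦ, hu2⟩ := exists_involution_not_mem (V := Φ) (W := Φ) (K := B) hS.sq_one hab
    (fun k hk => sq_mem_phiSub hB hk) (by
      have : 0 < Nat.card Φ := Nat.card_pos
      rw [h16]; exact Nat.mul_lt_mul_of_pos_right (by omega) this)
  let Ω : Subgroup G :=
    { carrier := {b | b ∈ B ∧ b * b = 1}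
      one_mem' := ⟨one_mem _, one_mul 1⟩
      mul_mem' := fun {a b} ha hb => ⟨mul_mem ha.1 hb.1, by
        rw [(hab b hb.1 a ha.1).mul_mul_mul_comm, ha.2, hb.2, one_mul]⟩
      inv_mem' := fun {a} ha => ⟨inv_mem ha.1, by rw [← mul_inv_rev, ha.2, inv_one]⟩ }
  have hyΩ : y ∈ normalizer (Ω : Set G) := LocalStructure.mem_normalizer_of_forall fun b hb =>
    ⟨(mem_normalizer_iff.mp hyB b).mp hb.1, by
      rw [show y * b * y⁻¹ * (y * b * y⁻¹) = y * (b * b) * y⁻¹ by group, hb.2]; group⟩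
  have hΩ : Ω = B := hS.eq_of_moved Ω (fun b hb => hb.1) hyΩ fun hc =>
    huΦ (hS.fix_le ⟨hu, mem_centralizer_singleton_iff.mpr (mem_centralizer_iff.mp hc u ⟨hu, hu2⟩)⟩)
  refine hlow ⟨B, le_rfl, ⟨⟨⟨fun a b => Subtype.ext (hab a a.2 b b.2).eq⟩⟩,
    fun a ha => by rw [pow_two]; exact (hΩ.ge ha).2⟩, ?_⟩
  rw [h16]
  have : 0 < Nat.card Φ := Nat.card_pos
  omega

namespace Ctx

variable (h : Ctx G p x)
include h

theorem big_of_mem_threeSet {M : Subgroup G} (hM : M ∈ threeSet p x) : Big x M := by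
  obtain ⟨ht, hm⟩ := mem_threeSet.mp hM
  exact h.member_big (h.setup_three ht) (h.hubHyp_three ht) hm

theorem card_threeSet_le : (threeSet p x).card ≤ 1 := Finset.card_le_one.mpr fun a ha b hb => by
  obtain ⟨ht, hm⟩ := mem_threeSet.mp ha
  exact h.members_three_eq hm ht (mem_threeSet.mp hb).2

theorem big_of_mem_coverSet {M : Subgroup G} (hM : M ∈ coverSet p x) : Big x M :=
  (mem_coverSet.mp hM).elim h.big_of_mem_bigSet h.big_of_mem_threeSet

theorem card_coverSet_le_succ : (coverSet p x).card ≤ (bigSet p x).card + 1 := by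
  classical
  exact (Finset.card_union_le _ _).trans (Nat.add_le_add_left h.card_threeSet_le _)

variable (hw : IsTriv 2 G ∨ p = 5) (hno : p = 5 → ∀ L : Subgroup G, ¬ IsHi x L)
include hw hno

/-- The setup at two. -/
theorem setup_two : Setup p x 2 (coverSet p x) := by
  haveI : Fact (Nat.Prime 2) := ⟨Nat.prime_two⟩
  refine ⟨⟨Nat.prime_two, h.two_ne, by norm_num, hw.imp id fun e => ⟨rfl, e⟩⟩,
    fun L hL => h.big_of_mem_coverSet hL, ?_, fun A hA h3 => ?_, ?_⟩
  · have h1 := h.card_coverSet_le_succ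
    by_cases hp5 : p = 5
    · have := h.card_bigSet_le_two hp5; omega
    · have := h.two_mul_card_bigSet_lt hp5; omega
  · by_contra ht
    have hp5 := hw.resolve_left ht
    obtain ⟨N, hN, hle⟩ := h.hyp.exists_maximal
      (h.hyp.normalizer_ne_top hA.1.ne_bot (h.hyp.ne_top_of_isPGroup hA.1.isPGroup))
    exact hno hp5 N (h.isHi_of_le ht hN (hle hA.1.inv) hA.1 le_rfl hA.1.isPGroup
      (le_normalizer.trans hle) hA.1.inv h3)
  rintro M hM hx ⟨B, hB, hBM⟩
  have hb : M ∉ bigSet p x := fun e => hB.2 M (mem_coverSet.mpr (Or.inl e)) hBM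
  refine h.single_typed (h.single_of_no_other hM hx hb (Or.inl ⟨rfl, rfl⟩) hB.1 hBM fun A hA hAM => ?_)
  obtain ⟨hp5, -, ht3⟩ := h.mixed_low hM hx hb hA hAM hB.1 hBM
  refine hB.2 M (mem_coverSet.mpr (Or.inr (mem_threeSet.mpr
    ⟨ht3, hM, hx, A, ⟨hA, fun L hL => ?_⟩, hAM⟩))) hBM
  exact fun _ => hno hp5 L (h.hi_of_mem_bigSet hp5 ht3 hL)

theorem member_two_single {M : Subgroup G} (hm : Member p x 2 (coverSet p x) M) :
    Single p x 2 M := by
  obtain ⟨B, hB, hBM⟩ := hm.2.2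
  have hb : M ∉ bigSet p x := fun e => hB.2 M (mem_coverSet.mpr (Or.inl e)) hBM
  refine h.single_of_no_other hm.1 hm.2.1 hb (Or.inl ⟨rfl, rfl⟩) hB.1 hBM fun A hA hAM => ?_
  obtain ⟨hp5, -, ht3⟩ := h.mixed_low hm.1 hm.2.1 hb hA hAM hB.1 hBM
  refine hB.2 M (mem_coverSet.mpr (Or.inr (mem_threeSet.mpr
    ⟨ht3, hm.1, hm.2.1, A, ⟨hA, fun L hL => ?_⟩, hAM⟩))) hBM
  exact fun _ => hno hp5 L (h.hi_of_mem_bigSet hp5 ht3 hL)

theorem hubHyp_two : HubHyp p x 2 (coverSet p x) := by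
  haveI : Fact (Nat.Prime 2) := ⟨Nat.prime_two⟩
  have hS := h.setup_two hw hno
  intro M hm
  obtain ⟨hXa, hXM⟩ := h.xPart_avoids hS hm
  obtain ⟨J, hJ, -, hle⟩ := h.exists_coatom_normalizer hS hXa.1.isPGroup hXa.1.ne_bot hXa.1.inv
  have hC := (h.centralizer_le_normalizer_xPart hS hm).trans hle
  refine ⟨J, hJ, hC, fun N hN hX =>
    (h.core'_le_sup (h.member_two_single hw hno hN)).trans (sup_le ?_ (inf_le_right.trans hC))⟩
  rw [hX]
  exact le_normalizer.trans hle

/-- The kinds of members at two. -/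
theorem member_two_kinds {J : Subgroup G} (hm : Member p x 2 (coverSet p x) J) :
    PinnedTwo J ∨ (IsTriv 2 G ∧ core' 2 J = ⊥) ∨
      (¬ IsTriv 2 G ∧ ∃ E : Subgroup G, IsElem3 2 E ∧ J = normalizer (W 2 E : Set G)) := by
  haveI : Fact (Nat.Prime 2) := ⟨Nat.prime_two⟩
  have hS2 := h.setup_two hw hno
  have hH2 := h.hubHyp_two hw hno
  obtain ⟨hXa, hXJ⟩ := h.xPart_avoids hS2 hm
  by_cases hfun : IsTriv 2 G ∧ ∃ E, IsElem3 2 E ∧ E ≤ J
  · obtain ⟨ht, E, hE, hEJ⟩ := hfun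
    exact Or.inr (Or.inl ⟨ht, h.core'_eq_bot_of_triv hS2 ht hm hE hEJ⟩)
  push Not at hfun
  set B := xPart 2 x J
  have hp5 : p = 5 := by
    by_contra hp5
    obtain ⟨E, hEB, hE⟩ := h.obj_rank hXa.1 fun e => hp5 e.2
    exact hfun (hw.resolve_right hp5) E hE (hEB.trans hXJ)
  haveI := h.hyp.sub J hm.1.1
  set K := Cfsg.pPrimeCore 2 ↥J
  set π := QuotientGroup.mk' K
  set U := Cfsg.pCore 2 (↥J ⧸ K)
  by_cases hU : HasRank3 2 U
  · -- the top has rank three
    obtain ⟨P⟩ : Nonempty (Sylow 2 (Cfsg.pPrimePCore 2 ↥J)) := inferInstance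
    set P' := (P : Subgroup (Cfsg.pPrimePCore 2 ↥J)).map (Cfsg.pPrimePCore 2 ↥J).subtype
    have hmap : P'.map π = U := by
      show P'.map π = Cfsg.pCore 2 _
      rw [← PLocal.map_pPrimePCore 2 ↥J, ← PLocal.sylow_pPrimePCore_sup P, Subgroup.map_sup,
        (Subgroup.map_eq_bot_iff (H := Cfsg.pPrimeCore 2 ↥J)).mpr (QuotientGroup.ker_mk' _).ge,
        sup_bot_eq]
    have hP : HasRank3 2 (P'.map J.subtype) := hasRank3_map_subtype (hasRank3_of_map
      (PLocal.injective_comp_subtype_of_coprime (P.2.map _)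
        (by rw [QuotientGroup.ker_mk']; exact PLocal.coprime_card_pPrimeCore 2 ↥J))
      (hmap ▸ hU))
    obtain ⟨E, hEP, hE⟩ := id hP
    have hEJ : E ≤ J := hEP.trans (map_subtype_le _)
    have ht : ¬ IsTriv 2 G := fun ht => hfun ht E hE hEJ
    refine Or.inr (Or.inr ⟨ht, E, hE, ?_⟩)
    exact ((hm.1.le_iff.mp (h.hyp.le_normalizer_W hE hm.1.1 hEJ P hP)).resolve_left
      (h.hyp.normalizer_W_ne_top hE (h.hyp.W_ne_bot hE ht))).symm
  -- pinned
  left
  have hlow : ¬ HighIn x J := by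
    rintro ⟨R, hR, hRJ, hxR, hmv, hR3⟩
    by_cases ht : IsTriv 2 G
    · obtain ⟨E, hER, hE⟩ := hR3
      exact hfun ht E hE (hER.trans hRJ)
    · exact hno hp5 J ⟨hm.1, hm.2.1, ht, R, hR, hRJ, hxR, hmv, hR3⟩
  have hBlow := low_moved hlow hXa.1.isPGroup hXJ hXa.1.inv (obj_moved hXa.1)
  have hSB := low_spec (h.pow_five hp5) hXa.1.isPGroup hBlow hXa.1.inv (obj_moved hXa.1)
  obtain ⟨R, hR⟩ := (hXa.1.isPGroup.comap_subtype (K := J)).exists_le_sylow
  set S := (R : Subgroup ↥J).map J.subtype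
  have hSJ : S ≤ J := map_subtype_le _
  have hBS : B ≤ S := fun b hb => ⟨⟨b, hXJ hb⟩, hR hb, rfl⟩
  have hinj : Function.Injective (π.comp (R : Subgroup ↥J).subtype) :=
    PLocal.injective_comp_subtype_of_coprime R.2
      (by rw [QuotientGroup.ker_mk']; exact PLocal.coprime_card_pPrimeCore 2 ↥J)
  set y := π ⟨x, hm.2.1⟩
  have hy5 : y ^ 5 = 1 := by
    rw [← map_pow, show (⟨x, hm.2.1⟩ : ↥J) ^ 5 = 1 from Subtype.ext (h.pow_five hp5), map_one]
  set B' := B.subgroupOf J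
  have hBcore : B' ≤ Cfsg.pCore 2 ↥J := fun b hb => by
    obtain ⟨c, hc, hcb⟩ := xPart_le hm.2.1 hb
    exact J.subtype_injective hcb ▸ hc
  have hB₁U : B'.map π ≤ U :=
    (map_mono hBcore).trans (Solvable.map_pCore_le (QuotientGroup.mk'_surjective K))
  have hmv₁ : y ∉ centralizer (B'.map π : Set (↥J ⧸ K)) := fun hc => obj_moved hXa.1 <|
    mem_centralizer_iff.mpr fun b hb => by
      have h1 := mem_centralizer_iff.mp hc (π ⟨b, hXJ hb⟩) (mem_map_of_mem π hb)
      have hb' : x * b * x⁻¹ ∈ B := (mem_normalizer_iff.mp hXa.1.inv b).mp hb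
      have h2 : π (⟨x, hm.2.1⟩ * ⟨b, hXJ hb⟩ * (⟨x, hm.2.1⟩ : ↥J)⁻¹) = π ⟨b, hXJ hb⟩ := by
        rw [map_mul, map_mul, map_inv, ← h1, mul_inv_cancel_right]
      have h4 : (π.comp (R : Subgroup ↥J).subtype)
          ⟨⟨x * b * x⁻¹, hXJ hb'⟩, hR hb'⟩ = (π.comp (R : Subgroup ↥J).subtype) ⟨⟨b, hXJ hb⟩, hR hb⟩ :=
        h2
      have h3 : x * b * x⁻¹ = b := congrArg Subtype.val (congrArg Subtype.val (hinj h4))
      exact (mul_inv_eq_iff_eq_mul.mp h3).symm
  have hyU : y ∈ normalizer (U : Set (↥J ⧸ K)) := le_normalizer_of_normal (mem_top y)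
  have hSU := low_spec hy5 (PLocal.isPGroup_pCore 2 _) hU hyU fun hc =>
    hmv₁ (centralizer_le (SetLike.coe_subset_coe.mpr hB₁U) hc)
  have hUB : B'.map π = U := hSU.eq_of_moved _ hB₁U
    (le_normalizer_map π ⟨⟨x, hm.2.1⟩, mem_normalizer_iff.mpr fun c =>
      mem_normalizer_iff.mp hXa.1.inv (c : G), rfl⟩) hmv₁
  have hCB : S ⊓ centralizer (B : Set G) ≤ B := by
    rintro t ⟨⟨t, htR, rfl⟩, htB⟩
    have h1 : π t ∈ U := PLocal.centralizer_pCore_le
      (PLocal.isPSolvable_quotient PLocal.isPSolvable_of_isSolvable _)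
      (PLocal.pPrimeCore_quotient_pPrimeCore_eq_bot 2 ↥J) (by
        rw [← show B'.map π = Cfsg.pCore 2 (↥J ⧸ K) from hUB, mem_centralizer_iff]
        rintro _ ⟨b, hb, rfl⟩
        rw [← map_mul, ← map_mul]
        exact congrArg π (Subtype.ext (mem_centralizer_iff.mp htB (b : G) hb)))
    rw [← hUB] at h1
    obtain ⟨b, hb, hbe⟩ := h1
    have := congrArg Subtype.val (@hinj ⟨b, hR hb⟩ ⟨t, htR⟩ hbe)
    show (t : G) ∈ B
    rw [← show (b : G) = t from congrArg Subtype.val this]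
    exact hb
  set Y := Cfsg.omegaOneCenter 2 S
  have hSp : IsPGroup 2 S := R.2.map _
  have hSne : S ≠ ⊥ := fun e => hXa.1.ne_bot (le_bot_iff.mp (hBS.trans e.le))
  have hYS : Y ≤ S ⊓ centralizer (S : Set G) := PLocal.omegaOne_le 2 _
  have hYB : Y ≤ B ⊓ centralizer (B : Set G) := fun t ht =>
    ⟨hCB ⟨(hYS ht).1, centralizer_le (SetLike.coe_subset_coe.mpr hBS) (hYS ht).2⟩,
      centralizer_le (SetLike.coe_subset_coe.mpr hBS) (hYS ht).2⟩
  have hYx : Y ≤ centralizer ({x} : Set G) := (hYB.trans (inf_centralizer_le_phiSub (h.pow_five hp5)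
    hXa.1.isPGroup hBlow hXa.1.inv hSB)).trans hSB.fixed
  have hxY : x ∈ normalizer (Y : Set G) := centralizer_le_normalizer _ (mem_centralizer_iff.mpr
    fun t ht => mem_centralizer_singleton_iff.mp (hYx ht))
  have hBY : B ≤ normalizer (Y : Set G) :=
    (le_centralizer_iff.mp (hYB.trans inf_le_right)).trans (centralizer_le_normalizer _)
  have hpin : Pinned J Y := fun K' hK' hle =>
    h.member_eq hS2 hH2 ⟨hXa.1.isPGroup, hXa.1.inv, B, hXa, le_rfl⟩ hm hXJ
      ⟨hK', hle hxY, B, hXa, hBY.trans hle⟩ (hBY.trans hle)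
  obtain ⟨K', hK', hle⟩ := h.hyp.exists_maximal (h.hyp.normalizer_ne_top
    (omegaOneCenter_ne_bot' hSp hSne) (h.hyp.ne_top_of_isPGroup (hSp.to_le (hYS.trans inf_le_left))))
  have hNJ : normalizer (Y : Set G) ≤ J := hpin K' hK' hle ▸ hle
  obtain ⟨T, hT⟩ := exists_sylow_of_normalizer_le hSp hSJ (by
    rw [relIndex, subgroupOf, comap_map_eq_self_of_injective J.subtype_injective]
    exact R.not_dvd_index) ((LocalEven50.normalizer_le_normalizer_omegaOneCenter S).trans hNJ)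
  exact ⟨T, hT.symm ▸ hNJ, hT.symm ▸ hpin⟩

/-- Pinned members are equal. -/
theorem pinned_two_eq {J J' : Subgroup G} (hJ : Member p x 2 (coverSet p x) J) (h1 : PinnedTwo J)
    (hJ' : Member p x 2 (coverSet p x) J') (h2 : PinnedTwo J') : J = J' := by
  haveI : Fact (Nat.Prime 2) := ⟨Nat.prime_two⟩
  have hS2 := h.setup_two hw hno
  have hH2 := h.hubHyp_two hw hno
  obtain ⟨S, hN, hpin⟩ := h1
  obtain ⟨S', hN', hpin'⟩ := h2
  obtain ⟨g, hg⟩ := MulAction.exists_smul_eq G S S'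
  refine h.eq_of_pinned (h.member_big hS2 hH2 hJ) (h.member_big hS2 hH2 hJ') hpin (g := g) ?_ hN
  rw [LocalEven50.map_omegaOneCenter (MulAut.conj g).injective]
  rw [← hg, Sylow.coe_subgroup_smul] at hpin'
  exact hpin'

/-- The other members are equal. -/
theorem unpinned_two_eq {J J' : Subgroup G} (hJ : Member p x 2 (coverSet p x) J)
    (h1 : ¬ PinnedTwo J) (hJ' : Member p x 2 (coverSet p x) J') (h2 : ¬ PinnedTwo J') : J = J' := by
  haveI : Fact (Nat.Prime 2) := ⟨Nat.prime_two⟩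
  have hS2 := h.setup_two hw hno
  have hH2 := h.hubHyp_two hw hno
  rcases (h.member_two_kinds hw hno hJ).resolve_left h1 with ⟨ht, hb⟩ | ⟨ht, E, hE, rfl⟩ <;>
    rcases (h.member_two_kinds hw hno hJ').resolve_left h2 with ⟨ht', hb'⟩ | ⟨ht', E', hE', rfl⟩
  · exact h.functor_members_eq hS2 hH2 hJ hb hJ' hb'
  · exact absurd ht ht'
  · exact absurd ht' ht
  obtain ⟨S, hS⟩ := hE.isPGroup.exists_le_sylow
  obtain ⟨S', hS'⟩ := hE'.isPGroup.exists_le_sylow
  obtain ⟨g, hg⟩ := MulAction.exists_smul_eq G S S'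
  have hEg : E.map (MulAut.conj g).toMonoidHom ≤ S' := by
    rw [← hg, Sylow.coe_subgroup_smul]
    exact map_mono hS
  have key : normalizer (W 2 E' : Set G) =
      (normalizer (W 2 E : Set G)).map (MulAut.conj g).toMonoidHom := by
    rw [h.hyp.W_eq_of_pGroup S'.2 hE' (IsElem3.conj hE g) hS' hEg,
      MinTwoGen.W_conj (fun a ha ha1 => IsElem3.point hE ha ha1) g]
    exact (map_equiv_normalizer_eq _ (MulAut.conj g)).symm
  obtain ⟨w, hw', hwx⟩ := key.le hJ'.2.1
  have hgx : g⁻¹ * x * (g⁻¹)⁻¹ ∈ normalizer (W 2 E : Set G) := by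
    have : w = g⁻¹ * x * g := by rw [← hwx]; simp [mul_assoc]
    rw [inv_inv, ← this]; exact hw'
  have hgL : g ∈ normalizer (W 2 E : Set G) := by
    simpa using inv_mem (h.mem_of_conj_mem_big (h.member_big hS2 hH2 hJ) hgx)
  rw [key]
  exact (mem_normalizer_iff_map_conj_eq.mp (le_normalizer hgL)).symm

end Ctx

end CfsgLib.TwoGenSolv66
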