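import Cfsg.Agent.TwoGenSolv66.Members
import Cfsg.Agent.PLocal.Cores

/-!
# Members of a small type

* `Typed p x s H` : the properties of a member of type `s` used for uniqueness.
* `Single p x s H` : all objects in `H` are `s`-groups; such a member is typed.
-/

set_option autoImplicit false
set_option linter.unusedSectionVars false
set_option linter.unusedVariables false
set_option linter.style.haveILetI false

open scoped commutatorElement Pointwise

namespace CfsgLib.TwoGenSolv66

open Subgroup CfsgLib.SolvSig CfsgLib.Transitivity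

universe u

/-- A small prime that is trivial, or two with `p = 5`. -/
structure Weak (p s : ℕ) (G : Type*) [Group G] : Prop where
  prime : s.Prime
  ne : s ≠ p
  small : s < 5
  case : IsTriv s G ∨ (s = 2 ∧ p = 5)

/-- A maximal subgroup through `x` all of whose objects are `s`-groups. -/
structure Single {G : Type*} [Group G] (p : ℕ) (x : G) (s : ℕ) (H : Subgroup G) : Prop where
  coatom : IsCoatom H
  mem : x ∈ H
  weak : Weak p s G
  exists_obj : ∃ A, IsObj p x s A ∧ A ≤ H
  single : ∀ t B, IsObj p x t B → B ≤ H → t = s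

/-- `[O_s(H), x]`. -/
abbrev xPart {G : Type*} [Group G] (s : ℕ) (x : G) (H : Subgroup G) : Subgroup G :=
  ⁅core s H, zpowers x⁆

/-- A member of type `s`. -/
structure Typed {G : Type*} [Group G] (p : ℕ) (x : G) (s : ℕ) (H : Subgroup G) : Prop where
  coatom : IsCoatom H
  mem : x ∈ H
  le_part : ∀ D : Subgroup G, IsPGroup s D → D ≤ H → x ∈ normalizer (D : Set G) →
    ⁅D, zpowers x⁆ ≤ xPart s x H
  core_le : ∀ D : Subgroup G, IsPGroup s D → D ≤ H → x ∈ normalizer (D : Set G) →
    xPart s x H ≤ normalizer (D : Set G) → H ⊓ centralizer ({x} : Set G) ≤ normalizer (D : Set G) →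
    D ≤ core s H

variable {G : Type u} [Group G] [Finite G] {p : ℕ} [hp : Fact p.Prime] {x : G} {s : ℕ}
  {H : Subgroup G}

theorem xPart_le (hx : x ∈ H) : xPart s x H ≤ core s H :=
  Coprime.commutator_le_of_le_normalizer (zpowers_le.mpr (le_normalizer_core s H hx))

namespace Ctx

variable (h : Ctx G p x) (hH : Single p x s H)
include h hH

theorem single_not_dvd_core' : ¬ p ∣ Nat.card (core' p H) :=
  PLocal.not_dvd_iff_coprime.mp (card_core'_coprime p H)

/-- Invariant groups of other primes are centralised. -/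
theorem mem_centralizer_of_ne {t : ℕ} (ht : t.Prime) (hne : t ≠ p) (hts : t ≠ s) {U : Subgroup G}
    (hU : IsPGroup t U) (hUH : U ≤ H) (hxU : x ∈ normalizer (U : Set G)) :
    x ∈ centralizer (U : Set G) := by
  by_contra hmv
  obtain ⟨hobj, hle⟩ := h.obj_of_moved ht hne hU hxU hmv
  exact hts (hH.single t _ hobj (hle.trans hUH))

/-- `x` centralises `O_{p'}(H)` modulo `O_s(H)`. -/
theorem commutator_core'_le : ⁅core' p H, zpowers x⁆ ≤ core s H := by
  haveI := Fact.mk hH.weak.prime
  haveI hsolv := h.hyp.sub H hH.coatom.1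
  set N := Cfsg.pCore s ↥H with hN
  let π := QuotientGroup.mk' N
  set K := Cfsg.pPrimeCore p ↥H with hK
  set x' : ↥H := ⟨x, hH.mem⟩ with hx'
  have hcop : ¬ p ∣ Nat.card K :=
    PLocal.not_dvd_iff_coprime.mp (PLocal.coprime_card_pPrimeCore p ↥H)
  have hKn : (K.map π).Normal := (inferInstance : K.Normal).map π (QuotientGroup.mk'_surjective N)
  have hcK : (Nat.card (zpowers (π x'))).Coprime (Nat.card (K.map π)) := by
    refine Nat.Coprime.coprime_dvd_left (k := p) ?_
      (Nat.Coprime.coprime_dvd_right (card_map_dvd K π) ((hp.out.coprime_iff_not_dvd).mpr hcop))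
    rw [Nat.card_zpowers]
    exact orderOf_dvd_of_pow_eq_one (by
      rw [← map_pow, show x' ^ p = 1 from Subtype.ext h.pow_eq, map_one])
  have hc : zpowers (π x') ≤ centralizer (K.map π : Set (↥H ⧸ N)) := by
    haveI : Group.IsSolvable (↥H ⧸ N) := inferInstance
    refine le_centralizer_of_cores inferInstance
      (le_normalizer_of_normal (H := K.map π)) hcK fun t ht => ?_
    set V := core t (K.map π) with hV
    have hVp : IsPGroup t V := core_isPGroup t _
    rcases eq_or_ne t p with rfl | htp
    · have hbot : V = ⊥ := eq_bot_of_card_eq _ <| Nat.eq_one_of_dvd_coprimes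
        (a := Nat.card (K.map π)) (b := Nat.card V) (by
          obtain ⟨k, hk⟩ := IsPGroup.iff_card.mp hVp
          rw [hk]
          exact (((hp.out.coprime_iff_not_dvd).mpr hcop).coprime_dvd_right
            (card_map_dvd K π)).symm.pow_right k) (card_dvd_of_le (core_le t _)) dvd_rfl
      rw [hbot]
      exact fun g _ => mem_centralizer_iff.mpr fun z hz => by rw [mem_bot.mp hz, one_mul, mul_one]
    rcases eq_or_ne t s with rfl | hts
    · have hbot : V = ⊥ := by
        haveI : V.Normal := normalizer_eq_top_iff.mp (top_le_iff.mp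
          ((normalizer_eq_top (K.map π)).ge.trans (normalizer_le_normalizer_core t _)))
        rw [← le_bot_iff]
        refine (PLocal.le_pCore hVp).trans ?_
        rw [PLocal.pCore_quotient_pCore_eq_bot]
      rw [hbot]
      exact fun g _ => mem_centralizer_iff.mpr fun z hz => by rw [mem_bot.mp hz, one_mul, mul_one]
    -- `t`-groups
    haveI := Fact.mk ht
    set W := K ⊓ V.comap π with hW
    have hWV : W.map π = V := by
      refine le_antisymm ((map_mono inf_le_right).trans (map_comap_le _ _)) fun v hv => ?_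
      obtain ⟨k, hk, rfl⟩ := core_le t _ hv
      exact ⟨k, ⟨hk, hv⟩, rfl⟩
    have hxW : x' ∈ normalizer (W : Set ↥H) := by
      haveI : V.Normal := normalizer_eq_top_iff.mp (top_le_iff.mp
        ((normalizer_eq_top (K.map π)).ge.trans (normalizer_le_normalizer_core t _)))
      haveI : W.Normal := inferInstance
      exact (normalizer_eq_top W).ge (mem_top _)
    set W' := W.map H.subtype with hW'
    have hxW' : x ∈ normalizer (W' : Set G) :=
      le_normalizer_map H.subtype ⟨x', hxW, rfl⟩
    have hW'p : ¬ p ∣ Nat.card W' := fun hd => hcop <| by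
      rw [hW', card_map_of_injective H.subtype_injective] at hd
      exact hd.trans (card_dvd_of_le inf_le_left)
    obtain ⟨P, hP⟩ := Coprime.exists_invariant_sylow (zpowers_le.mpr hxW') (h.coprime hW'p)
      (Or.inl (isSolvable_zpowers' x)) t
    have hPc := h.mem_centralizer_of_ne hH ht htp hts (P.2.map _)
      ((map_subtype_le _).trans (map_subtype_le _)) (hP (mem_zpowers x))
    let f : ↥W' →* ↥H ⧸ N := π.comp (Subgroup.inclusion (map_subtype_le W))
    have hf : f.range = V := by
      rw [← hWV]
      ext v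
      constructor
      · rintro ⟨⟨_, w, hw, rfl⟩, rfl⟩; exact ⟨w, hw, rfl⟩
      · rintro ⟨w, hw, rfl⟩; exact ⟨⟨(w : G), w, hw, rfl⟩, rfl⟩
    let P' : Sylow t f.range := P.mapSurjective f.rangeRestrict_surjective
    have htop : (P' : Subgroup f.range) = ⊤ :=
      (P'.is_maximal' (Q := ⊤) ((hf ▸ hVp : IsPGroup t f.range).of_equiv Subgroup.topEquiv.symm)
        le_top).symm
    rw [zpowers_le, mem_centralizer_iff]
    intro v hv
    have hv' : v ∈ f.range := hf.symm ▸ hv
    have hmem : (⟨v, hv'⟩ : f.range) ∈ (P' : Subgroup f.range) := htop ▸ mem_top _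
    obtain ⟨w, hw, hwe⟩ := hmem
    have he : v = f w := (congrArg Subtype.val hwe).symm
    have h1 : (w : G) * x = x * (w : G) := mem_centralizer_iff.mp hPc _ ⟨w, hw, rfl⟩
    rw [he]
    show π _ * π x' = π x' * π _
    rw [← map_mul, ← map_mul]
    exact congrArg π (Subtype.ext h1)
  rw [commutator_le]
  rintro _ ⟨k, hk, rfl⟩ g hg
  obtain ⟨i, rfl⟩ := mem_zpowers_iff.mp hg
  refine ⟨⁅k, x' ^ i⁆, (QuotientGroup.eq_one_iff _).mp ?_, by simp [commutatorElement_def, hx']⟩
  show π ⁅k, x' ^ i⁆ = 1
  rw [map_commutatorElement, map_zpow, commutatorElement_eq_one_iff_commute]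
  exact (show Commute (π k) (π x') from
    mem_centralizer_iff.mp (hc (mem_zpowers _)) _ (mem_map_of_mem π hk)).zpow_right i

/-- Objects lie in `[O_s(H), x]`. -/
theorem obj_le_xPart {t : ℕ} {A : Subgroup G} (hA : IsObj p x t A) (hAH : A ≤ H) :
    A ≤ xPart s x H := by
  have h1 : A ≤ core s H := hA.eq.ge.trans
    ((commutator_mono (h.obj_le_core' hA hH.coatom.1 hH.mem hAH) le_rfl).trans
      (h.commutator_core'_le hH))
  exact hA.eq.ge.trans (commutator_mono h1 le_rfl)

/-- Invariant `s`-subgroups of `H` have commutator with `x` in `[O_s(H), x]`. -/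
theorem commutator_le_xPart {R : Subgroup G} (hR : IsPGroup s R) (hRH : R ≤ H)
    (hxR : x ∈ normalizer (R : Set G)) : ⁅R, zpowers x⁆ ≤ xPart s x H := by
  by_cases hc : x ∈ centralizer (R : Set G)
  · have : ⁅R, zpowers x⁆ = ⊥ := by
      rw [commutator_comm, commutator_eq_bot_iff_le_centralizer, zpowers_le]; exact hc
    rw [this]; exact bot_le
  · obtain ⟨hobj, hle⟩ := h.obj_of_moved hH.weak.prime hH.weak.ne hR hxR hc
    exact h.obj_le_xPart hH hobj (hle.trans hRH)

theorem xPart_obj : IsObj p x s (xPart s x H) ∧ xPart s x H ≤ H := by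
  obtain ⟨A, hA, hAH⟩ := hH.exists_obj
  have hmv : x ∉ centralizer (core s H : Set G) := fun hc => hA.ne_bot <| le_bot_iff.mp <| by
    refine (h.obj_le_xPart hH hA hAH).trans ?_
    show ⁅core s H, zpowers x⁆ ≤ ⊥
    rw [le_bot_iff, commutator_comm, commutator_eq_bot_iff_le_centralizer, zpowers_le]
    exact hc
  obtain ⟨hobj, hle⟩ := h.obj_of_moved hH.weak.prime hH.weak.ne (core_isPGroup s H)
    (le_normalizer_core s H hH.mem) hmv
  exact ⟨hobj, hle.trans (core_le s H)⟩

theorem core_le_core' : core s H ≤ core' p H := by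
  haveI := Fact.mk hH.weak.prime
  refine le_core' (core_le s H) (le_normalizer_core s H) ?_
  obtain ⟨k, hk⟩ := IsPGroup.iff_card.mp (core_isPGroup s H)
  rw [hk]
  exact ((Nat.coprime_primes hH.weak.prime hp.out).mpr hH.weak.ne).pow_left k

theorem core'_le_sup : core' p H ≤ xPart s x H ⊔ H ⊓ centralizer ({x} : Set G) := by
  set K := core' p H
  have hxK : zpowers x ≤ normalizer (K : Set G) := zpowers_le.mpr
    (normalizer_le_normalizer_core' p H (le_normalizer hH.mem))
  have hcop := h.coprime (h.single_not_dvd_core' hH)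
  refine (Coprime.commutator_sup_centralizer hxK hcop (Or.inl (isSolvable_zpowers' x))).ge.trans
    (sup_le_sup ?_ (le_inf (inf_le_left.trans (core'_le p H)) ?_))
  · rw [← Coprime.commutator_commutator_eq hxK hcop]
    exact commutator_mono (h.commutator_core'_le hH) le_rfl
  · refine inf_le_right.trans (centralizer_le ?_)
    exact Set.singleton_subset_iff.mpr (mem_zpowers x)

theorem single_typed : Typed p x s H := by
  haveI := Fact.mk hH.weak.prime
  refine ⟨hH.coatom, hH.mem, fun D hD hDH hxD => h.commutator_le_xPart hH hD hDH hxD, ?_⟩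
  intro D hD hDH hxD hXD hCD
  set K := core' p H
  haveI := h.hyp.sub H hH.coatom.1
  have hKD : K ≤ normalizer (D : Set G) := (h.core'_le_sup hH).trans (sup_le hXD hCD)
  have hDK : D ≤ K := by
    intro d hd
    let K' := Cfsg.pPrimeCore p ↥H
    let π := QuotientGroup.mk' K'
    set T := Cfsg.pCore p (↥H ⧸ K') with hT
    set d' : ↥H := ⟨d, hDH hd⟩
    set x' : ↥H := ⟨x, hH.mem⟩
    have hdx : Commute (π d') (π x') := by
      rw [← commutatorElement_eq_one_iff_commute, ← map_commutatorElement]
      refine (QuotientGroup.eq_one_iff _).mpr ?_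
      obtain ⟨k, hk, hke⟩ : ⁅d, x⁆ ∈ K :=
        ((h.commutator_le_xPart hH hD hDH hxD).trans ((xPart_le hH.mem).trans
          (h.core_le_core' hH))) (commutator_mem_commutator hd (mem_zpowers x))
      have e : k = ⁅d', x'⁆ := Subtype.ext (by rw [← H.coe_subtype, hke]; simp [d', x', commutatorElement_def])
      exact e ▸ hk
    have hcopT : ∀ q : ↥H ⧸ K', q ∈ (D.subgroupOf H).map π → q ∈ T → q = 1 := fun q h1 h2 =>
      mem_bot.mp ((IsPGroup.disjoint_of_ne s p hH.weak.ne _ _
        (hD.comap_subtype.map π) (PLocal.isPGroup_pCore p _)).eq_bot.le ⟨h1, h2⟩)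
    haveI hTn : T.Normal := inferInstance
    have hfix : T ⊓ centralizer (zpowers (π x') : Set (↥H ⧸ K')) ≤
        centralizer (zpowers (π d') : Set (↥H ⧸ K')) := by
      rintro q ⟨hqT, hqx⟩
      obtain ⟨t, rfl⟩ := QuotientGroup.mk'_surjective K' q
      obtain ⟨c, hc, htc⟩ := Coprime.exists_fixed_mem_coset (A := zpowers x') (N := K') (k := t)
        (le_normalizer_of_normal) (by
          refine Nat.Coprime.coprime_dvd_left (k := p) ?_ (PLocal.coprime_card_pPrimeCore p ↥H).symm
          rw [Nat.card_zpowers]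
          exact orderOf_dvd_of_pow_eq_one (Subtype.ext h.pow_eq))
        (Or.inl (isSolvable_zpowers' x')) (fun a ha => (QuotientGroup.eq_one_iff _).mp (by
          have e : π a * π t = π t * π a := mem_centralizer_iff.mp hqx _ (by
            obtain ⟨i, rfl⟩ := mem_zpowers_iff.mp ha
            rw [map_zpow]; exact zpow_mem (mem_zpowers _) i)
          show π (t⁻¹ * (a * t * a⁻¹)) = 1
          rw [map_mul, map_mul, map_mul, map_inv, map_inv, e]; group))
      have htc' : π t = π c := by
        have : π (t⁻¹ * c) = 1 := (QuotientGroup.eq_one_iff _).mpr htc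
        rwa [map_mul, map_inv, inv_mul_eq_one] at this
      have hcx : (c : G) ∈ H ⊓ centralizer ({x} : Set G) := ⟨c.2,
        mem_centralizer_singleton_iff.mpr
          (congrArg Subtype.val (mem_centralizer_iff.mp hc x' (mem_zpowers x'))).symm⟩
      have hcomm : Commute (π c) (π d') := by
        rw [← commutatorElement_eq_one_iff_commute]
        refine hcopT _ ?_ ?_
        · rw [← map_commutatorElement]
          refine mem_map_of_mem π ?_
          show ((⁅c, d'⁆ : ↥H) : G) ∈ D
          rw [commutatorElement_def]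
          push_cast
          exact mul_mem ((mem_normalizer_iff.mp (hCD hcx) _).mp hd) (inv_mem hd)
        · rw [commutatorElement_def, mul_assoc (π c * π d'), ← htc', mul_assoc (π t)]
          exact mul_mem hqT (by
            have := hTn.conj_mem _ (inv_mem hqT) (π d'); rwa [mul_assoc] at this)
      rw [mem_centralizer_iff]
      intro z hz
      obtain ⟨i, rfl⟩ := mem_zpowers_iff.mp hz
      show π d' ^ i * π t = π t * π d' ^ i
      rw [htc']; exact ((hcomm.zpow_right i).symm).eq
    have hdc : π d' ∈ centralizer (T : Set (↥H ⧸ K')) := by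
      refine Coprime.le_centralizer_of_inf_centralizer_le (p := p) (U := T) (P := zpowers (π x'))
        (Q := zpowers (π d')) ?_ ?_ (PLocal.isPGroup_pCore p _) ?_
        le_normalizer_of_normal le_normalizer_of_normal hfix (mem_zpowers _)
      · rw [← MonoidHom.map_zpowers]; exact (h.isPGroup.comap_subtype.to_le (zpowers_le.mpr
          (show x' ∈ (zpowers x).subgroupOf H from mem_zpowers x))).map π
      · obtain ⟨k, hk⟩ := hD ⟨d, hd⟩
        refine Nat.Coprime.coprime_dvd_left (k := s ^ k) ?_
          (((Nat.coprime_primes hH.weak.prime hp.out).mpr hH.weak.ne).pow_left k)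
        rw [Nat.card_zpowers]
        exact orderOf_dvd_of_pow_eq_one (by
          rw [← map_pow, show d' ^ s ^ k = 1 from Subtype.ext (by simpa [d'] using congrArg Subtype.val hk), map_one])
      · rw [zpowers_le, mem_centralizer_iff]
        intro z hz
        obtain ⟨i, rfl⟩ := mem_zpowers_iff.mp hz
        exact (hdx.zpow_left i).eq
    have h1 : π d' = 1 := hcopT _ (mem_map_of_mem π hd) (PLocal.centralizer_pCore_le
      (PLocal.isPSolvable_quotient PLocal.isPSolvable_of_isSolvable _)
      (PLocal.pPrimeCore_quotient_pPrimeCore_eq_bot p ↥H) hdc)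
    exact ⟨d', (QuotientGroup.eq_one_iff _).mp h1, rfl⟩
  refine le_trans (le_core (K := K) hDK hKD hD) (le_core ((core_le s K).trans (core'_le p H)) ?_
    (core_isPGroup s K))
  exact (le_normalizer.trans (normalizer_le_normalizer_core' p H)).trans
    (normalizer_le_normalizer_core s K)

end Ctx

end CfsgLib.TwoGenSolv66
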